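import Cfsg.Agent.H422.PiSieve
import Cfsg.Agent.H212.SuzFive.ThreeNorm
import Cfsg.Agent.OddHalf.Table.OutSuz
import Cfsg.Agent.H940.EngLoc
import Cfsg.Agent.H904.SylOne
import Cfsg.Agent.S1694
import Cfsg.Agent.SporadicA.M11Norm3
import Cfsg.Agent.Cit.Eleven

/-!
# S3876: the row `Suz` (helper422, task 3543)

`row_suz` : if `2, 3 ∈ π` and every π-subgroup lies in a Hall π-subgroup, and these are conjugate, all primes of `|Suz|`
are in `π`.  The index `n` of a Hall π-subgroup satisfies `n ≡ 1 (mod 3)` (`|N(P)| ∣ 3⁵·144`, `P` Sylow 3: `N(P) ≤ 3⁵:M₁₁`)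
and `n ≡ 1, 5 (mod 11)` if `11 ∈ π` (`|N| = 110`): so `n = 1`.
-/

set_option autoImplicit false

namespace Cfsg.Agent.H422.PiSuz

open Cfsg Subgroup Cfsg.Agent.H543.PiBS
open Cfsg.Agent.SuzThree.Elementary Cfsg.Agent.SuzThree.NormElts Cfsg.Agent.SuzThree.NormAct

universe u

theorem card : Nat.card Spor.Suz = 448345497600 := Cfsg.Agent.SporadicRecognition.SuzOrder.card_Suz

theorem fin : Finite Spor.Suz := Nat.finite_of_card_ne_zero (by rw [card]; decide)

theorem simple : IsSimpleGroup Spor.Suz := Cfsg.Agent.S1694.result.1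

theorem not_comm : ¬ ∀ a b : Spor.Suz, a * b = b * a := by
  intro h
  haveI := fin
  haveI := simple
  letI : CommGroup Spor.Suz := { (inferInstance : Group Spor.Suz) with mul_comm := h }
  have h1 := (IsSimpleGroup.prime_card (α := Spor.Suz))
  rw [card] at h1
  rcases h1.eq_one_or_self_of_dvd 2 (by decide +kernel) with h2 | h2 <;> exact absurd h2 (by decide +kernel)

/-- the Sylow 11-subgroups (the proof of helper212's `data11`) -/
theorem data11 {R : Subgroup Spor.Suz} (hR : Nat.card R = 11) :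
    Nat.card (centralizer (R : Set Spor.Suz)) = 11 ∧ Nat.card (normalizer (R : Set Spor.Suz)) = 110 := by
  haveI := fin
  haveI := simple
  have ho : orderOf Cfsg.Agent.OddHalf.Table.SuzRep.x = 11 := Cfsg.Agent.OddHalf.Table.OutSuz.order_x
  have h : centralizer ({Cfsg.Agent.OddHalf.Table.SuzRep.x} : Set Spor.Suz) =
      zpowers Cfsg.Agent.OddHalf.Table.SuzRep.x := by
    apply le_antisymm
    · intro c hc
      obtain ⟨i, rfl⟩ := Cfsg.Agent.OddHalf.Table.OutSuz.cent_x c (mem_centralizer_singleton_iff.1 hc)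
      exact ⟨i, zpow_natCast _ _⟩
    · exact zpowers_le.2 (mem_centralizer_singleton_iff.2 rfl)
  have hR0 : Nat.card (zpowers (Cfsg.Agent.OddHalf.Table.SuzRep.x : Spor.Suz)) = 11 := by rw [Nat.card_zpowers, ho]
  refine H940.Eng.cn_exact not_comm card (by decide +kernel) (by decide +kernel) (fC := [(11, 1)]) (by decide +kernel)
    hR0 ?_ (by decide +kernel) hR
  rw [H904.SylOne.centralizer_zpowers_eq, h, hR0]
  decide +kernel

/-- the order of `N(P)`, `P` a Sylow 3-subgroup of `Suz` -/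
theorem card_normalizer_three : ∃ (_ : Fact (Nat.Prime 3)) (P : Sylow 3 Spor.Suz),
    Nat.card ↥(normalizer ((P : Subgroup Spor.Suz) : Set Spor.Suz)) ∣ 3 ^ 5 * 144 := by
  have hfin : Finite Spor.Suz := fin
  obtain ⟨h3, P, hP⟩ := H212.SuzFive.exists_full
  refine ⟨h3, P, ?_⟩
  have hPN : (P : Subgroup Spor.Suz) ≤ NA := le_normalizer.trans hP
  let f : ↥NA →* ↥NA ⧸ A0.subgroupOf NA := QuotientGroup.mk' (A0.subgroupOf NA)
  have hf : Function.Surjective f := QuotientGroup.mk'_surjective _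
  have hiso := Cfsg.Agent.SuzThree.NormAct.isoM11
  have hfinQ : Finite (↥NA ⧸ A0.subgroupOf NA) := inferInstance
  have hM : IsM11 (↥NA ⧸ A0.subgroupOf NA) := Cfsg.Agent.Cit.Eleven.isM11 hiso
  let P' : Sylow 3 ↥NA := P.subtype hPN
  let Q : Sylow 3 (↥NA ⧸ A0.subgroupOf NA) := P'.mapSurjective hf
  have hQ : Nat.card ↥(normalizer ((Q : Subgroup (↥NA ⧸ A0.subgroupOf NA)) : Set (↥NA ⧸ A0.subgroupOf NA))) = 144 :=
    SporadicA.M11Norm3.card_normalizer_three hM Q
  set M : Subgroup Spor.Suz := normalizer ((P : Subgroup Spor.Suz) : Set Spor.Suz) with hMdef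
  set M' : Subgroup ↥NA := M.subgroupOf NA with hM'
  have hc1 : Nat.card ↥M = Nat.card ↥M' := (Nat.card_congr (subgroupOfEquivOfLe hP).toEquiv).symm
  have hle : M'.map f ≤ normalizer ((Q : Subgroup (↥NA ⧸ A0.subgroupOf NA)) : Set (↥NA ⧸ A0.subgroupOf NA)) := by
    rintro _ ⟨g, hg, rfl⟩
    rw [mem_normalizer_iff]
    have hg' : (g : Spor.Suz) ∈ M := mem_subgroupOf.1 hg
    have key : ∀ g : ↥NA, (g : Spor.Suz) ∈ M → ∀ y : ↥NA ⧸ A0.subgroupOf NA,
        y ∈ (Q : Subgroup (↥NA ⧸ A0.subgroupOf NA)) → f g * y * (f g)⁻¹ ∈ (Q : Subgroup (↥NA ⧸ A0.subgroupOf NA)) := by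
      rintro g hg _ ⟨x, hx, rfl⟩
      refine ⟨g * x * g⁻¹, ?_, by rw [map_mul, map_mul, map_inv]⟩
      change ((g * x * g⁻¹ : ↥NA) : Spor.Suz) ∈ (P : Subgroup Spor.Suz)
      have hx' : (x : Spor.Suz) ∈ (P : Subgroup Spor.Suz) := hx
      exact (mem_normalizer_iff.1 hg (x : Spor.Suz)).1 hx'
    intro y
    constructor
    · exact key g hg' y
    · intro h
      have h1 := key g⁻¹ (inv_mem hg') _ h
      rw [map_inv, inv_inv] at h1
      have e : (f g)⁻¹ * (f g * y * (f g)⁻¹) * f g = y := by group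
      rwa [e] at h1
  have hker : Nat.card ↥(A0.subgroupOf NA) ∣ 3 ^ 5 := by
    have h1 : A0 ≤ NA := le_normalizer
    rw [Nat.card_congr (subgroupOfEquivOfLe h1).toEquiv, card_A0]
    norm_num
  have h5 : Nat.card ↥M' ∣ Nat.card ↥(A0.subgroupOf NA) * Nat.card ↥(M'.map f) := by
    have h1 : Nat.card ↥(M'.map f) = (f.comp M'.subtype).ker.index := by
      rw [index_ker, MonoidHom.range_comp, M'.range_subtype]
    have h2 : Nat.card ↥(f.comp M'.subtype).ker ∣ Nat.card ↥(A0.subgroupOf NA) := by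
      have h3 : (f.comp M'.subtype).ker.map M'.subtype ≤ A0.subgroupOf NA := by
        rintro _ ⟨x, hx, rfl⟩
        exact (QuotientGroup.eq_one_iff _).1 hx
      rw [← card_map_of_injective M'.subtype_injective]
      exact card_dvd_of_le h3
    rw [h1, ← (f.comp M'.subtype).ker.card_mul_index]
    exact Nat.mul_dvd_mul_right h2 _
  rw [hc1]
  refine h5.trans (Nat.mul_dvd_mul hker ?_)
  rw [← hQ]
  exact card_dvd_of_le hle

/-- the numerical part -/
theorem num : ∀ n ∈ Nat.divisors 25025, n % 3 = 1 → (5 ∣ n → 25 ∣ n) →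
    (11 ∣ n ∨ n % 11 = 1 ∨ n % 11 = 5) → n = 1 := by
  decide +kernel

theorem index_eq_one {π : Set ℕ} (h2 : 2 ∈ π) (h3 : 3 ∈ π) (hD : DC π Spor.Suz) {H : Subgroup Spor.Suz}
    (hH : IsPiHall π H) : H.index = 1 := by
  have hfin : Finite Spor.Suz := fin
  have hcard : Nat.card Spor.Suz = 448345497600 := card
  have hmul : Nat.card H * H.index = 448345497600 := by rw [H.card_mul_index, hcard]
  have n2 : ¬ 2 ∣ H.index := hH.2 2 Nat.prime_two h2
  have n3 : ¬ 3 ∣ H.index := hH.2 3 Nat.prime_three h3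
  have hdvd : H.index ∣ 25025 := by
    have h4 : H.index ∣ (2 ^ 13 * 3 ^ 7) * 25025 := by
      rw [show (2 ^ 13 * 3 ^ 7) * 25025 = 448345497600 by norm_num, ← hmul]
      exact Dvd.intro_left _ rfl
    refine Nat.Coprime.dvd_of_dvd_mul_left ?_ h4
    exact Nat.Coprime.mul_right (Nat.Coprime.pow_right _ ((Nat.Prime.coprime_iff_not_dvd Nat.prime_two).2 n2).symm)
      (Nat.Coprime.pow_right _ ((Nat.Prime.coprime_iff_not_dvd Nat.prime_three).2 n3).symm)
  apply num _ (Nat.mem_divisors.2 ⟨hdvd, by norm_num⟩)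
  · -- the prime 3
    obtain ⟨_, P, hP⟩ := card_normalizer_three
    obtain ⟨m, hm1, hm2, hm3⟩ := PiSieve.sieve hD hH h3 P
    have h5 : m = 1 := by
      by_contra hne
      obtain ⟨p, hp, hpm⟩ := Nat.exists_prime_and_dvd hne
      have h6 : p ∣ 3 ^ 5 * 144 := hpm.trans (hm1.trans hP)
      have h7 : p ∣ 2 ^ 4 * 3 ^ 7 := by
        rw [show 2 ^ 4 * 3 ^ 7 = 3 ^ 5 * 144 by norm_num]
        exact h6
      rcases hp.dvd_mul.1 h7 with h8 | h8
      · exact hm2 p (((Nat.prime_dvd_prime_iff_eq hp Nat.prime_two).1 (hp.dvd_of_dvd_pow h8)).symm ▸ h2) hp hpm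
      · exact hm2 p (((Nat.prime_dvd_prime_iff_eq hp Nat.prime_three).1 (hp.dvd_of_dvd_pow h8)).symm ▸ h3) hp hpm
    rw [h5] at hm3
    exact hm3
  · -- the prime 5
    intro h5
    have h5π : 5 ∉ π := fun h => hH.2 5 (by norm_num) h h5
    have h6 : ¬ 5 ∣ Nat.card H := fun h => h5π (hH.1 5 (by norm_num) h)
    have h7 : (5 ^ 2).Coprime (Nat.card H) := by
      apply Nat.Coprime.pow_left
      exact (Nat.Prime.coprime_iff_not_dvd (by norm_num)).2 h6
    have h8 : 5 ^ 2 ∣ Nat.card H * H.index := by rw [hmul]; norm_num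
    exact h7.dvd_of_dvd_mul_left h8
  · -- the prime 11
    by_cases h11 : 11 ∈ π
    · right
      haveI : Fact (Nat.Prime 11) := ⟨by norm_num⟩
      obtain ⟨R⟩ : Nonempty (Sylow 11 Spor.Suz) := inferInstance
      have hRc : Nat.card (R : Subgroup Spor.Suz) = 11 := by
        rw [R.card_eq_multiplicity, hcard]
        have e1 : (448345497600 : ℕ) = 11 ^ 1 * 40758681600 := by norm_num
        have e2 : (448345497600 : ℕ).factorization 11 = 1 := by
          rw [e1, Nat.factorization_mul (by norm_num) (by norm_num), Finsupp.add_apply,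
            Nat.Prime.factorization_pow (by norm_num), Finsupp.single_eq_same,
            Nat.factorization_eq_zero_of_not_dvd (by norm_num)]
        rw [e2, pow_one]
      obtain ⟨m, hm1, hm2, hm3⟩ := PiSieve.sieve hD hH h11 R
      have hN := (data11 hRc).2
      rw [hN] at hm1
      have h6 : ∀ m ∈ Nat.divisors 110, ¬ 2 ∣ m → ¬ 11 ∣ m → m = 1 ∨ m = 5 := by decide +kernel
      rcases h6 m (Nat.mem_divisors.2 ⟨hm1, by norm_num⟩) (hm2 2 h2 Nat.prime_two) (hm2 11 h11 (by norm_num)) with h7 | h7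
      · left
        rw [h7] at hm3
        exact hm3
      · right
        rw [h7] at hm3
        exact hm3
    · left
      have h6 : ¬ 11 ∣ Nat.card H := fun h => h11 (hH.1 11 (by norm_num) h)
      have h7 : Nat.Coprime 11 (Nat.card H) := (Nat.Prime.coprime_iff_not_dvd (by norm_num)).2 h6
      have h8 : 11 ∣ Nat.card H * H.index := by rw [hmul]; norm_num
      exact h7.dvd_of_dvd_mul_left h8

theorem row_model {π : Set ℕ} (h2 : 2 ∈ π) (h3 : 3 ∈ π) (hD : DC π Spor.Suz) : PiGrp π Spor.Suz := by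
  obtain ⟨H, hH⟩ := hD.exists_hall
  intro p hp hd
  apply hH.1 p hp
  rw [← H.card_mul_index, index_eq_one h2 h3 hD hH, mul_one] at hd
  exact hd

/-- **Row `Suz` of S3876** -/
theorem row_suz {S : Type u} [Group S] [Finite S] (h : Cfsg.Spor.IsoSuz S) {π : Set ℕ} (h2 : 2 ∈ π) (h3 : 3 ∈ π)
    (hD : DC π S) : PiGrp π S := by
  obtain ⟨e⟩ := h
  intro p hp hd
  refine row_model h2 h3 (hD.congr e) p hp ?_
  rwa [← Nat.card_congr e.toEquiv]

end Cfsg.Agent.H422.PiSuz
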