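import Mathlib

/-!
# Elements of order `pq` : a criterion, and order fifteen in alternating groups
-/

set_option autoImplicit false

open Equiv

namespace Cfsg.Agent.H422.Elim

theorem orderOf_pq {G : Type*} [Group G] {g : G} {p q : ℕ} (hp : p.Prime) (hq : q.Prime)
    (h : g ^ (p * q) = 1) (h1 : g ^ p ≠ 1) (h2 : g ^ q ≠ 1) : orderOf g = p * q := by
  refine orderOf_eq_of_pow_and_pow_div_prime (Nat.mul_pos hp.pos hq.pos) h ?_
  intro r hr hd
  rcases (Nat.Prime.dvd_mul hr).1 hd with h3 | h3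
  · rw [(Nat.prime_dvd_prime_iff_eq hr hp).1 h3, Nat.mul_div_cancel_left _ hp.pos]
    exact h2
  · rw [(Nat.prime_dvd_prime_iff_eq hr hq).1 h3, Nat.mul_div_cancel _ hq.pos]
    exact h1

/-- in a central quotient -/
theorem orderOf_pq_mk {G : Type*} [Group G] {g u v : G} {p q : ℕ} (hp : p.Prime) (hq : q.Prime)
    (h : g ^ (p * q) = 1) (h1 : g ^ p * u ≠ u * g ^ p) (h2 : g ^ q * v ≠ v * g ^ q) :
    orderOf (QuotientGroup.mk g : G ⧸ Subgroup.center G) = p * q := by
  refine orderOf_pq hp hq ?_ ?_ ?_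
  · rw [← QuotientGroup.mk_pow, h, QuotientGroup.mk_one]
  · intro h3
    rw [← QuotientGroup.mk_pow, QuotientGroup.eq_one_iff] at h3
    exact h1 (Subgroup.mem_center_iff.1 h3 u).symm
  · intro h3
    rw [← QuotientGroup.mk_pow, QuotientGroup.eq_one_iff] at h3
    exact h2 (Subgroup.mem_center_iff.1 h3 v).symm

theorem exists_of_equiv {G H : Type*} [Group G] [Group H] (e : G ≃* H) {n : ℕ}
    (h : ∃ g : H, orderOf g = n) : ∃ g : G, orderOf g = n := by
  obtain ⟨g, hg⟩ := h
  exact ⟨e.symm g, by rw [MulEquiv.orderOf_eq]; exact hg⟩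

def c8 : Perm (Fin 8) := swap 0 1 * swap 1 2 * (swap 3 4 * swap 4 5 * swap 5 6 * swap 6 7)
def c9 : Perm (Fin 9) := swap 0 1 * swap 1 2 * (swap 3 4 * swap 4 5 * swap 5 6 * swap 6 7)
def c10 : Perm (Fin 10) := swap 0 1 * swap 1 2 * (swap 3 4 * swap 4 5 * swap 5 6 * swap 6 7)

theorem alt_eight : ∃ g : alternatingGroup (Fin 8), orderOf g = 3 * 5 :=
  ⟨⟨c8, by rw [Perm.mem_alternatingGroup]; decide +kernel⟩, by
    rw [← Subgroup.orderOf_coe]
    exact orderOf_pq (g := c8) (by norm_num) (by norm_num) (by decide +kernel) (by decide +kernel)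
      (by decide +kernel)⟩

theorem alt_nine : ∃ g : alternatingGroup (Fin 9), orderOf g = 3 * 5 :=
  ⟨⟨c9, by rw [Perm.mem_alternatingGroup]; decide +kernel⟩, by
    rw [← Subgroup.orderOf_coe]
    exact orderOf_pq (g := c9) (by norm_num) (by norm_num) (by decide +kernel) (by decide +kernel)
      (by decide +kernel)⟩

theorem alt_ten : ∃ g : alternatingGroup (Fin 10), orderOf g = 3 * 5 :=
  ⟨⟨c10, by rw [Perm.mem_alternatingGroup]; decide +kernel⟩, by
    rw [← Subgroup.orderOf_coe]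
    exact orderOf_pq (g := c10) (by norm_num) (by norm_num) (by decide +kernel) (by decide +kernel)
      (by decide +kernel)⟩

end Cfsg.Agent.H422.Elim
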