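import Cfsg.Prelude.Def_Classical
import Cfsg.Agent.H422.ElimAlt

/-!
# Elements of order 14 in `PSp₄(7)` and of order 15 in `PSp₆(2)`
-/

set_option autoImplicit false

open Matrix Cfsg

namespace Cfsg.Agent.H422.Elim

local instance fact_seven : Fact (Nat.Prime 7) := ⟨by norm_num⟩

theorem sp_coe_pow {l R : Type*} [Fintype l] [DecidableEq l] [CommRing R]
    (g : symplecticGroup l R) (n : ℕ) : ((g ^ n : symplecticGroup l R) : Matrix (l ⊕ l) (l ⊕ l) R) =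
      (g : Matrix (l ⊕ l) (l ⊕ l) R) ^ n := rfl

def psp_two_sevenM : Matrix (Fin 2 ⊕ Fin 2) (Fin 2 ⊕ Fin 2) (ZMod 7) := fromBlocks !![6, 0; 0, 1] !![0, 0; 0, 1] !![0, 0; 0, 0] !![6, 0; 0, 1]
def psp_two_sevenA : Matrix (Fin 2 ⊕ Fin 2) (Fin 2 ⊕ Fin 2) (ZMod 7) := fromBlocks !![1, 0; 0, 1] !![0, 0; 0, 2] !![0, 0; 0, 0] !![1, 0; 0, 1]
def psp_two_sevenB : Matrix (Fin 2 ⊕ Fin 2) (Fin 2 ⊕ Fin 2) (ZMod 7) := fromBlocks !![6, 0; 0, 1] !![0, 0; 0, 0] !![0, 0; 0, 0] !![6, 0; 0, 1]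
def psp_two_sevenU : Matrix (Fin 2 ⊕ Fin 2) (Fin 2 ⊕ Fin 2) (ZMod 7) := fromBlocks !![0, 1; 1, 0] !![0, 0; 0, 0] !![0, 0; 0, 0] !![0, 1; 1, 0]
theorem psp_two_seven_a : psp_two_sevenM ^ 2 = psp_two_sevenA := by rw [pow_two]; decide +kernel
def psp_two_sevenD : Matrix (Fin 2 ⊕ Fin 2) (Fin 2 ⊕ Fin 2) (ZMod 7) := fromBlocks !![1, 0; 0, 1] !![0, 0; 0, 6] !![0, 0; 0, 0] !![1, 0; 0, 1]
def psp_two_sevenE : Matrix (Fin 2 ⊕ Fin 2) (Fin 2 ⊕ Fin 2) (ZMod 7) := fromBlocks !![1, 0; 0, 1] !![0, 0; 0, 4] !![0, 0; 0, 0] !![1, 0; 0, 1]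
theorem psp_two_seven_e : psp_two_sevenM ^ 4 = psp_two_sevenE := by rw [show 4 = 2 * 2 from rfl, pow_mul, psp_two_seven_a, pow_two]; decide +kernel
theorem psp_two_seven_d : psp_two_sevenM ^ 6 = psp_two_sevenD := by rw [show 6 = 4 + 2 from rfl, pow_add, psp_two_seven_a, psp_two_seven_e]; decide +kernel
theorem psp_two_seven_b : psp_two_sevenM ^ 7 = psp_two_sevenB := by rw [pow_succ, psp_two_seven_d]; decide +kernel
theorem psp_two_seven_ab : psp_two_sevenM ^ (2 * 7) = 1 := by rw [mul_comm, pow_mul, psp_two_seven_b, pow_two]; decide +kernel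
def psp_two_seveng : symplecticGroup (Fin 2) (ZMod 7) := ⟨psp_two_sevenM, (SymplecticGroup.mem_iff (A := psp_two_sevenM)).2 (by decide +kernel)⟩
def psp_two_sevenu : symplecticGroup (Fin 2) (ZMod 7) := ⟨psp_two_sevenU, (SymplecticGroup.mem_iff (A := psp_two_sevenU)).2 (by decide +kernel)⟩

theorem psp_two_seven : ∃ g : PSp 2 (ZMod 7), orderOf g = 2 * 7 := by
  refine ⟨QuotientGroup.mk psp_two_seveng, orderOf_pq_mk (u := psp_two_sevenu) (v := psp_two_sevenu) (by norm_num) (by norm_num) ?_ ?_ ?_⟩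
  · exact Subtype.ext ((sp_coe_pow _ _).trans psp_two_seven_ab)
  · intro h
    have h2 : psp_two_sevenM ^ 2 * psp_two_sevenU = psp_two_sevenU * psp_two_sevenM ^ 2 := congrArg Subtype.val h
    rw [psp_two_seven_a] at h2
    exact absurd h2 (by decide +kernel)
  · intro h
    have h2 : psp_two_sevenM ^ 7 * psp_two_sevenU = psp_two_sevenU * psp_two_sevenM ^ 7 := congrArg Subtype.val h
    rw [psp_two_seven_b] at h2
    exact absurd h2 (by decide +kernel)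

def psp_three_twoM : Matrix (Fin 3 ⊕ Fin 3) (Fin 3 ⊕ Fin 3) (ZMod 2) := fromBlocks !![0, 0, 0; 0, 1, 1; 0, 0, 0] !![1, 0, 0; 0, 1, 0; 0, 1, 1] !![1, 0, 0; 0, 1, 1; 0, 0, 1] !![1, 0, 0; 0, 0, 0; 0, 0, 0]
def psp_three_twoA : Matrix (Fin 3 ⊕ Fin 3) (Fin 3 ⊕ Fin 3) (ZMod 2) := fromBlocks !![1, 0, 0; 0, 0, 1; 0, 1, 1] !![0, 0, 0; 0, 0, 0; 0, 1, 0] !![0, 0, 0; 0, 1, 0; 0, 1, 0] !![1, 0, 0; 0, 0, 1; 0, 0, 0]
def psp_three_twoB : Matrix (Fin 3 ⊕ Fin 3) (Fin 3 ⊕ Fin 3) (ZMod 2) := fromBlocks !![1, 0, 0; 0, 1, 0; 0, 0, 1] !![1, 0, 0; 0, 0, 0; 0, 0, 0] !![1, 0, 0; 0, 0, 0; 0, 0, 0] !![0, 0, 0; 0, 1, 0; 0, 0, 1]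
def psp_three_twoU : Matrix (Fin 3 ⊕ Fin 3) (Fin 3 ⊕ Fin 3) (ZMod 2) := fromBlocks !![0, 1, 0; 1, 0, 0; 0, 0, 1] !![0, 0, 0; 0, 0, 0; 0, 0, 0] !![0, 0, 0; 0, 0, 0; 0, 0, 0] !![0, 1, 0; 1, 0, 0; 0, 0, 1]
def psp_three_twoC : Matrix (Fin 3 ⊕ Fin 3) (Fin 3 ⊕ Fin 3) (ZMod 2) := fromBlocks !![1, 0, 0; 0, 0, 0; 0, 1, 0] !![1, 0, 0; 0, 0, 1; 0, 0, 0] !![1, 0, 0; 0, 1, 1; 0, 0, 0] !![0, 0, 0; 0, 0, 1; 0, 1, 1]
theorem psp_three_two_c : psp_three_twoM ^ 2 = psp_three_twoC := by rw [pow_two]; decide +kernel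
theorem psp_three_two_a : psp_three_twoM ^ 3 = psp_three_twoA := by rw [pow_succ, psp_three_two_c]; decide +kernel
theorem psp_three_two_b : psp_three_twoM ^ 5 = psp_three_twoB := by rw [show 5 = 3 + 2 from rfl, pow_add, psp_three_two_a, psp_three_two_c]; decide +kernel
def psp_three_twoD : Matrix (Fin 3 ⊕ Fin 3) (Fin 3 ⊕ Fin 3) (ZMod 2) := fromBlocks !![0, 0, 0; 0, 1, 0; 0, 0, 1] !![1, 0, 0; 0, 0, 0; 0, 0, 0] !![1, 0, 0; 0, 0, 0; 0, 0, 0] !![1, 0, 0; 0, 1, 0; 0, 0, 1]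
theorem psp_three_two_d : psp_three_twoB ^ 2 = psp_three_twoD := by rw [pow_two]; decide +kernel
theorem psp_three_two_ab : psp_three_twoM ^ (3 * 5) = 1 := by rw [mul_comm, pow_mul, psp_three_two_b, pow_succ, psp_three_two_d]; decide +kernel
def psp_three_twog : symplecticGroup (Fin 3) (ZMod 2) := ⟨psp_three_twoM, (SymplecticGroup.mem_iff (A := psp_three_twoM)).2 (by decide +kernel)⟩
def psp_three_twou : symplecticGroup (Fin 3) (ZMod 2) := ⟨psp_three_twoU, (SymplecticGroup.mem_iff (A := psp_three_twoU)).2 (by decide +kernel)⟩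

theorem psp_three_two : ∃ g : PSp 3 (ZMod 2), orderOf g = 3 * 5 := by
  refine ⟨QuotientGroup.mk psp_three_twog, orderOf_pq_mk (u := psp_three_twou) (v := psp_three_twou) (by norm_num) (by norm_num) ?_ ?_ ?_⟩
  · exact Subtype.ext ((sp_coe_pow _ _).trans psp_three_two_ab)
  · intro h
    have h2 : psp_three_twoM ^ 3 * psp_three_twoU = psp_three_twoU * psp_three_twoM ^ 3 := congrArg Subtype.val h
    rw [psp_three_two_a] at h2
    exact absurd h2 (by decide +kernel)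
  · intro h
    have h2 : psp_three_twoM ^ 5 * psp_three_twoU = psp_three_twoU * psp_three_twoM ^ 5 := congrArg Subtype.val h
    rw [psp_three_two_b] at h2
    exact absurd h2 (by decide +kernel)

end Cfsg.Agent.H422.Elim
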