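import Cfsg.Agent.H155.Unit
import Cfsg.Agent.H422.ElimAlt

/-!
# Elements of order 10 in `PSU₃(5)`
-/

set_option autoImplicit false

open Matrix Cfsg

namespace Cfsg.Agent.H422.Elim

section
variable {F : Type*} [Field F]

def nU (F : Type*) [Field F] : Matrix (Fin 3) (Fin 3) F := !![1, 2, 0; 2, 4, 0; 0, 0, 0]
def sU (F : Type*) [Field F] : Matrix (Fin 3) (Fin 3) F := !![-1, 0, 0; 0, -1, 0; 0, 0, 1]
def pU (F : Type*) [Field F] : Matrix (Fin 3) (Fin 3) F := !![0, 0, 1; 1, 0, 0; 0, 1, 0]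

theorem nU_sq (h5 : (5 : F) = 0) : nU F * nU F = 0 := by
  ext i j
  fin_cases i <;> fin_cases j <;>
    simp [nU, Matrix.mul_apply, Fin.sum_univ_three] <;>
    first
    | linear_combination (1 : F) * h5
    | linear_combination (2 : F) * h5
    | linear_combination (4 : F) * h5

theorem nU_mul (h5 : (5 : F) = 0) (a b : F) :
    (1 + a • nU F) * (1 + b • nU F) = 1 + (a + b) • nU F := by
  rw [add_mul, one_mul, mul_add, mul_one, smul_mul_smul_comm, nU_sq h5, smul_zero, add_zero,
    add_smul]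
  abel

theorem nU_pow (h5 : (5 : F) = 0) (a : F) (k : ℕ) : (1 + a • nU F) ^ k = 1 + ((k : F) * a) • nU F := by
  induction k with
  | zero => simp
  | succ k ih =>
    rw [pow_succ, ih, nU_mul h5]
    push_cast
    congr 2
    ring

theorem sU_sq : sU F * sU F = 1 := by
  ext i j
  fin_cases i <;> fin_cases j <;> simp [sU, Matrix.mul_apply, Fin.sum_univ_three]

theorem sU_five : sU F ^ 5 = sU F := by
  rw [show 5 = 2 + 2 + 1 from rfl, pow_add, pow_add, pow_two, sU_sq, one_mul, one_mul, pow_one]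

theorem sU_nU : sU F * nU F = nU F * sU F := by
  ext i j
  fin_cases i <;> fin_cases j <;> simp [sU, nU, Matrix.mul_apply, Fin.sum_univ_three]

theorem sU_comm (a : F) : Commute (sU F) (1 + a • nU F) := by
  change sU F * (1 + a • nU F) = (1 + a • nU F) * sU F
  rw [mul_add, add_mul, mul_one, one_mul, mul_smul_comm, sU_nU, smul_mul_assoc]

theorem det_eq (a : F) (h5 : (5 : F) = 0) : (sU F * (1 + a • nU F)).det = 1 := by
  rw [Matrix.det_fin_three]
  simp [sU, nU, Matrix.mul_apply, Fin.sum_univ_three]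
  linear_combination a * h5

theorem det_pU : (pU F).det = 1 := by
  rw [Matrix.det_fin_three]
  simp [pU]

end

theorem psu_three_five {F : Type*} [Field F] [Fintype F] (hF : Fintype.card F = 25) :
    ∃ g : PSU 3 F 5, orderOf g = 2 * 5 := by
  have : Fact (Nat.Prime 5) := ⟨by norm_num⟩
  have hc : CharP F 5 := charP_of_card_eq_prime_pow (f := 2) (by rw [hF]; norm_num)
  have h5 : (5 : F) = 0 := by exact_mod_cast CharP.cast_eq_zero F 5
  have h20 : (2 : F) ≠ 0 := by
    intro h
    have : (1 : F) = 0 := by linear_combination h5 - 2 * h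
    exact one_ne_zero this
  obtain ⟨t, ht⟩ : IsSquare (2 : F) := by
    rw [FiniteField.isSquare_iff (by rw [ringChar.eq F 5]; norm_num) h20, hF]
    norm_num
    linear_combination 819 * h5
  have ht2 : t * t = 2 := ht.symm
  have ht0 : t ≠ 0 := by
    rintro rfl
    apply h20
    rw [← ht2, mul_zero]
  obtain ⟨σ, hσ⟩ := Cfsg.Agent.H155.Unit.exists_frobHom F 5 1
  rw [pow_one] at hσ
  have hσ2 : σ 2 = 2 := map_ofNat σ 2
  have hσ4 : σ 4 = 4 := map_ofNat σ 4
  have hσt : σ t = -t := by
    rw [hσ]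
    linear_combination (t * t * t + 2 * t) * ht2 + t * h5
  have hσN : (nU F).map σ = nU F := by
    ext i j
    fin_cases i <;> fin_cases j <;> simp [nU, hσ2, hσ4]
  have hσS : (sU F).map σ = sU F := by
    ext i j
    fin_cases i <;> fin_cases j <;> simp [sU]
  have hσP : (pU F).map σ = pU F := by
    ext i j
    fin_cases i <;> fin_cases j <;> simp [pU]
  have hNT : (nU F)ᵀ = nU F := by
    ext i j
    fin_cases i <;> fin_cases j <;> simp [nU]
  have hST : (sU F)ᵀ = sU F := by
    ext i j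
    fin_cases i <;> fin_cases j <;> simp [sU]
  have hPT : (pU F)ᵀ * pU F = 1 := by
    ext i j
    fin_cases i <;> fin_cases j <;> simp [pU, Matrix.mul_apply, Fin.sum_univ_three]
  let M : Matrix (Fin 3) (Fin 3) F := sU F * (1 + t • nU F)
  let gS : SpecialLinearGroup (Fin 3) F := ⟨M, det_eq t h5⟩
  let uS : SpecialLinearGroup (Fin 3) F := ⟨pU F, det_pU⟩
  have hM : gS ∈ SU 3 F 5 := by
    refine (Cfsg.Agent.H155.Unit.mem_SU_iff_matrix σ hσ gS).2 ?_
    have h1 : M.map σ = sU F * (1 + (-t) • nU F) := by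
      change (sU F * (1 + t • nU F)).map σ = _
      rw [Matrix.map_mul, Matrix.map_add _ (map_add σ), Matrix.map_one _ (map_zero σ) (map_one σ), hσS]
      congr 2
      rw [← hσt]
      conv_rhs => rw [← hσN]
      ext i j
      simp
    have h2 : Mᵀ = (1 + t • nU F) * sU F := by
      change (sU F * (1 + t • nU F))ᵀ = _
      rw [Matrix.transpose_mul, Matrix.transpose_add, Matrix.transpose_one, Matrix.transpose_smul,
        hNT, hST]
    change Mᵀ * M.map σ = 1
    rw [h1, h2, mul_assoc, ← mul_assoc (sU F), sU_sq, one_mul, nU_mul h5]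
    simp
  have hP : uS ∈ SU 3 F 5 := by
    refine (Cfsg.Agent.H155.Unit.mem_SU_iff_matrix σ hσ uS).2 ?_
    change (pU F)ᵀ * (pU F).map σ = 1
    rw [hσP, hPT]
  let g : SU 3 F 5 := ⟨_, hM⟩
  let u : SU 3 F 5 := ⟨_, hP⟩
  have hmul : ∀ x y : SU 3 F 5, (x * y).1.1 = x.1.1 * y.1.1 := fun _ _ => rfl
  have hpow : ∀ k : ℕ, (g ^ k).1.1 = sU F ^ k * (1 + ((k : F) * t) • nU F) := by
    intro k
    have h1 : (g ^ k).1.1 = (sU F * (1 + t • nU F)) ^ k := by
      induction k with
      | zero => rfl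
      | succ k ih => rw [pow_succ, hmul, ih, pow_succ]
    rw [h1, (sU_comm t).mul_pow, nU_pow h5]
  have hcast : ∀ x y : SU 3 F 5, x = y ↔ x.1.1 = y.1.1 := by
    intro x y
    exact ⟨fun h => by rw [h], fun h => Subtype.ext (Subtype.ext h)⟩
  refine ⟨QuotientGroup.mk g, orderOf_pq_mk (u := u) (v := u) (by norm_num) (by norm_num) ?_ ?_ ?_⟩
  · rw [hcast, hpow, pow_mul, pow_two, sU_sq, one_pow, one_mul]
    have : (((2 * 5 : ℕ) : F) * t) = 0 := by push_cast; linear_combination 2 * t * h5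
    rw [this, zero_smul, add_zero]
    rfl
  · intro h
    rw [hcast] at h
    rw [hmul, hmul, hpow, pow_two, sU_sq, one_mul] at h
    have h1 := congrFun (congrFun h 1) 2
    change ((1 + (((2 : ℕ) : F) * t) • nU F) * pU F) 1 2 = (pU F * (1 + (((2 : ℕ) : F) * t) • nU F)) 1 2 at h1
    simp [nU, pU, Matrix.mul_apply, Fin.sum_univ_three] at h1
    rcases h1 with h1 | h1
    · exact h1.elim h20 ht0
    · exact h20 h1
  · intro h
    rw [hcast] at h
    rw [hmul, hmul, hpow] at h
    have h0 : (((5 : ℕ) : F) * t) = 0 := by push_cast; linear_combination t * h5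
    rw [h0, zero_smul, add_zero, mul_one, sU_five] at h
    have h1 := congrFun (congrFun h 0) 2
    change (sU F * pU F) 0 2 = (pU F * sU F) 0 2 at h1
    simp [sU, pU, Matrix.mul_apply, Fin.sum_univ_three] at h1
    apply h20
    linear_combination -h1

end Cfsg.Agent.H422.Elim
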