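import Cfsg.Agent.S3720
import Cfsg.Agent.H379.J2Spec
import Cfsg.Agent.UGT.U2.Rec.Congr
import Cfsg.Agent.LieClassical.FieldTransfer
import Cfsg.Agent.H422.ElimSp
import Cfsg.Agent.H422.ElimOmega
import Cfsg.Agent.H422.ElimU

/-!
# Simple groups of order divisible exactly by 2, 3, 5, 7 without elements of orders 10, 14, 15
-/

set_option autoImplicit false

open Cfsg

namespace Cfsg.Agent.H422.Elim

open Cfsg.Agent.LieClassical.FieldTransfer

theorem psp_two {F : Type*} [Field F] [Fintype F] (hF : Fintype.card F = 7) :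
    ∃ g : PSp 2 F, orderOf g = 2 * 7 := by
  have : Fact (Nat.Prime 7) := ⟨by norm_num⟩
  exact exists_of_equiv (pspCongr 2 (FiniteField.ringEquivOfCardEq (hF.trans (ZMod.card 7).symm)))
    psp_two_seven

theorem psp_three {F : Type*} [Field F] [Fintype F] (hF : Fintype.card F = 2) :
    ∃ g : PSp 3 F, orderOf g = 3 * 5 :=
  exists_of_equiv (pspCongr 3 (FiniteField.ringEquivOfCardEq (hF.trans (ZMod.card 2).symm)))
    psp_three_two

theorem pomega {F : Type*} [Field F] [Fintype F] (hF : Fintype.card F = 2) :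
    ∃ g : POmega F (quadFormPlus 4 F), orderOf g = 3 * 5 := by
  have σ : F ≃+* ZMod 2 := FiniteField.ringEquivOfCardEq (hF.trans (ZMod.card 2).symm)
  obtain ⟨e⟩ := Cfsg.Agent.UGT.U2.Rec.Congr.nonempty_POmega σ (Q := quadFormPlus 4 F)
    (Q' := quadFormPlus 4 (ZMod 2)) (fun v => by simp [quadFormPlus, map_sum, map_mul])
  exact exists_of_equiv e pomega_eight_two

theorem j_two : ∃ g : Cfsg.Spor.J2, orderOf g = 3 * 5 := by
  have h : (15 : ℕ) ∈ Set.range (orderOf : Cfsg.Spor.J2 → ℕ) := by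
    rw [Cfsg.Agent.H379.J2Spec.range_J2]
    simp
  exact h

/-- **Elimination.** -/
theorem cases {G : Type*} [Group G] [Finite G] [IsSimpleGroup G] (hG : ¬ IsMulCommutative G)
    (h : (Nat.card G).primeFactors = {2, 3, 5, 7})
    (h10 : ∀ g : G, orderOf g ≠ 2 * 5) (h14 : ∀ g : G, orderOf g ≠ 2 * 7)
    (h15 : ∀ g : G, orderOf g ≠ 3 * 5) :
    Nonempty (G ≃* ↥(alternatingGroup (Fin 7))) ∨
    (∃ (F : Type) (_ : Field F) (_ : Fintype F), Fintype.card F = 49 ∧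
      Nonempty (G ≃* Matrix.ProjectiveSpecialLinearGroup (Fin 2) F)) ∨
    (∃ (F : Type) (_ : Field F) (_ : Fintype F), Fintype.card F = 4 ∧
      Nonempty (G ≃* Matrix.ProjectiveSpecialLinearGroup (Fin 3) F)) ∨
    (∃ (F : Type) (_ : Field F) (_ : Fintype F), Fintype.card F = 9 ∧
      Nonempty (G ≃* Cfsg.PSU 4 F 3)) := by
  rcases Cfsg.Agent.S3720.result hG h with h1 | ⟨⟨e⟩⟩ | ⟨⟨e⟩⟩ | ⟨⟨e⟩⟩ | ⟨⟨e⟩⟩ | h1 | h1 |
    ⟨F, _, _, hF, ⟨e⟩⟩ | ⟨F, _, _, hF, ⟨e⟩⟩ | ⟨F, _, _, hF, ⟨e⟩⟩ | ⟨F, _, _, hF, ⟨e⟩⟩ | h1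
  · exact Or.inl h1
  · obtain ⟨g, hg⟩ := exists_of_equiv e alt_eight
    exact absurd hg (h15 g)
  · obtain ⟨g, hg⟩ := exists_of_equiv e alt_nine
    exact absurd hg (h15 g)
  · obtain ⟨g, hg⟩ := exists_of_equiv e alt_ten
    exact absurd hg (h15 g)
  · obtain ⟨g, hg⟩ := exists_of_equiv e j_two
    exact absurd hg (h15 g)
  · exact Or.inr (Or.inl h1)
  · exact Or.inr (Or.inr (Or.inl h1))
  · obtain ⟨g, hg⟩ := exists_of_equiv e (psp_two hF)
    exact absurd hg (h14 g)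
  · obtain ⟨g, hg⟩ := exists_of_equiv e (psp_three hF)
    exact absurd hg (h15 g)
  · obtain ⟨g, hg⟩ := exists_of_equiv e (pomega hF)
    exact absurd hg (h15 g)
  · obtain ⟨g, hg⟩ := exists_of_equiv e (psu_three_five hF)
    exact absurd hg (h10 g)
  · exact Or.inr (Or.inr (Or.inr h1))

end Cfsg.Agent.H422.Elim
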