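import Cfsg.Agent.H422.CopMod
import Cfsg.Agent.H423.SzEight
import Cfsg.Agent.OrdDiv.Main

/-!
# `Sz(8)` in characteristic 3

If the elements of order 13 of `Sz(8)` have no nonzero fixed vectors in a finite module of
exponent 3, then the module is zero.
-/

set_option autoImplicit false
set_option linter.unusedSectionVars false
set_option linter.unusedSimpArgs false

namespace Cfsg.Agent.H422.SzEight

open Cfsg.Agent.H422.CopMod Cfsg.Agent.OddOrderCharacters.WielandtElem
open Cfsg.Agent.LieRecognition.SzMatrix Cfsg.Agent.H423.SzEight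
open scoped Matrix

variable {F : Type*} [Field F]

/-! ### The Hecke argument -/

section hecke

variable {θ : F →+* F} {e : ℕ} (H : Good F θ e) {V : Type*} [AddCommGroup V]
  (ρ : ↥(Cfsg.Lie.Sz F e) →* AddMonoid.End V)

theorem act_mul (x y : ↥(Cfsg.Lie.Sz F e)) (v : V) : ρ (x * y) v = ρ x (ρ y v) := mul_act ρ x y v

/-- Vectors fixed by the unipotent group. -/
theorem d_fix {v : V} (hv : ∀ x ∈ H.unip, ρ x v = v) (k : Fˣ) : ∀ x ∈ H.unip, ρ x (ρ (H.d k) v) = ρ (H.d k) v := by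
  intro x hx
  have h1 : x * H.d k = H.d k * ((H.d k)⁻¹ * x * (H.d k)⁻¹⁻¹) := by group
  rw [← act_mul, h1, act_mul, hv]
  exact H.borel_normalizes _ (H.borel.inv_mem (H.d_mem_borel k)) _ hx

variable [Fintype F] [Finite V]

/-- If `y ^ i`, `0 < i < 13`, is not in the Borel subgroup and `∑ y ^ i = 0` on `V` then
the unipotent group has no fixed points (`|Q| = 1` in characteristic 3). -/
theorem hecke [Fintype H.unip] (h3 : ∀ v : V, 3 • v = 0) (hQ : Fintype.card H.unip = 64)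
    (hsq : ∀ k : Fˣ, ∃ l : Fˣ, l * l = k) (y : ↥(Cfsg.Lie.Sz F e))
    (hy : ∀ i, 0 < i → i < 13 → y ^ i ∉ H.borel)
    (hsum : ∀ v : V, ∑ i ∈ Finset.range 13, ρ (y ^ i) v = 0) (v : V) (hv : ∀ x ∈ H.unip, ρ x v = v) :
    v = 0 := by
  classical
  -- sum over the unipotent group
  let E : V →+ V := ∑ q : H.unip, (ρ (q : ↥(Cfsg.Lie.Sz F e)) : V →+ V)
  have hE : ∀ u, E u = ∑ q : H.unip, ρ (q : ↥(Cfsg.Lie.Sz F e)) u := fun u => AddMonoidHom.finsetSum_apply _ _ _
  have hEfix : ∀ u, ∀ x ∈ H.unip, ρ x (E u) = E u := by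
    intro u x hx
    rw [hE, map_sum, ← Equiv.sum_comp (Equiv.mulLeft (⟨x, hx⟩ : H.unip))
      (fun q : H.unip => ρ (q : ↥(Cfsg.Lie.Sz F e)) u)]
    refine Finset.sum_congr rfl fun q _ => ?_
    rw [← act_mul]
    rfl
  have hEx : ∀ x ∈ H.unip, ∀ u, E (ρ x u) = E u := by
    intro x hx u
    rw [hE, hE, ← Equiv.sum_comp (Equiv.mulRight (⟨x, hx⟩ : H.unip))
      (fun q : H.unip => ρ (q : ↥(Cfsg.Lie.Sz F e)) u)]
    refine Finset.sum_congr rfl fun q _ => ?_
    rw [← act_mul]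
    rfl
  have hE1 : ∀ u, (∀ x ∈ H.unip, ρ x u = u) → E u = u := by
    intro u hu
    rw [hE, Finset.sum_congr rfl (fun q _ => hu q.1 q.2), Finset.sum_const, Finset.card_univ, hQ]
    have h1 : (64 : ℕ) • u = 21 • (3 • u) + u := by
      rw [smul_smul, ← succ_nsmul]
      norm_num
    rw [h1, h3, smul_zero, zero_add]
  have hEd : ∀ k u, ρ (H.d k) (E u) = E (ρ (H.d k) u) := by
    intro k u
    rw [hE, hE, map_sum]
    let f : H.unip → H.unip := fun q => ⟨H.d k * q * (H.d k)⁻¹, H.borel_normalizes _ (H.d_mem_borel k) _ q.2⟩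
    have hf : Function.Bijective f := by
      rw [← Finite.injective_iff_bijective]
      intro a b hab
      have h1 : H.d k * (a : ↥(Cfsg.Lie.Sz F e)) * (H.d k)⁻¹ = H.d k * b * (H.d k)⁻¹ := congrArg Subtype.val hab
      exact Subtype.ext (mul_left_cancel (mul_right_cancel h1))
    refine Fintype.sum_bijective f hf _ _ fun q => ?_
    rw [← act_mul, ← act_mul]
    congr 2
    change H.d k * (q : ↥(Cfsg.Lie.Sz F e)) = H.d k * q * (H.d k)⁻¹ * H.d k
    group
  -- the space of fixed points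
  let X := {u : V // ∀ x ∈ H.unip, ρ x u = u}
  let A : X → X := fun u => ⟨E (ρ H.w u.1), hEfix _⟩
  let D : Fˣ → X → X := fun k u => ⟨ρ (H.d k) u.1, d_fix H ρ u.2 k⟩
  have hDD : ∀ k l u, D k (D l u) = D (k * l) u := by
    intro k l u
    apply Subtype.ext
    change ρ (H.d k) (ρ (H.d l) u.1) = ρ (H.d (k * l)) u.1
    rw [← act_mul, H.d_mul]
  have hDA : ∀ k u, D k (A u) = A (D k⁻¹ u) := by
    intro k u
    apply Subtype.ext
    change ρ (H.d k) (E (ρ H.w u.1)) = E (ρ H.w (ρ (H.d k⁻¹) u.1))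
    rw [hEd, ← act_mul, ← act_mul]
    congr 2
    rw [H.w_mul_d, inv_inv]
  -- the torus parts
  have hdec : ∀ i, 0 < i → i < 13 → ∃ k : Fˣ, ∀ u : V, (∀ x ∈ H.unip, ρ x u = u) →
      E (ρ (y ^ i) u) = E (ρ H.w (ρ (H.d k) u)) := by
    intro i h0 h13
    obtain ⟨s, hs, hb⟩ := H.bruhat_sz _ (hy i h0 h13)
    obtain ⟨a, b, k, hk⟩ := (H.mem_borel_iff' _).mp hb
    refine ⟨k, fun u hu => ?_⟩
    have h1 : y ^ i = s * (H.w * (H.u a b * H.d k)) := by
      rw [← hk]; group
    rw [h1, act_mul, hEx s hs, act_mul, act_mul, d_fix H ρ hu k _ (H.u_mem_unip a b)]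
  choose! κ hκ using hdec
  let τ : X → X := fun u => ⟨∑ i ∈ Finset.Ico 1 13, ρ (H.d (κ i)) u.1, by
    intro x hx
    rw [map_sum]
    exact Finset.sum_congr rfl fun i _ => d_fix H ρ u.2 _ x hx⟩
  have hkey : ∀ u : X, u.1 + (A (τ u)).1 = 0 := by
    intro u
    have h1 := congrArg E (hsum u.1)
    rw [map_zero, map_sum, Finset.range_eq_Ico, Finset.sum_eq_sum_Ico_succ_bot (by norm_num : 0 < 13),
      pow_zero, map_one] at h1
    have h2 : E ((1 : AddMonoid.End V) u.1) = u.1 := hE1 u.1 u.2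
    rw [h2] at h1
    rw [← h1]
    congr 1
    change E (ρ H.w (∑ i ∈ Finset.Ico 1 13, ρ (H.d (κ i)) u.1)) = _
    rw [map_sum, map_sum]
    refine Finset.sum_congr rfl fun i hi => ?_
    rw [Finset.mem_Ico] at hi
    exact (hκ i (by omega) hi.2 u.1 u.2).symm
  have hneg : ∀ u : X, (A (τ u)).1 = - u.1 := fun u => (neg_eq_of_add_eq_zero_right (hkey u)).symm
  have hτi : Function.Injective τ := by
    intro a b hab
    apply Subtype.ext
    rw [← neg_inj, ← hneg, ← hneg, hab]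
  have hτb : Function.Bijective τ := Finite.injective_iff_bijective.mp hτi
  have hAi : Function.Injective A := by
    intro a b hab
    obtain ⟨a', rfl⟩ := hτb.2 a
    obtain ⟨b', rfl⟩ := hτb.2 b
    have h1 : a' = b' := by
      apply Subtype.ext
      rw [← neg_inj, ← hneg, ← hneg, hab]
    rw [h1]
  have hDτ : ∀ k u, D k (τ u) = τ (D k u) := by
    intro k u
    apply Subtype.ext
    change ρ (H.d k) (∑ i ∈ Finset.Ico 1 13, ρ (H.d (κ i)) u.1) =
      ∑ i ∈ Finset.Ico 1 13, ρ (H.d (κ i)) (ρ (H.d k) u.1)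
    rw [map_sum]
    refine Finset.sum_congr rfl fun i _ => ?_
    rw [← act_mul, ← act_mul, H.d_mul, H.d_mul, mul_comm]
  have hAD : ∀ k u, A (D k u) = D k (A u) := by
    intro k u
    obtain ⟨u', rfl⟩ := hτb.2 u
    rw [hDτ]
    apply Subtype.ext
    rw [hneg]
    change - (ρ (H.d k) u'.1) = ρ (H.d k) (A (τ u')).1
    rw [hneg, map_neg]
  have hD2 : ∀ k u, D k u = D k⁻¹ u := by
    intro k u
    apply hAi
    rw [← hDA, hAD]
  have hD1 : ∀ k u, D k u = u := by
    intro k u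
    obtain ⟨l, rfl⟩ := hsq k
    rw [← hDD, hD2 l u, hDD, mul_inv_cancel]
    apply Subtype.ext
    change ρ (H.d 1) u.1 = u.1
    rw [H.d_one, map_one]
    rfl
  have hτ0 : (τ ⟨v, hv⟩).1 = 0 := by
    change ∑ i ∈ Finset.Ico 1 13, ρ (H.d (κ i)) v = 0
    have h1 : ∀ i ∈ Finset.Ico 1 13, ρ (H.d (κ i)) v = v := fun i _ =>
      congrArg Subtype.val (hD1 (κ i) ⟨v, hv⟩)
    rw [Finset.sum_congr rfl h1, Finset.sum_const, Nat.card_Ico]
    have h2 : (13 - 1) • v = 4 • (3 • v) := by rw [smul_smul]; norm_num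
    rw [h2, h3, smul_zero]
  have h4 := hneg ⟨v, hv⟩
  have h5 : (A (τ ⟨v, hv⟩)).1 = 0 := by
    change E (ρ H.w (τ ⟨v, hv⟩).1) = 0
    rw [hτ0, map_zero, map_zero]
  rw [h5] at h4
  exact neg_eq_zero.mp h4.symm

end hecke

/-! ### Elements of order 13 and 4 -/

def My (a : F) : Matrix (Fin 4) (Fin 4) F :=
  !![1+a, 1+a^2, 0, 1; 1, 1+a+a^2, 1, 1+a^2; a^2, 1, 1+a, 0; 1+a^2, a^2, a^2, a]
def My2 (a : F) : Matrix (Fin 4) (Fin 4) F :=
  !![1+a^2, a+a^2, 1, a+a^2; 1+a+a^2, 1+a^2, a+a^2, a+a^2; 1, a+a^2, a^2, 1; 1+a+a^2, 1, 0, 1+a]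
def My4 (a : F) : Matrix (Fin 4) (Fin 4) F :=
  !![a+a^2, 0, 1+a, 1; a, 1+a+a^2, 1, 0; a, 1, 1+a^2, 1+a; 1+a, a, 1, 1+a+a^2]
def My8 (a : F) : Matrix (Fin 4) (Fin 4) F :=
  !![1+a+a^2, 1, a^2, a^2; 0, a, a^2, 1; 1, a^2, 1+a, a^2; 1+a^2, 1, 1+a^2, 1+a]

section explicit

variable [CharP F 2] {a : F} (ha : a ^ 3 = a + 1)

include ha in
theorem My_sp : (My a)ᵀ * J F * My a = J F := by
  have h0 : (2 : F) = 0 := two_eq_zero
  ext i j
  fin_cases i <;> fin_cases j <;>
    simp [J, My, Matrix.mul_apply, Fin.sum_univ_four] <;> grind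

include ha in
theorem My_star : Cfsg.Lie.star4 (My a) = (My a).map (th F) := by
  have h0 : (2 : F) = 0 := two_eq_zero
  rw [star4_explicit]
  ext i j
  fin_cases i <;> fin_cases j <;>
    simp [My, th_apply] <;> grind

include ha in
theorem My_mul : My a * My a = My2 a := by
  have h0 : (2 : F) = 0 := two_eq_zero
  ext i j
  fin_cases i <;> fin_cases j <;>
    simp [My, My2, Matrix.mul_apply, Fin.sum_univ_four] <;> grind

include ha in
theorem My2_mul : My2 a * My2 a = My4 a := by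
  have h0 : (2 : F) = 0 := two_eq_zero
  ext i j
  fin_cases i <;> fin_cases j <;>
    simp [My2, My4, Matrix.mul_apply, Fin.sum_univ_four] <;> grind

include ha in
theorem My4_mul : My4 a * My4 a = My8 a := by
  have h0 : (2 : F) = 0 := two_eq_zero
  ext i j
  fin_cases i <;> fin_cases j <;>
    simp [My4, My8, Matrix.mul_apply, Fin.sum_univ_four] <;> grind

include ha in
theorem s_mul : Umat (th F) 1 0 * My a = My8 a * Umat (th F) 1 0 := by
  have h0 : (2 : F) = 0 := two_eq_zero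
  rw [Umat_def]
  ext i j
  fin_cases i <;> fin_cases j <;>
    simp [My, My8, Matrix.mul_apply, Fin.sum_univ_four] <;> grind

end explicit

section group

variable [Fintype F] [CharP F 2] (h8 : ∀ x : F, x ^ 8 = x)

include h8 in
theorem exists_root (hc : Fintype.card F = 8) : ∃ a : F, a ^ 3 = a + 1 := by
  classical
  have h0 : (2 : F) = 0 := two_eq_zero
  obtain ⟨x, hx⟩ : ∃ x : F, x ∉ ({0, 1} : Finset F) := by
    by_contra hcon
    push Not at hcon
    have h1 := Finset.card_le_card (fun x _ => hcon x : (Finset.univ : Finset F) ⊆ {0, 1})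
    have h2 : ({0, 1} : Finset F).card ≤ 2 := Finset.card_le_two
    rw [Finset.card_univ, hc] at h1
    omega
  rw [Finset.mem_insert, Finset.mem_singleton, not_or] at hx
  rcases cases8 h8 x with h | h | h | h
  · exact absurd h hx.1
  · exact absurd h hx.2
  · exact ⟨x, h⟩
  · exact ⟨x + 1, by grind⟩

/-- the element of order 13 -/
noncomputable def y {a : F} (ha : a ^ 3 = a + 1) : ↥(Cfsg.Lie.Sz F 4) :=
  ⟨ofSp (My a) (My_sp ha), (good h8).ofSp_mem _ _ (My_star ha)⟩

theorem y_val {a : F} (ha : a ^ 3 = a + 1) : (y h8 ha).1.1 = My a := rfl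

theorem order_y {a : F} (ha : a ^ 3 = a + 1) : orderOf (y h8 ha) = 13 := by
  have h0 : (2 : F) = 0 := two_eq_zero
  apply orderOf_eq_prime (hp := ⟨by norm_num⟩)
  · apply Subtype.ext
    apply pow_thirteen_case h8 (y h8 ha).2
    have h1 : (y h8 ha).1.1.trace = a ^ 2 + 1 := by
      rw [y_val, Matrix.trace, Fin.sum_univ_four]
      simp [My]
      grind
    rw [h1]
    grind
  · intro h
    have h1 : (y h8 ha).1.1 0 2 = (1 : Matrix (Fin 4) (Fin 4) F) 0 2 := by rw [h]; rfl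
    have h2 : (y h8 ha).1.1 0 3 = (1 : Matrix (Fin 4) (Fin 4) F) 0 3 := by rw [h]; rfl
    rw [y_val] at h2
    simp [My] at h2

/-- the element of order 4 -/
noncomputable def s : ↥(Cfsg.Lie.Sz F 4) := (good h8).u 1 0

theorem s_y {a : F} (ha : a ^ 3 = a + 1) : s h8 * y h8 ha * (s h8)⁻¹ = (y h8 ha) ^ 8 := by
  rw [mul_inv_eq_iff_eq_mul]
  apply Subtype.ext
  apply Units.ext
  have h1 : ((y h8 ha) ^ 8).1.1 = My8 a := by
    have : (y h8 ha) ^ 8 = (y h8 ha * y h8 ha) * (y h8 ha * y h8 ha) *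
      ((y h8 ha * y h8 ha) * (y h8 ha * y h8 ha)) := by
      simp only [pow_succ, pow_zero, one_mul, mul_assoc]
    rw [this]
    change (My a * My a) * (My a * My a) * ((My a * My a) * (My a * My a)) = My8 a
    rw [My_mul ha, My2_mul ha, My4_mul ha]
  change Umat (th F) 1 0 * My a = ((y h8 ha) ^ 8).1.1 * Umat (th F) 1 0
  rw [h1, s_mul ha]

theorem u_sq (a b : F) : (good h8).u a b * (good h8).u a b = (good h8).u 0 (a * a ^ 4) := by
  have h0 : (2 : F) = 0 := two_eq_zero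
  rw [(good h8).u_mul, th_apply]
  congr 1
  · linear_combination a * h0
  · linear_combination b * h0

theorem order_s : orderOf (s h8) = 2 ^ 2 := by
  apply orderOf_eq_prime_pow
  · rw [pow_one, pow_two, s, u_sq h8, ← (good h8).u_zero]
    intro h
    have := ((good h8).u_inj h).2
    simp at this
  · have : (s h8) ^ 2 ^ 2 = (s h8 * s h8) * (s h8 * s h8) := by
      rw [show 2 ^ 2 = 4 by norm_num]
      simp only [pow_succ, pow_zero, one_mul, mul_assoc]
    rw [this, s, u_sq h8, u_sq h8, ← (good h8).u_zero]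
    simp

/-- every element of the unipotent group is conjugate to an element of `⟨s⟩` -/
theorem conj_s (x : ↥(Cfsg.Lie.Sz F 4)) (hx : x ∈ (good h8).unip) :
    ∃ g, g * x * g⁻¹ ∈ Subgroup.zpowers (s h8) := by
  have h0 : (2 : F) = 0 := two_eq_zero
  obtain ⟨a, b, rfl⟩ := ((good h8).mem_unip_iff x).mp hx
  have hu : ∀ (k : Fˣ) (a b : F), (good h8).d k * (good h8).u a b * ((good h8).d k)⁻¹ =
      (good h8).u (a * k ^ 2 * ((k : F) ^ 4)⁻¹) (b * k ^ 4) := by
    intro k a b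
    rw [(good h8).d_mul_u, mul_inv_cancel_right, th_apply]
  by_cases ha : a = 0
  · subst ha
    by_cases hb : b = 0
    · subst hb
      refine ⟨1, ?_⟩
      rw [(good h8).u_zero]
      simp
    · -- involutions
      refine ⟨(good h8).d (Units.mk0 (b ^ 5) (pow_ne_zero _ hb)), ?_⟩
      rw [hu]
      have h1 : (good h8).u (0 * (Units.mk0 (b ^ 5) (pow_ne_zero _ hb) : Fˣ) ^ 2 *
          (((Units.mk0 (b ^ 5) (pow_ne_zero _ hb) : Fˣ) : F) ^ 4)⁻¹)
          (b * ((Units.mk0 (b ^ 5) (pow_ne_zero _ hb) : Fˣ) : F) ^ 4) = s h8 * s h8 := by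
        rw [s, u_sq h8]
        congr 1
        · ring
        · rw [Units.val_mk0]
          have h7 : b ^ 7 = 1 := by
            apply mul_left_cancel₀ hb
            rw [mul_one, ← pow_succ', h8]
          calc b * (b ^ 5) ^ 4 = (b ^ 7) ^ 3 := by ring
            _ = 1 * 1 ^ 4 := by rw [h7]; ring
      rw [h1]
      exact Subgroup.mul_mem _ (Subgroup.mem_zpowers _) (Subgroup.mem_zpowers _)
  · have h7 : a ^ 7 = 1 := by
      apply mul_left_cancel₀ ha
      rw [mul_one, ← pow_succ', h8]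
    -- normalise `a = 1`
    let k : Fˣ := Units.mk0 (a ^ 4) (pow_ne_zero _ ha)
    have hk : (k : F) = a ^ 4 := rfl
    have h1 : (good h8).d k * (good h8).u a b * ((good h8).d k)⁻¹ = (good h8).u 1 (b * k ^ 4) := by
      rw [hu]
      congr 1
      rw [hk]
      have h2 : (a ^ 4) ^ 4 = a ^ 2 := by
        calc (a ^ 4) ^ 4 = (a ^ 7) ^ 2 * a ^ 2 := by ring
          _ = a ^ 2 := by rw [h7]; ring
      rw [h2]
      have h3 : a * (a ^ 4) ^ 2 = a ^ 2 := by
        calc a * (a ^ 4) ^ 2 = a ^ 7 * a ^ 2 := by ring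
          _ = a ^ 2 := by rw [h7]; ring
      rw [h3, mul_inv_cancel₀ (pow_ne_zero _ ha)]
    set β := b * (k : F) ^ 4 with hβ
    have hc : ∀ c : F, (good h8).u c 0 * (good h8).u 1 β * ((good h8).u c 0)⁻¹ =
        (good h8).u 1 (β + c + c ^ 4) := by
      intro c
      rw [mul_inv_eq_iff_eq_mul, (good h8).u_mul, (good h8).u_mul, th_apply, th_apply]
      congr 1
      · ring
      · linear_combination (- c ^ 4) * h0
    have hgoal : ∀ c : F, (good h8).u 1 (β + c + c ^ 4) ∈ Subgroup.zpowers (s h8) →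
        ∃ g, g * (good h8).u a b * g⁻¹ ∈ Subgroup.zpowers (s h8) := by
      intro c hm
      refine ⟨(good h8).u c 0 * (good h8).d k, ?_⟩
      have h2 : (good h8).u c 0 * (good h8).d k * (good h8).u a b * ((good h8).u c 0 * (good h8).d k)⁻¹ =
          (good h8).u c 0 * ((good h8).d k * (good h8).u a b * ((good h8).d k)⁻¹) * ((good h8).u c 0)⁻¹ := by
        group
      rw [h2, h1, hc]
      exact hm
    have hinv : (s h8)⁻¹ = (good h8).u 1 1 := by
      rw [s, (good h8).u_inv, th_apply]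
      congr 1
      ring
    have htr : β ^ 4 + β ^ 2 + β = 0 ∨ β ^ 4 + β ^ 2 + β = 1 := by
      have h2 : (β ^ 4 + β ^ 2 + β) * (β ^ 4 + β ^ 2 + β - 1) = 0 := by
        have h3 := h8 β
        linear_combination h3 + (β ^ 6 + β ^ 5 + β ^ 3) * h0
      rcases mul_eq_zero.mp h2 with h | h
      · exact Or.inl h
      · exact Or.inr (sub_eq_zero.mp h)
    rcases htr with h | h
    · apply hgoal (β ^ 4)
      have h2 : β + β ^ 4 + (β ^ 4) ^ 4 = 0 := by
        have h3 : (β ^ 4) ^ 4 = β ^ 2 := by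
          calc (β ^ 4) ^ 4 = (β ^ 8) ^ 2 := by ring
            _ = β ^ 2 := by rw [h8]
        rw [h3]
        linear_combination h
      rw [h2]
      exact Subgroup.mem_zpowers _
    · apply hgoal ((β + 1) ^ 4)
      have h2 : β + (β + 1) ^ 4 + ((β + 1) ^ 4) ^ 4 = 1 := by
        have h3 : ((β + 1) ^ 4) ^ 4 = (β + 1) ^ 2 := by
          calc ((β + 1) ^ 4) ^ 4 = ((β + 1) ^ 8) ^ 2 := by ring
            _ = (β + 1) ^ 2 := by rw [h8]
        rw [h3]
        linear_combination h + (2 * β ^ 3 + 3 * β ^ 2 + 3 * β + 1) * h0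
      rw [h2, ← hinv]
      exact Subgroup.inv_mem _ (Subgroup.mem_zpowers _)

/-- `y ^ i` is not in the Borel subgroup -/
theorem y_pow_notMem {a : F} (ha : a ^ 3 = a + 1) (i : ℕ) (h0 : 0 < i) (h13 : i < 13) :
    (y h8 ha) ^ i ∉ (good h8).borel := by
  intro h
  have hB : ∀ g ∈ (good h8).borel, g ^ 28 = 1 := by
    intro g hg
    obtain ⟨a, b, k, rfl⟩ := ((good h8).mem_borel_iff' g).mp hg
    have h7 : ∀ n : ℕ, ∃ c e : F, ((good h8).u a b * (good h8).d k) ^ n = (good h8).u c e * (good h8).d (k ^ n) := by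
      intro n
      induction n with
      | zero => exact ⟨0, 0, by rw [pow_zero, pow_zero, (good h8).u_zero, (good h8).d_one, mul_one]⟩
      | succ n ih =>
        obtain ⟨c, e, hce⟩ := ih
        refine ⟨(c + a * (k ^ n : Fˣ) ^ 2 * (th F (k ^ n : Fˣ))⁻¹),
              (e + b * th F (k ^ n : Fˣ) + c * th F (a * (k ^ n : Fˣ) ^ 2 * (th F (k ^ n : Fˣ))⁻¹)), ?_⟩
        rw [pow_succ, hce]
        calc (good h8).u c e * (good h8).d (k ^ n) * ((good h8).u a b * (good h8).d k)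
            = (good h8).u c e * ((good h8).d (k ^ n) * (good h8).u a b) * (good h8).d k := by group
          _ = (good h8).u (c + a * (k ^ n : Fˣ) ^ 2 * (th F (k ^ n : Fˣ))⁻¹)
              (e + b * th F (k ^ n : Fˣ) + c * th F (a * (k ^ n : Fˣ) ^ 2 * (th F (k ^ n : Fˣ))⁻¹)) *
              (good h8).d (k ^ (n + 1)) := by
            rw [(good h8).d_mul_u, pow_succ k n, ← (good h8).d_mul, ← (good h8).u_mul]
            group
    obtain ⟨c, e, hce⟩ := h7 7
    have hk : k ^ 7 = 1 := by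
      apply Units.ext
      have h1 : (k : F) * (k : F) ^ 7 = k * 1 := by rw [← pow_succ', h8, mul_one]
      rw [Units.val_pow_eq_pow_val, Units.val_one]
      exact mul_left_cancel₀ k.ne_zero h1
    rw [hk, (good h8).d_one, mul_one] at hce
    rw [show 28 = 7 * 4 by norm_num, pow_mul, hce]
    have : ((good h8).u c e) ^ 4 = ((good h8).u c e * (good h8).u c e) *
        ((good h8).u c e * (good h8).u c e) := by
      simp only [pow_succ, pow_zero, one_mul, mul_assoc]
    rw [this, u_sq h8, u_sq h8, ← (good h8).u_zero]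
    simp
  have h1 := hB _ h
  rw [← pow_mul, ← orderOf_dvd_iff_pow_eq_one, order_y] at h1
  have h2 : Nat.Coprime 13 28 := by norm_num
  exact absurd (Nat.le_of_dvd h0 (h2.dvd_of_dvd_mul_right h1)) (by omega)

theorem card_unip (hc : Fintype.card F = 8) : Nat.card (good h8).unip = 64 := by
  have e : F × F ≃ (good h8).unip :=
    Equiv.ofBijective (fun p => ⟨(good h8).u p.1 p.2, (good h8).u_mem_unip _ _⟩) ⟨by
      rintro ⟨a, b⟩ ⟨c, d⟩ h
      obtain ⟨h1, h2⟩ := (good h8).u_inj (congrArg Subtype.val h)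
      exact Prod.ext h1 h2, by
      rintro ⟨x, hx⟩
      obtain ⟨a, b, rfl⟩ := ((good h8).mem_unip_iff x).mp hx
      exact ⟨(a, b), rfl⟩⟩
  rw [← Nat.card_congr e, Nat.card_prod, Nat.card_eq_fintype_card, hc]

include h8 in
theorem not_three : ¬ 3 ∣ Nat.card ↥(Cfsg.Lie.Sz F 4) := by
  intro h
  obtain ⟨x, hx⟩ := exists_prime_orderOf_dvd_card' 3 (hp := ⟨by norm_num⟩) h
  have h1 : ∀ n : ℕ, x.1 ^ n = 1 → 3 ∣ n := by
    intro n hn
    rw [← hx, orderOf_dvd_iff_pow_eq_one]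
    exact Subtype.ext hn
  rcases pow_cases h8 x.2 with h | h | h | h
  · exact absurd (h1 _ h) (by norm_num)
  · exact absurd (h1 _ h) (by norm_num)
  · exact absurd (h1 _ h) (by norm_num)
  · exact absurd (h1 _ h) (by norm_num)

/-- elements of `⟨s⟩` are good -/
theorem good_s {a : F} (ha : a ^ 3 = a + 1) {d : Subgroup ↥(Cfsg.Lie.Sz F 4) → ℕ} (hd : Dm 3 d)
    (hy0 : d (Subgroup.zpowers (y h8 ha)) = 0) (e : ↥(Cfsg.Lie.Sz F 4)) (he : e ∈ Subgroup.zpowers (s h8)) :
    orderOf e * d (Subgroup.zpowers e) = d ⊥ := by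
  classical
  set Y := y h8 ha with hY
  set S := s h8 with hS
  have hYS : S * Y * S⁻¹ = Y ^ 8 := s_y h8 ha
  have hoY : orderOf Y = 13 := order_y h8 ha
  have hoS : orderOf S = 4 := order_s h8
  have hle : Subgroup.zpowers e ≤ Subgroup.zpowers S := Subgroup.zpowers_le.mpr he
  have hpow : ∀ n : ℕ, ∀ u ∈ Subgroup.zpowers Y, S ^ n * u * (S ^ n)⁻¹ ∈ Subgroup.zpowers Y := by
    intro n
    induction n with
    | zero => intro u hu; simpa using hu
    | succ n ih =>
      intro u hu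
      obtain ⟨k, rfl⟩ := Subgroup.mem_zpowers_iff.mp hu
      have h1 : S ^ (n + 1) * Y ^ k * (S ^ (n + 1))⁻¹ = S ^ n * (S * Y * S⁻¹) ^ k * (S ^ n)⁻¹ := by
        rw [conj_zpow, pow_succ]
        group
      rw [h1, hYS]
      exact ih _ (Subgroup.zpow_mem _ (Subgroup.pow_mem _ (Subgroup.mem_zpowers Y) 8) k)
  have hmem : ∀ x ∈ Subgroup.zpowers S, ∃ n : ℕ, n < 4 ∧ S ^ n = x := by
    intro x hx
    obtain ⟨n, hn, rfl⟩ := (mem_zpowers_iff_mem_range_orderOf.mp hx : x ∈ Finset.image (S ^ ·) (Finset.range (orderOf S))) |> Finset.mem_image.mp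
    exact ⟨n, by rwa [Finset.mem_range, hoS] at hn, rfl⟩
  rw [← Nat.card_zpowers]
  apply hd.frob (Subgroup.zpowers Y)
  · intro x hx hx2
    have h1 := orderOf_dvd_of_mem_zpowers hx
    have h2 := orderOf_dvd_of_mem_zpowers (hle hx2)
    rw [hoY] at h1
    rw [hoS] at h2
    exact orderOf_eq_one_iff.mp (Nat.eq_one_of_dvd_coprimes (by norm_num) h1 h2)
  · intro x hx u hu
    obtain ⟨n, -, rfl⟩ := hmem x (hle hx)
    exact hpow n u hu
  · intro x hx hx1 u hu hc
    by_contra hu1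
    obtain ⟨n, hn4, rfl⟩ := hmem x (hle hx)
    -- `x` commutes with `Y`
    have hgen : Y ∈ Subgroup.zpowers u := by
      have h1 : Subgroup.zpowers u = Subgroup.zpowers Y := by
        apply Subgroup.eq_of_le_of_card_ge (Subgroup.zpowers_le.mpr hu)
        have h2 := orderOf_dvd_of_mem_zpowers hu
        rw [hoY] at h2
        rw [Nat.card_zpowers, Nat.card_zpowers, hoY]
        rcases (Nat.dvd_prime (by norm_num : Nat.Prime 13)).mp h2 with h3 | h3
        · exact absurd (orderOf_eq_one_iff.mp h3) hu1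
        · rw [h3]
      rw [h1]; exact Subgroup.mem_zpowers Y
    obtain ⟨k, hk⟩ := Subgroup.mem_zpowers_iff.mp hgen
    have hcY : Commute (S ^ n) Y := by
      rw [← hk]
      exact (show Commute (S ^ n) u from hc).zpow_right k
    have hn0 : n ≠ 0 := by
      rintro rfl
      exact hx1 (pow_zero _)
    have h4 : S ^ 4 = 1 := by
      have := pow_orderOf_eq_one S
      rwa [hoS] at this
    have hc2 : Commute (S ^ 2) Y := by
      have h5 : n = 1 ∨ n = 2 ∨ n = 3 := by omega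
      rcases h5 with rfl | rfl | rfl
      · rw [pow_one] at hcY
        exact hcY.pow_left 2
      · exact hcY
      · have h6 := hcY.pow_left 2
        have h7 : (S ^ 3) ^ 2 = S ^ 4 * S ^ 2 := by rw [← pow_mul, ← pow_add]
        rwa [h7, h4, one_mul] at h6
    have h6 : S ^ 2 * Y * (S ^ 2)⁻¹ = Y ^ 64 := by
      have h7 : S ^ 2 * Y * (S ^ 2)⁻¹ = S * (S * Y * S⁻¹) * S⁻¹ := by
        rw [pow_two, mul_inv_rev]; group
      rw [h7, hYS, ← conj_pow, hYS, ← pow_mul]
    rw [hc2.eq, mul_inv_cancel_right] at h6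
    have h8' : Y ^ 63 = 1 := by
      have h9 : Y * Y ^ 63 = Y * 1 := by rw [← pow_succ', mul_one, ← h6]
      exact mul_left_cancel h9
    rw [← orderOf_dvd_iff_pow_eq_one, hoY] at h8'
    omega
  · exact hy0

include h8 in
theorem main (hc : Fintype.card F = 8) {V : Type*} [AddCommGroup V] [Finite V]
    (ρ : ↥(Cfsg.Lie.Sz F 4) →* AddMonoid.End V) (h3 : ∀ v : V, 3 • v = 0)
    (h13 : ∀ g, orderOf g = 13 → ∀ v, ρ g v = v → v = 0) : ∀ v : V, v = 0 := by
  classical
  have : Fact (Nat.Prime 3) := ⟨by norm_num⟩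
  obtain ⟨a, ha⟩ := exists_root h8 hc
  obtain ⟨d, hd, hd1, hd2⟩ := exists_dm h3 ρ (not_three h8)
  have hy0 : d (Subgroup.zpowers (y h8 ha)) = 0 := by
    rw [hd2]
    intro v hv
    exact h13 _ (order_y h8 ha) v (hv _ (Subgroup.mem_zpowers _))
  have hQ : Nat.card (good h8).unip * d (good h8).unip = d ⊥ := by
    apply hd.sum_good
    intro x hx
    obtain ⟨g, hg⟩ := conj_s h8 x hx
    have h1 := good_s h8 ha hd hy0 _ hg
    rwa [orderOf_conj, hd.conj_zp] at h1
  have := Fintype.ofFinite (good h8).unip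
  have hQ0 : d (good h8).unip = 0 := by
    rw [hd2]
    intro v hv
    refine hecke (good h8) ρ h3 (by rw [← Nat.card_eq_fintype_card, card_unip h8 hc]) ?_ (y h8 ha)
      (y_pow_notMem h8 ha) ?_ v hv
    · intro k
      refine ⟨k ^ 4, ?_⟩
      apply Units.ext
      rw [Units.val_mul, Units.val_pow_eq_pow_val, ← pow_add, h8]
    · intro v
      apply h13 _ (order_y h8 ha)
      rw [map_sum]
      have h1 : ∀ i ∈ Finset.range 13, ρ (y h8 ha) (ρ ((y h8 ha) ^ i) v) = ρ ((y h8 ha) ^ (i + 1)) v := by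
        intro i _
        rw [← act_mul, ← pow_succ']
      rw [Finset.sum_congr rfl h1]
      have h2 := Finset.sum_range_succ (fun i => ρ ((y h8 ha) ^ i) v) 13
      have h3 := Finset.sum_range_succ' (fun i => ρ ((y h8 ha) ^ i) v) 13
      rw [h2] at h3
      have h4 : (y h8 ha) ^ 13 = 1 := by
        rw [← order_y h8 ha, pow_orderOf_eq_one]
      rw [h4, pow_zero] at h3
      exact (add_right_cancel h3).symm
  rw [hQ0, mul_zero] at hQ
  intro v
  apply (hd2 ⊥).mp hQ.symm v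
  intro x hx
  rw [Subgroup.mem_bot.mp hx, map_one]
  rfl

end group

/-- **Module lemma for `Sz(8)`, characteristic 3.** -/
theorem zero_of_real {S : Type*} [Group S] [Finite S] (hS : Cfsg.Agent.OrdDiv.Real (.sz 8) S)
    {V : Type*} [AddCommGroup V] [Finite V] (ρ : S →* AddMonoid.End V) (h3 : ∀ v : V, 3 • v = 0)
    (h13 : ∀ g : S, orderOf g = 13 → ∀ v, ρ g v = v → v = 0) : ∀ v : V, v = 0 := by
  obtain ⟨F, _, _, m, hm, hF, h2, ⟨e⟩⟩ := hS
  have hm1 : m = 1 := by
    have h4 : 2 ^ 3 = 2 ^ (2 * m + 1) := h2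
    have := Nat.pow_right_injective (le_refl 2) h4
    omega
  subst hm1
  have : CharP F 2 := by
    obtain ⟨p, hp⟩ := CharP.exists F
    obtain ⟨n, hn, h⟩ := FiniteField.card F p
    rw [hF] at h
    have h1 : p ∣ 2 ^ 3 := by
      have : (8 : ℕ) = 2 ^ 3 := by norm_num
      rw [← this, h]; exact dvd_pow_self p n.2.ne'
    rw [(Nat.prime_dvd_prime_iff_eq hn (by norm_num)).mp (hn.dvd_of_dvd_pow h1)] at hp
    exact hp
  have h8 : ∀ x : F, x ^ 8 = x := by
    intro x
    rw [← hF]; exact FiniteField.pow_card x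
  apply main h8 hF (ρ.comp e.symm.toMonoidHom) h3
  · intro g hg v hv
    exact h13 (e.symm g) ((MulEquiv.orderOf_eq e.symm g).trans hg) v hv

end Cfsg.Agent.H422.SzEight
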