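import Cfsg.Agent.H422.CopMod
import Cfsg.Agent.H426.SL2Orders
import Cfsg.Agent.OrdDiv.Main

/-!
# `PSL₂(13)` in characteristic 5

If the elements of order 7 and 13 of `PSL₂(13)` have no nonzero fixed vectors in a finite module of
exponent 5, then the module is zero.
-/

set_option autoImplicit false
set_option linter.unusedSectionVars false

namespace Cfsg.Agent.H422.LTwoThirteen

open Matrix Cfsg.Agent.H422.CopMod Cfsg.Agent.OddOrderCharacters.WielandtElem
open scoped Pointwise

variable {F : Type*} [Field F] [Fintype F] (hF : Fintype.card F = 13)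

/-- the projection -/
abbrev pr : Matrix.SpecialLinearGroup (Fin 2) F →* Matrix.ProjectiveSpecialLinearGroup (Fin 2) F :=
  QuotientGroup.mk' _

theorem pr_surj (g : Matrix.ProjectiveSpecialLinearGroup (Fin 2) F) : ∃ M, pr M = g :=
  QuotientGroup.mk'_surjective _ g

theorem pr_eq_one {M : Matrix.SpecialLinearGroup (Fin 2) F} :
    pr M = 1 ↔ M ∈ Subgroup.center (Matrix.SpecialLinearGroup (Fin 2) F) := by
  rw [QuotientGroup.mk'_apply, QuotientGroup.eq_one_iff]

/-- entries of a central element -/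
theorem central {M : Matrix.SpecialLinearGroup (Fin 2) F}
    (h : M ∈ Subgroup.center (Matrix.SpecialLinearGroup (Fin 2) F)) :
    M 0 1 = 0 ∧ M 1 0 = 0 ∧ M 0 0 = M 1 1 ∧ M 0 0 * M 0 0 = 1 := by
  rw [Matrix.SpecialLinearGroup.mem_center_iff] at h
  obtain ⟨c, hc, h⟩ := h
  have h01 := congrFun (congrFun h 0) 1
  have h10 := congrFun (congrFun h 1) 0
  have h00 := congrFun (congrFun h 0) 0
  have h11 := congrFun (congrFun h 1) 1
  simp at h01 h10 h00 h11
  rw [Fintype.card_fin] at hc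
  refine ⟨h01.symm, h10.symm, h00.symm.trans h11, ?_⟩
  rw [← h00, ← pow_two]; exact hc

include hF in
theorem charP : CharP F 13 := by
  obtain ⟨p, hp⟩ := CharP.exists F
  obtain ⟨n, hn, h⟩ := FiniteField.card F p
  rw [hF] at h
  have h1 : p ∣ 13 := h ▸ dvd_pow_self p n.2.ne'
  rw [(Nat.prime_dvd_prime_iff_eq hn (by norm_num)).mp h1] at hp
  exact hp

instance h422FactThirteen : Fact (Nat.Prime 13) := ⟨by norm_num⟩

instance h422FactFive : Fact (Nat.Prime 5) := ⟨by norm_num⟩

include hF in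
theorem two_ne : (2 : F) ≠ 0 := by
  have := charP hF
  intro h
  have h1 : ((2 : ℕ) : F) = 0 := by exact_mod_cast h
  rw [CharP.cast_eq_zero_iff F 13] at h1
  omega

include hF in
/-- an element of `SL₂(13)` of order dividing 12 has an eigenvalue -/
theorem exists_eigen (A : Matrix (Fin 2) (Fin 2) F) (hd : A.det = 1) (h : A ^ 12 = 1) :
    ∃ a : F, (A - scalar (Fin 2) a).det = 0 := by
  have := charP hF
  set B := A.adjugate with hB
  have hAB : A * B = 1 := by rw [hB, mul_adjugate, hd, one_smul]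
  have hBA : B * A = 1 := by rw [hB, adjugate_mul, hd, one_smul]
  have hc : Commute A B := by rw [Commute, SemiconjBy, hAB, hBA]
  have hB12 : B ^ 12 = 1 := by
    have h1 : A ^ 12 * B ^ 12 = 1 := by rw [← hc.mul_pow, hAB, one_pow]
    rwa [h, one_mul] at h1
  set τ := A 0 0 + A 1 1 with hτ
  have hsum : A + B = algebraMap F _ τ := Cfsg.Agent.H426.mat2_add_adjugate A
  set δ := τ ^ 2 - 4 with hδ
  have hsq : (A - B) ^ 2 = algebraMap F _ δ := by
    have h1 : (A - B) ^ 2 = (A + B) ^ 2 - 4 * (A * B) := by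
      rw [pow_two, pow_two, sub_mul, mul_sub, mul_sub, add_mul, mul_add, mul_add, hAB, hBA, mul_one]
      have : (4 : Matrix (Fin 2) (Fin 2) F) = 1 + 1 + (1 + 1) := by norm_num
      rw [this]
      abel
    rw [h1, hsum, hAB, mul_one, ← map_pow, hδ, map_sub, map_ofNat]
  -- `δ` is a square
  have hs : IsSquare δ := by
    by_contra hns
    have hδ0 : δ ≠ 0 := by
      rintro h0
      exact hns (h0 ▸ IsSquare.zero)
    have h2 : ringChar F ≠ 2 := by
      rw [(ringChar.eq_iff (R := F) (p := 13)).mpr inferInstance]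
      norm_num
    have h6 : δ ^ 6 = -1 := by
      rcases FiniteField.pow_dichotomy h2 hδ0 with h1 | h1
      · rw [hF] at h1
        exact absurd ((FiniteField.isSquare_iff h2 hδ0).mpr (by rw [hF]; exact h1)) hns
      · rw [hF] at h1
        exact h1
    have h13 : (A - B) ^ 13 = A - B := by
      rw [sub_pow_char_of_commute 13 hc, pow_succ A 12, pow_succ B 12, h, hB12, one_mul, one_mul]
    have h12 : (A - B) ^ 13 = - (A - B) := by
      rw [show 13 = 2 * 6 + 1 by norm_num, pow_succ, pow_mul, hsq, ← map_pow, h6, map_neg, map_one,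
        neg_one_mul]
    have h3 : (2 : F) • (A - B) = 0 := by
      rw [two_smul]
      nth_rewrite 1 [← h13]
      rw [h12, neg_add_cancel]
    have h4 : A - B = 0 := (smul_eq_zero.mp h3).resolve_left (two_ne hF)
    rw [h4, zero_pow (by norm_num)] at hsq
    have h5 := congrFun (congrFun hsq 0) 0
    rw [Matrix.algebraMap_matrix_apply, if_pos rfl, Matrix.zero_apply, Algebra.algebraMap_self,
      RingHom.id_apply] at h5
    exact hδ0 h5.symm
  obtain ⟨s, hs⟩ := hs
  refine ⟨(τ + s) / 2, ?_⟩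
  have h22 := two_ne hF
  have hd' : A 0 0 * A 1 1 - A 0 1 * A 1 0 = 1 := by rw [← hd, det_fin_two]
  rw [det_fin_two]
  simp only [Matrix.sub_apply, scalar_apply, diagonal_apply_eq, ne_eq, Fin.isValue, zero_ne_one,
    not_false_eq_true, diagonal_apply_ne, one_ne_zero, sub_zero]
  have e1 : (A 0 0 - (τ + s) / 2) * (A 1 1 - (τ + s) / 2) - A 0 1 * A 1 0 =
      (A 0 0 * A 1 1 - A 0 1 * A 1 0) - (τ + s) / 2 * (A 0 0 + A 1 1) + ((τ + s) / 2) ^ 2 := by ring
  rw [e1, hd', ← hτ]
  have e2 : (1 - (τ + s) / 2 * τ + ((τ + s) / 2) ^ 2 : F) = (4 - τ ^ 2 + s * s) / 4 := by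
    have h4 : (4 : F) ≠ 0 := by
      have : (4 : F) = 2 * 2 := by norm_num
      rw [this]; exact mul_ne_zero h22 h22
    field_simp
    ring
  rw [e2, ← hs, hδ]
  simp

theorem exists_first (v : Fin 2 → F) (hv : v ≠ 0) :
    ∃ N : Matrix.SpecialLinearGroup (Fin 2) F, N 0 0 = v 0 ∧ N 1 0 = v 1 := by
  by_cases h : v 0 = 0
  · have h1 : v 1 ≠ 0 := by
      intro h1
      apply hv
      ext i
      fin_cases i
      · exact h
      · exact h1
    refine ⟨⟨!![0, -(v 1)⁻¹; v 1, 0], by rw [det_fin_two_of]; field_simp; ring⟩, ?_, ?_⟩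
    · rw [h]; rfl
    · rfl
  · refine ⟨⟨!![v 0, 0; v 1, (v 0)⁻¹], by rw [det_fin_two_of]; field_simp; ring⟩, rfl, rfl⟩

include hF in
/-- an element of order dividing 12 is conjugate to an upper triangular one -/
theorem exists_triangular (A : Matrix.SpecialLinearGroup (Fin 2) F) (h : A ^ 12 = 1) :
    ∃ N : Matrix.SpecialLinearGroup (Fin 2) F, (N⁻¹ * A * N) 1 0 = 0 := by
  have h1 : (A : Matrix (Fin 2) (Fin 2) F) ^ 12 = 1 := by
    rw [← Matrix.SpecialLinearGroup.coe_pow, h, Matrix.SpecialLinearGroup.coe_one]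
  obtain ⟨a, ha⟩ := exists_eigen hF (A : Matrix (Fin 2) (Fin 2) F) A.det_coe h1
  obtain ⟨v, hv, hv2⟩ := Matrix.exists_mulVec_eq_zero_iff.mpr ha
  obtain ⟨N, hN0, hN1⟩ := exists_first v hv
  refine ⟨N, ?_⟩
  have e0 := congrFun hv2 0
  have e1 := congrFun hv2 1
  simp only [Matrix.mulVec, dotProduct, Fin.sum_univ_two, Matrix.sub_apply, scalar_apply,
    diagonal_apply_eq, ne_eq, Fin.isValue, zero_ne_one, not_false_eq_true, diagonal_apply_ne,
    one_ne_zero, sub_zero, Pi.zero_apply] at e0 e1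
  rw [Matrix.SpecialLinearGroup.coe_mul, Matrix.SpecialLinearGroup.coe_mul, Matrix.SpecialLinearGroup.coe_inv,
    adjugate_fin_two, Matrix.mul_apply, Fin.sum_univ_two, Matrix.mul_apply, Matrix.mul_apply,
    Fin.sum_univ_two, Fin.sum_univ_two]
  change (-(N 1 0) * A 0 0 + N 0 0 * A 1 0) * N 0 0 + (-(N 1 0) * A 0 1 + N 0 0 * A 1 1) * N 1 0 = 0
  rw [hN0, hN1]
  linear_combination v 0 * e1 - v 1 * e0

/-- the upper triangular matrices -/
def Bor : Subgroup (Matrix.SpecialLinearGroup (Fin 2) F) where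
  carrier := {M | M 1 0 = 0}
  one_mem' := by simp
  mul_mem' := by
    intro a b ha hb
    change (a * b) 1 0 = 0
    have ha' : a 1 0 = 0 := ha
    have hb' : b 1 0 = 0 := hb
    rw [Matrix.SpecialLinearGroup.coe_mul, Matrix.mul_apply, Fin.sum_univ_two, ha', hb']
    ring
  inv_mem' := by
    intro a ha
    change (a⁻¹) 1 0 = 0
    have ha' : a 1 0 = 0 := ha
    rw [Matrix.SpecialLinearGroup.coe_inv, adjugate_fin_two]
    change - a 1 0 = 0
    rw [ha', neg_zero]

theorem mem_Bor {M : Matrix.SpecialLinearGroup (Fin 2) F} : M ∈ Bor ↔ M 1 0 = 0 := Iff.rfl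

/-- upper unitriangular matrices -/
def up (b : F) : Matrix.SpecialLinearGroup (Fin 2) F := ⟨!![1, b; 0, 1], by simp [det_fin_two]⟩

theorem up_add (a b : F) : up a * up b = up (a + b) := by
  apply Subtype.ext
  change (!![1, a; 0, 1] : Matrix (Fin 2) (Fin 2) F) * !![1, b; 0, 1] = !![1, a + b; 0, 1]
  ext i j
  fin_cases i <;> fin_cases j <;> simp [Matrix.mul_apply, Fin.sum_univ_two, add_comm]

theorem up_zero : up (0 : F) = 1 := by
  apply Subtype.ext
  change (!![1, 0; 0, 1] : Matrix (Fin 2) (Fin 2) F) = 1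
  ext i j
  fin_cases i <;> fin_cases j <;> simp

theorem up_pow (b : F) (n : ℕ) : up b ^ n = up ((n : F) * b) := by
  induction n with
  | zero => rw [pow_zero, Nat.cast_zero, zero_mul, up_zero]
  | succ n ih => rw [pow_succ, ih, up_add]; congr 1; push_cast; ring

/-- the image of the upper unitriangular group -/
def U : Subgroup (Matrix.ProjectiveSpecialLinearGroup (Fin 2) F) where
  carrier := {g | ∃ b, g = pr (up b)}
  one_mem' := ⟨0, by rw [up_zero, map_one]⟩
  mul_mem' := by
    rintro _ _ ⟨a, rfl⟩ ⟨b, rfl⟩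
    exact ⟨a + b, by rw [← map_mul, up_add]⟩
  inv_mem' := by
    rintro _ ⟨a, rfl⟩
    refine ⟨-a, ?_⟩
    rw [inv_eq_iff_mul_eq_one, ← map_mul, up_add, add_neg_cancel, up_zero, map_one]

/-- conjugation of a unitriangular by a triangular matrix -/
theorem conj_up (M : Matrix.SpecialLinearGroup (Fin 2) F) (hM : M 1 0 = 0) (b : F) :
    M * up b * M⁻¹ = up (M 0 0 ^ 2 * b) := by
  rw [mul_inv_eq_iff_eq_mul]
  have hd : M 0 0 * M 1 1 = 1 := by
    have := M.det_coe
    rw [det_fin_two, hM, mul_zero, sub_zero] at this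
    exact this
  apply Subtype.ext
  change (M : Matrix (Fin 2) (Fin 2) F) * !![1, b; 0, 1] = !![1, M 0 0 ^ 2 * b; 0, 1] * M
  ext i j
  fin_cases i <;> fin_cases j
  · simp [Matrix.mul_apply, Fin.sum_univ_two, hM]
  · simp [Matrix.mul_apply, Fin.sum_univ_two]
    linear_combination - b * M 0 0 * hd
  · simp [Matrix.mul_apply, Fin.sum_univ_two, hM]
  · simp [Matrix.mul_apply, Fin.sum_univ_two, hM]

/-- unitriangular matrices are determined by their image -/
theorem pr_up_eq {a b : F} (h : pr (up a) = pr (up b)) : a = b := by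
  have h1 : pr (up (a - b)) = 1 := by
    have h2 : up a = up (a - b) * up b := by rw [up_add, sub_add_cancel]
    rw [h2, map_mul] at h
    exact mul_eq_right.mp h
  have h3 := (central (pr_eq_one.mp h1)).1
  exact sub_eq_zero.mp h3

include hF in
theorem pow_six {g : Matrix.ProjectiveSpecialLinearGroup (Fin 2) F} (h : g ∈ U) : g ^ 13 = 1 := by
  have := charP hF
  obtain ⟨b, rfl⟩ := h
  rw [← map_pow, up_pow, CharP.cast_eq_zero F 13, zero_mul, up_zero, map_one]

include hF in
/-- elements of order dividing 6 -/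
theorem good {d : Subgroup (Matrix.ProjectiveSpecialLinearGroup (Fin 2) F) → ℕ} (hd : Dm 5 d)
    (hU : d U = 0) (x : Matrix.ProjectiveSpecialLinearGroup (Fin 2) F) (hx : x ^ 6 = 1) :
    orderOf x * d (Subgroup.zpowers x) = d ⊥ := by
  have := charP hF
  obtain ⟨M, rfl⟩ := pr_surj x
  have h12 : M ^ 12 = 1 := by
    rw [← map_pow, pr_eq_one] at hx
    obtain ⟨h01, h10, h00, h11⟩ := central hx
    rw [show 12 = 6 * 2 by norm_num, pow_mul, pow_two]
    apply Subtype.ext
    ext i j
    rw [Matrix.SpecialLinearGroup.coe_mul, Matrix.mul_apply, Fin.sum_univ_two]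
    fin_cases i <;> fin_cases j <;> simp_all
  obtain ⟨N, hN⟩ := exists_triangular hF M h12
  set T := N⁻¹ * M * N with hT
  have hTB : T ∈ Bor := hN
  have hM : pr M = pr N * pr T * (pr N)⁻¹ := by
    rw [hT]
    simp only [map_mul, map_inv]
    group
  have hord : orderOf (pr M) = orderOf (pr T) := by rw [hM, orderOf_conj]
  have hT6 : (pr T) ^ 6 = 1 := by
    rw [← orderOf_dvd_iff_pow_eq_one, ← hord, orderOf_dvd_iff_pow_eq_one]
    exact hx
  rw [hord, hM, hd.conj_zp, ← Nat.card_zpowers]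
  -- elements of `⟨T⟩`
  have hE : ∀ e ∈ Subgroup.zpowers (pr T), ∃ S : Matrix.SpecialLinearGroup (Fin 2) F, S ∈ Bor ∧ pr S = e ∧
      e ^ 6 = 1 := by
    rintro e he
    obtain ⟨k, rfl⟩ := Subgroup.mem_zpowers_iff.mp he
    refine ⟨T ^ k, Bor.zpow_mem hTB k, map_zpow _ _ _, ?_⟩
    rw [← zpow_natCast, ← _root_.zpow_mul, mul_comm, _root_.zpow_mul, zpow_natCast, hT6, _root_.one_zpow]
  have h613 : ∀ e : Matrix.ProjectiveSpecialLinearGroup (Fin 2) F, e ^ 6 = 1 → e ^ 13 = 1 → e = 1 := by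
    intro e h6 h13
    have h1 : e ^ 13 = (e ^ 6) ^ 2 * e := by group
    rw [h6, one_pow, one_mul] at h1
    rw [← h1]; exact h13
  apply hd.frob U
  · intro x hx he
    obtain ⟨-, -, -, h6⟩ := hE x he
    exact h613 x h6 (pow_six hF hx)
  · intro e he u hu
    obtain ⟨S, hS, rfl, -⟩ := hE e he
    obtain ⟨b, rfl⟩ := hu
    exact ⟨S 0 0 ^ 2 * b, by rw [← conj_up S hS, map_mul, map_mul, map_inv]⟩
  · intro e he he1 u hu hc
    obtain ⟨S, hS, rfl, h6⟩ := hE e he
    obtain ⟨b, rfl⟩ := hu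
    by_contra hb
    have hb0 : b ≠ 0 := by
      rintro rfl
      rw [up_zero, map_one] at hb
      exact hb rfl
    have h1 : pr (up (S 0 0 ^ 2 * b)) = pr (up b) := by
      rw [← conj_up S hS, map_mul, map_mul, map_inv, hc, mul_inv_cancel_right]
    have h2 := pr_up_eq h1
    have h3 : S 0 0 ^ 2 = 1 := mul_right_cancel₀ hb0 (by rw [h2, one_mul])
    have hd2 : S 0 0 * S 1 1 = 1 := by
      have := S.det_coe
      rw [det_fin_two, mem_Bor.mp hS, mul_zero, sub_zero] at this
      exact this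
    have h4 : S 1 1 = S 0 0 := by
      have h5 : S 0 0 ≠ 0 := left_ne_zero_of_mul_eq_one hd2
      apply mul_left_cancel₀ h5
      rw [hd2, ← pow_two, h3]
    apply he1
    apply h613 _ h6
    -- `S = ± up`
    have h7 : pr S = pr (up (S 0 0 * S 0 1)) := by
      have h8 : pr (S * (up (S 0 0 * S 0 1))⁻¹) = 1 := by
        rw [pr_eq_one, Matrix.SpecialLinearGroup.mem_center_iff]
        refine ⟨S 0 0, by rw [Fintype.card_fin]; exact h3, ?_⟩
        have h9 : S = (S * (up (S 0 0 * S 0 1))⁻¹) * up (S 0 0 * S 0 1) := by group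
        have h10 : S * (up (S 0 0 * S 0 1))⁻¹ = S * up (-(S 0 0 * S 0 1)) := by
          congr 1
          rw [inv_eq_iff_mul_eq_one, up_add, add_neg_cancel, up_zero]
        rw [h10]
        change scalar (Fin 2) (S 0 0) = (S : Matrix (Fin 2) (Fin 2) F) * !![1, -(S 0 0 * S 0 1); 0, 1]
        ext i j
        fin_cases i <;> fin_cases j
        · simp [Matrix.mul_apply, Fin.sum_univ_two]
        · simp [Matrix.mul_apply, Fin.sum_univ_two]
          linear_combination (S 0 1) * h3
        · simp [Matrix.mul_apply, Fin.sum_univ_two, mem_Bor.mp hS]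
        · simp [Matrix.mul_apply, Fin.sum_univ_two, mem_Bor.mp hS, h4]
      rw [map_mul, map_inv] at h8
      exact mul_inv_eq_one.mp h8
    rw [h7]
    exact pow_six hF ⟨_, rfl⟩
  · exact hU

/-- lower unitriangular matrices -/
def low (b : F) : Matrix.SpecialLinearGroup (Fin 2) F := ⟨!![1, 0; b, 1], by simp [det_fin_two]⟩

theorem low_mul (a b : F) : low a * low b = low (a + b) := by
  apply Subtype.ext
  change (!![1, 0; a, 1] : Matrix (Fin 2) (Fin 2) F) * !![1, 0; b, 1] = !![1, 0; a + b, 1]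
  ext i j
  fin_cases i <;> fin_cases j <;> simp [Matrix.mul_apply, Fin.sum_univ_two]

theorem low_zero : low (0 : F) = 1 := by
  apply Subtype.ext
  change (!![1, 0; 0, 1] : Matrix (Fin 2) (Fin 2) F) = 1
  ext i j
  fin_cases i <;> fin_cases j <;> simp

theorem low_pow (b : F) (n : ℕ) : low b ^ n = low ((n : F) * b) := by
  induction n with
  | zero => rw [pow_zero, Nat.cast_zero, zero_mul, low_zero]
  | succ n ih => rw [pow_succ, ih, low_mul]; congr 1; push_cast; ring

theorem low_notMem : pr (low (1 : F)) ∉ (U : Subgroup (Matrix.ProjectiveSpecialLinearGroup (Fin 2) F)) := by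
  rintro ⟨b, hb⟩
  have h1 : pr ((up b)⁻¹ * low 1) = 1 := by rw [map_mul, map_inv, ← hb, inv_mul_cancel]
  have h2 : (up b)⁻¹ = up (-b) := by rw [inv_eq_iff_mul_eq_one, up_add, add_neg_cancel, up_zero]
  rw [h2] at h1
  have h3 := (central (pr_eq_one.mp h1)).2.1
  have h4 : ((!![1, -b; 0, 1] : Matrix (Fin 2) (Fin 2) F) * (!![1, 0; 1, 1] : Matrix (Fin 2) (Fin 2) F)) 1 0
      = 0 := h3
  simp [Matrix.mul_apply, Fin.sum_univ_two] at h4

include hF in
theorem order_up : orderOf (pr (up (1 : F))) = 13 := by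
  apply orderOf_eq_prime (pow_six hF ⟨1, rfl⟩)
  intro h
  rw [← map_one pr, ← up_zero] at h
  exact one_ne_zero (pr_up_eq h)

include hF in
theorem order_low : orderOf (pr (low (1 : F))) = 13 := by
  have := charP hF
  apply orderOf_eq_prime
  · rw [← map_pow, low_pow, CharP.cast_eq_zero F 13, zero_mul, low_zero, map_one]
  · intro h
    exact low_notMem (h ▸ U.one_mem)

include hF in
theorem pow_cases (g : Matrix.ProjectiveSpecialLinearGroup (Fin 2) F) :
    g ^ 6 = 1 ∨ g ^ 7 = 1 ∨ g ^ 13 = 1 := by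
  have := charP hF
  obtain ⟨M, rfl⟩ := pr_surj g
  have key : ∀ k : ℕ, M ^ (2 * k) = 1 → (pr M) ^ k = 1 := by
    intro k hk
    rw [← map_pow, pr_eq_one]
    apply Cfsg.Agent.H426.sl2_sq_eq_one_mem_center (two_ne hF)
    rw [← pow_mul, mul_comm]
    exact hk
  rcases Cfsg.Agent.H426.sl2_pow_cases 13 M with h | h | h
  · rw [hF] at h
    exact Or.inl (key 6 h)
  · rw [hF] at h
    exact Or.inr (Or.inl (key 7 h))
  · exact Or.inr (Or.inr (key 13 h))

include hF in
theorem card_psl : Nat.card (Matrix.ProjectiveSpecialLinearGroup (Fin 2) F) = 1092 := by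
  have h := Cfsg.Agent.S0243.result hF 2 le_rfl
  rw [Fin.prod_univ_two] at h
  norm_num at h
  omega

include hF in
theorem main {V : Type*} [AddCommGroup V] [Finite V]
    (ρ : Matrix.ProjectiveSpecialLinearGroup (Fin 2) F →* AddMonoid.End V) (h5 : ∀ v : V, 5 • v = 0)
    (h7 : ∀ g, orderOf g = 7 → ∀ v, ρ g v = v → v = 0)
    (h13 : ∀ g, orderOf g = 13 → ∀ v, ρ g v = v → v = 0) : ∀ v : V, v = 0 := by
  obtain ⟨d, hd, hd1, hd2⟩ := exists_dm h5 ρ (by rw [card_psl hF]; norm_num)
  have hz : ∀ x : Matrix.ProjectiveSpecialLinearGroup (Fin 2) F, (orderOf x = 7 ∨ orderOf x = 13) →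
      d (Subgroup.zpowers x) = 0 := by
    intro x hx
    rw [hd2]
    intro v hv
    have h1 := hv x (Subgroup.mem_zpowers x)
    rcases hx with h | h
    · exact h7 x h v h1
    · exact h13 x h v h1
  have hU : d U = 0 := by
    rw [hd2]
    intro v hv
    exact h13 _ (order_up hF) v (hv _ ⟨1, rfl⟩)
  have h0 : d ⊥ = 0 := by
    refine hd.eq_zero (a := pr (up (1 : F))) (b := pr (low (1 : F))) ?_ ?_ (hz _ (Or.inr (order_up hF))) ?_
      (hz _ (Or.inr (order_low hF))) ?_
    · intro x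
      rcases pow_cases hF x with h | h | h
      · exact Or.inl (good hF hd hU x h)
      · by_cases h1 : x = 1
        · left; rw [h1]; simp
        · right
          have h2 : orderOf x = 7 := orderOf_eq_prime (hp := ⟨by norm_num⟩) h h1
          exact ⟨by rw [h2]; norm_num, hz x (Or.inl h2)⟩
      · by_cases h1 : x = 1
        · left; rw [h1]; simp
        · right
          have h2 : orderOf x = 13 := orderOf_eq_prime h h1
          exact ⟨by rw [h2]; norm_num, hz x (Or.inr h2)⟩
    · rw [order_up hF]; norm_num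
    · rw [order_low hF]; norm_num
    · intro h
      apply low_notMem (F := F)
      have h1 : pr (low (1 : F)) ∈ Subgroup.zpowers (pr (up (1 : F))) := h ▸ Subgroup.mem_zpowers _
      exact (Subgroup.zpowers_le.mpr (⟨1, rfl⟩ : pr (up (1 : F)) ∈ U)) h1
  intro v
  apply (hd2 ⊥).mp h0 v
  intro x hx
  rw [Subgroup.mem_bot.mp hx, map_one]
  rfl

/-- **Module lemma for `L₂(13)`, characteristic 5.** -/
theorem zero_of_real {S : Type*} [Group S] [Finite S] (hS : Cfsg.Agent.OrdDiv.Real (.psl 2 13) S)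
    {V : Type*} [AddCommGroup V] [Finite V] (ρ : S →* AddMonoid.End V) (h5 : ∀ v : V, 5 • v = 0)
    (h7 : ∀ g : S, orderOf g = 7 → ∀ v, ρ g v = v → v = 0)
    (h13 : ∀ g : S, orderOf g = 13 → ∀ v, ρ g v = v → v = 0) : ∀ v : V, v = 0 := by
  obtain ⟨F, _, _, hF, ⟨e⟩⟩ := hS
  apply main hF (ρ.comp e.symm.toMonoidHom) h5
  · intro g hg v hv
    exact h7 (e.symm g) ((MulEquiv.orderOf_eq e.symm g).trans hg) v hv
  · intro g hg v hv
    exact h13 (e.symm g) ((MulEquiv.orderOf_eq e.symm g).trans hg) v hv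

end Cfsg.Agent.H422.LTwoThirteen
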