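import Cfsg.Agent.Lib.FieldFour
import Cfsg.Agent.H161.G2Emb
import Cfsg.Agent.H638.G2Iso
import Cfsg.Agent.OrdDiv.Main

/-!
# `G₂(4)` in characteristic 2

If the elements of order 7 of `G₂(4)` have no nonzero fixed vectors in a finite module of exponent 2, then
neither have the elements of order 13.  (Proof: a subgroup `L₂(13) = ⟨Y, H, Z⟩`.)
-/

set_option autoImplicit false

namespace Cfsg.Agent.H422.GTwoFour

open Cfsg.Agent.Lib.FieldFour Cfsg.Agent.Lib.FieldFour.F4 Cfsg.Lie Cfsg.Agent.H161.Oct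
open scoped Matrix

abbrev M8 := Matrix (Fin 8) (Fin 8) F4

def mY : M8 := !![w, i, v, w, o, v, w, v; w, o, w, i, o, o, v, w; i, i, i, v, o, i, o, i; v, o, i, i, v, w, o, v; w, v, w, o, i, o, i, w; w, i, i, i, w, v, w, w; o, i, o, o, o, v, i, o; v, i, v, w, o, v, w, w]
def mYi : M8 := !![w, w, w, o, w, i, v, v; o, i, w, o, o, o, v, o; v, o, v, v, o, i, w, v; w, i, w, i, v, o, o, w; i, v, i, i, o, i, o, i; v, w, i, o, w, i, i, v; w, o, i, o, i, v, i, w; v, w, w, o, w, i, v, w]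
def mH : M8 := !![i, w, i, v, i, o, v, o; v, w, o, w, i, w, o, v; w, w, w, o, v, i, o, w; v, w, w, w, o, w, v, v; w, i, o, w, i, v, i, w; v, i, w, w, o, o, i, v; o, w, i, v, v, v, v, o; o, w, i, v, i, o, v, i]
def mHi : M8 := !![i, w, v, o, v, w, v, o; i, i, o, v, i, v, o, i; o, v, o, v, w, i, w, o; v, i, i, v, o, o, v, v; w, i, i, w, w, w, w, w; i, o, w, i, o, w, w, i; v, w, w, v, w, o, w, v; o, w, v, o, v, w, v, i]
def mZ : M8 := !![w, v, o, o, w, v, v, v; w, w, o, o, w, v, v, w; v, o, o, w, v, w, i, v; v, i, i, o, v, i, v, v; v, v, w, v, w, o, i, v; o, w, i, o, o, o, i, o; o, v, o, w, o, w, o, o; v, v, o, o, w, v, v, w]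

theorem mem_of (g : GL (Fin 8) F4) (h : ∀ i j : Fin 8, g.1 *ᵥ zornMul (Pi.single i 1) (Pi.single j 1) =
    zornMul (g.1 *ᵥ Pi.single i 1) (g.1 *ᵥ Pi.single j 1)) : g ∈ Cfsg.Lie.G2 F4 := by
  have key : (zL F4).compr₂ (Matrix.toLin' g.1) =
      (zL F4).compl₁₂ (Matrix.toLin' g.1) (Matrix.toLin' g.1) := by
    apply (Pi.basisFun F4 (Fin 8)).ext
    intro i
    apply (Pi.basisFun F4 (Fin 8)).ext
    intro j
    rw [Pi.basisFun_apply, Pi.basisFun_apply]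
    exact h i j
  intro x y
  exact LinearMap.congr_fun (LinearMap.congr_fun key x) y

def gY : GL (Fin 8) F4 := ⟨mY, mYi, by decide +kernel, by decide +kernel⟩
def gH : GL (Fin 8) F4 := ⟨mH, mHi, by decide +kernel, by decide +kernel⟩
def gZ : GL (Fin 8) F4 := ⟨mZ, mZ, by decide +kernel, by decide +kernel⟩

def Y : Cfsg.Lie.G2 F4 := ⟨gY, mem_of _ (by decide +kernel)⟩
def H : Cfsg.Lie.G2 F4 := ⟨gH, mem_of _ (by decide +kernel)⟩
def Z : Cfsg.Lie.G2 F4 := ⟨gZ, mem_of _ (by decide +kernel)⟩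

theorem ext' {a b : Cfsg.Lie.G2 F4} (h : a.1.1 = b.1.1) : a = b := Subtype.ext (Units.ext h)

theorem Y_pow : Y ^ 13 = 1 := ext' (show mY ^ 13 = 1 by decide +kernel)
theorem Y_ne : Y ≠ 1 := fun h => absurd (show mY = 1 from congrArg (fun g : Cfsg.Lie.G2 F4 => g.1.1) h) (by decide +kernel)
theorem X_pow : (Z * Y ^ 3) ^ 7 = 1 := ext' (show (mZ * mY ^ 3) ^ 7 = 1 by decide +kernel)
theorem X_ne : Z * Y ^ 3 ≠ 1 := fun h => absurd (show mZ * mY ^ 3 = 1 from congrArg (fun g : Cfsg.Lie.G2 F4 => g.1.1) h) (by decide +kernel)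
theorem T_sq : H ^ 3 * H ^ 3 = 1 := ext' (show mH ^ 3 * mH ^ 3 = 1 by decide +kernel)
theorem T_Y : H ^ 3 * Y = Y ^ 12 * H ^ 3 := ext' (show mH ^ 3 * mY = mY ^ 12 * mH ^ 3 by decide +kernel)
theorem rel1 : (Z * Y ^ 3) ^ 1 = Y ^ 0 * (Z * H ^ 0) * (Y ^ 3 * (H ^ 3) ^ 0) :=
  ext' (show (mZ * mY ^ 3) ^ 1 = mY ^ 0 * (mZ * mH ^ 0) * (mY ^ 3 * (mH ^ 3) ^ 0) by decide +kernel)
theorem rel2 : (Z * Y ^ 3) ^ 2 = Y ^ 4 * (Z * H ^ 1) * (Y ^ 6 * (H ^ 3) ^ 1) :=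
  ext' (show (mZ * mY ^ 3) ^ 2 = mY ^ 4 * (mZ * mH ^ 1) * (mY ^ 6 * (mH ^ 3) ^ 1) by decide +kernel)
theorem rel3 : (Z * Y ^ 3) ^ 3 = Y ^ 11 * (Z * H ^ 0) * (Y ^ 12 * (H ^ 3) ^ 1) :=
  ext' (show (mZ * mY ^ 3) ^ 3 = mY ^ 11 * (mZ * mH ^ 0) * (mY ^ 12 * (mH ^ 3) ^ 1) by decide +kernel)
theorem rel4 : (Z * Y ^ 3) ^ 4 = Y ^ 12 * (Z * H ^ 0) * (Y ^ 11 * (H ^ 3) ^ 1) :=
  ext' (show (mZ * mY ^ 3) ^ 4 = mY ^ 12 * (mZ * mH ^ 0) * (mY ^ 11 * (mH ^ 3) ^ 1) by decide +kernel)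
theorem rel5 : (Z * Y ^ 3) ^ 5 = Y ^ 6 * (Z * H ^ 1) * (Y ^ 4 * (H ^ 3) ^ 1) :=
  ext' (show (mZ * mY ^ 3) ^ 5 = mY ^ 6 * (mZ * mH ^ 1) * (mY ^ 4 * (mH ^ 3) ^ 1) by decide +kernel)
theorem rel6 : (Z * Y ^ 3) ^ 6 = Y ^ 10 * (Z * H ^ 0) * (Y ^ 0 * (H ^ 3) ^ 0) :=
  ext' (show (mZ * mY ^ 3) ^ 6 = mY ^ 10 * (mZ * mH ^ 0) * (mY ^ 0 * (mH ^ 3) ^ 0) by decide +kernel)

theorem order_Y : orderOf Y = 13 := orderOf_eq_prime (hp := ⟨by norm_num⟩) Y_pow Y_ne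
theorem order_X : orderOf (Z * Y ^ 3) = 7 := orderOf_eq_prime (hp := ⟨by norm_num⟩) X_pow X_ne

section core

variable {V : Type*} [AddCommGroup V] (ρ : ↥(Cfsg.Lie.G2 F4) →* AddMonoid.End V)

theorem act_mul (x y : ↥(Cfsg.Lie.G2 F4)) (v : V) : ρ (x * y) v = ρ x (ρ y v) := by
  rw [map_mul]; rfl

theorem act_one (v : V) : ρ 1 v = v := by
  rw [map_one]; rfl

theorem fix_pow {x : ↥(Cfsg.Lie.G2 F4)} {v : V} (h : ρ x v = v) (n : ℕ) : ρ (x ^ n) v = v := by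
  induction n with
  | zero => rw [pow_zero, act_one]
  | succ n ih => rw [pow_succ, act_mul, h, ih]

theorem sum_zero {x : ↥(Cfsg.Lie.G2 F4)} {n : ℕ} (hx : orderOf x = n) (h : ∀ v, ρ x v = v → v = 0) (v : V) :
    ∑ i ∈ Finset.range n, ρ (x ^ i) v = 0 := by
  apply h
  rw [map_sum]
  have h1 : ∀ i ∈ Finset.range n, ρ x (ρ (x ^ i) v) = ρ (x ^ (i + 1)) v := by
    intro i _
    rw [← act_mul, ← pow_succ']
  rw [Finset.sum_congr rfl h1]
  have h2 := Finset.sum_range_succ (fun i => ρ (x ^ i) v) n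
  have h3 := Finset.sum_range_succ' (fun i => ρ (x ^ i) v) n
  rw [h2] at h3
  have h4 : x ^ n = 1 := by rw [← hx, pow_orderOf_eq_one]
  rw [h4, pow_zero] at h3
  exact (add_right_cancel h3).symm

/-- No vector is fixed by `Y` and by the involution `H ^ 3`. -/
theorem core (h2 : ∀ v : V, 2 • v = 0) (h7 : ∀ g, orderOf g = 7 → ∀ v, ρ g v = v → v = 0) (w : V)
    (hY : ρ Y w = w) (hT : ρ (H ^ 3) w = w) : w = 0 := by
  have hδ : ∀ e f : ℕ, ρ (Y ^ e * (H ^ 3) ^ f) w = w := by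
    intro e f
    rw [act_mul, fix_pow ρ hT, fix_pow ρ hY]
  let P : V → V := fun v => ∑ j ∈ Finset.range 13, ρ (Y ^ j) v
  have hPadd : ∀ u v, P (u + v) = P u + P v := by
    intro u v
    simp only [P, map_add, Finset.sum_add_distrib]
  have hP0 : P 0 = 0 := by simp [P]
  have hP1 : ∀ u, P (ρ Y u) = P u := by
    intro u
    have h1 : ∀ i ∈ Finset.range 13, ρ (Y ^ i) (ρ Y u) = ρ (Y ^ (i + 1)) u := by
      intro i _
      rw [← act_mul, ← pow_succ]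
    change ∑ j ∈ Finset.range 13, ρ (Y ^ j) (ρ Y u) = _
    rw [Finset.sum_congr rfl h1]
    have h2 := Finset.sum_range_succ (fun i => ρ (Y ^ i) u) 13
    have h3 := Finset.sum_range_succ' (fun i => ρ (Y ^ i) u) 13
    rw [h2] at h3
    rw [Y_pow, pow_zero] at h3
    exact (add_right_cancel h3).symm
  have hPa : ∀ (a : ℕ) (u : V), P (ρ (Y ^ a) u) = P u := by
    intro a
    induction a with
    | zero => intro u; rw [pow_zero, act_one]
    | succ a ih => intro u; rw [pow_succ', act_mul, hP1, ih]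
  have hPw : P w = w := by
    change ∑ j ∈ Finset.range 13, ρ (Y ^ j) w = w
    rw [Finset.sum_congr rfl (fun j _ => fix_pow ρ hY j), Finset.sum_const, Finset.card_range]
    have h1 : (13 : ℕ) • w = 6 • (2 • w) + w := by rw [smul_smul, ← succ_nsmul]; norm_num
    rw [h1, h2, smul_zero, zero_add]
  have hrel : ∀ {i a j e f : ℕ}, (Z * Y ^ 3) ^ i = Y ^ a * (Z * H ^ j) * (Y ^ e * (H ^ 3) ^ f) →
      P (ρ ((Z * Y ^ 3) ^ i) w) = P (ρ (Z * H ^ j) w) := by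
    intro i a j e f h
    rw [h, act_mul, hδ, act_mul, hPa]
  have hs := congrArg P (sum_zero ρ order_X (h7 _ order_X) w)
  rw [hP0] at hs
  simp only [Finset.sum_range_succ, Finset.sum_range_zero, zero_add, pow_zero, act_one] at hs
  rw [hPadd, hPadd, hPadd, hPadd, hPadd, hPadd, hPw, hrel rel1, hrel rel2, hrel rel3, hrel rel4, hrel rel5,
    hrel rel6] at hs
  set A := P (ρ (Z * H ^ 0) w) with hA
  set B := P (ρ (Z * H ^ 1) w) with hB
  have h3 : w + A + B + A + A + B + A = w + (2 • (2 • A) + 2 • B) := by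
    simp only [two_nsmul]
    abel
  rw [h3, h2, h2, add_zero, add_zero] at hs
  exact hs

/-- `Y` has no nonzero fixed vectors. -/
theorem fix_Y (h2 : ∀ v : V, 2 • v = 0) (h7 : ∀ g, orderOf g = 7 → ∀ v, ρ g v = v → v = 0) (w : V)
    (hY : ρ Y w = w) : w = 0 := by
  have hT : ρ Y (ρ (H ^ 3) w) = ρ (H ^ 3) w := by
    have h1 : Y * H ^ 3 = H ^ 3 * Y ^ 12 := by
      have h3 : (H ^ 3 * Y) * (H ^ 3 * H ^ 3) = _ := rfl
      calc Y * H ^ 3 = (H ^ 3 * H ^ 3) * Y * H ^ 3 := by rw [T_sq, one_mul]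
        _ = H ^ 3 * (H ^ 3 * Y) * H ^ 3 := by group
        _ = H ^ 3 * (Y ^ 12 * H ^ 3) * H ^ 3 := by rw [T_Y]
        _ = H ^ 3 * Y ^ 12 * (H ^ 3 * H ^ 3) := by group
        _ = H ^ 3 * Y ^ 12 := by rw [T_sq, mul_one]
    rw [← act_mul, h1, act_mul, fix_pow ρ hY]
  have hTT : ρ (H ^ 3) (ρ (H ^ 3) w) = w := by rw [← act_mul, T_sq, act_one]
  have h1 : w + ρ (H ^ 3) w = 0 := by
    apply core ρ h2 h7
    · rw [map_add, hY, hT]
    · rw [map_add, hTT, add_comm]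
  apply core ρ h2 h7 w hY
  have h3 := h2 w
  rw [two_nsmul] at h3
  exact add_left_cancel (h1.trans h3.symm)

end core

/-- **Module lemma for `G₂(4)`, characteristic 2.** -/
theorem fixed_zero_of_real {S : Type*} [Group S] [Finite S] (hS : Cfsg.Agent.OrdDiv.Real (.g2 4) S)
    {V : Type*} [AddCommGroup V] [Finite V] (ρ : S →* AddMonoid.End V) (h2 : ∀ v : V, 2 • v = 0)
    (h7 : ∀ g : S, orderOf g = 7 → ∀ v, ρ g v = v → v = 0) :
    ∀ g : S, orderOf g = 13 → ∀ v, ρ g v = v → v = 0 := by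
  obtain ⟨F, _, _, hF, ⟨e⟩⟩ := hS
  obtain ⟨f⟩ := Cfsg.Agent.H638.G2Iso.equiv (F := F)
  let φ : F4 →+* F := (equivOfCard hF).symm.toRingHom
  let Φ : ↥(Cfsg.Lie.G2 F4) →* ↥(Cfsg.Lie.G2 F) :=
    ((Matrix.GeneralLinearGroup.map φ).comp (Cfsg.Lie.G2 F4).subtype).codRestrict _
      (fun g => map_mem_G2 φ g.2)
  have hΦ : Function.Injective Φ := by
    intro a b hab
    apply ext'
    have h1 : (a.1.1).map φ = (b.1.1).map φ :=
      congrArg (fun g : ↥(Cfsg.Lie.G2 F) => g.1.1) hab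
    ext i j
    exact φ.injective (congrFun (congrFun h1 i) j)
  let σ : ↥(Cfsg.Lie.G2 F4) →* S := (e.symm.toMonoidHom.comp f.toMonoidHom).comp Φ
  have hσ : Function.Injective σ := by
    intro a b hab
    exact hΦ (f.injective (e.symm.injective hab))
  have ho : ∀ g, orderOf (σ g) = orderOf g := fun g => orderOf_injective σ hσ g
  have hY : ∀ v, ρ (σ Y) v = v → v = 0 := by
    intro v hv
    exact fix_Y (ρ.comp σ) h2 (fun g hg v hv => h7 (σ g) ((ho g).trans hg) v hv) v hv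
  -- Sylow 13-subgroups
  have : Fact (Nat.Prime 13) := ⟨by norm_num⟩
  have hcard : Nat.card S = 251596800 := by
    rw [Nat.card_congr e.toEquiv, ← Nat.card_congr f.toEquiv, Cfsg.Agent.H638.G2Iso.card_G2,
      Nat.card_eq_fintype_card, hF]
    norm_num
  have hsyl : ∀ g : S, orderOf g = 13 → ∃ P : Sylow 13 S, (P : Subgroup S) = Subgroup.zpowers g := by
    intro g hg
    have h1 : Nat.card (Subgroup.zpowers g) = 13 ^ (Nat.card S).factorization 13 := by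
      rw [Nat.card_zpowers, hg, hcard]
      have h3 : (251596800 : ℕ).factorization 13 = 1 := by
        have h4 : (251596800 : ℕ) = 13 ^ 1 * 19353600 := by norm_num
        rw [h4, Nat.factorization_mul (by norm_num) (by norm_num), Finsupp.add_apply,
          Nat.Prime.factorization_pow (by norm_num), Finsupp.single_eq_same,
          Nat.factorization_eq_zero_of_not_dvd (by norm_num)]
      rw [h3, pow_one]
    exact ⟨Sylow.ofCard (Subgroup.zpowers g) h1, rfl⟩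
  intro g hg v hv
  obtain ⟨P, hP⟩ := hsyl g hg
  obtain ⟨Q, hQ⟩ := hsyl (σ Y) ((ho Y).trans order_Y)
  obtain ⟨c, hc⟩ := MulAction.exists_smul_eq S P Q
  have h1 : σ Y ∈ (Q : Subgroup S) := hQ ▸ Subgroup.mem_zpowers _
  rw [← hc, Sylow.coe_subgroup_smul, hP] at h1
  obtain ⟨x, hx, hx2⟩ := (Subgroup.mem_smul_pointwise_iff_exists _ _ _).mp h1
  obtain ⟨k, rfl⟩ := Subgroup.mem_zpowers_iff.mp hx
  have hmul : ∀ (x y : S) (v : V), ρ (x * y) v = ρ x (ρ y v) := fun x y v => by rw [map_mul]; rfl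
  have hone : ∀ v : V, ρ 1 v = v := fun v => by rw [map_one]; rfl
  have hk : ρ (g ^ k) v = v := by
    have h3 : ∀ n : ℕ, ρ (g ^ n) v = v := by
      intro n
      induction n with
      | zero => rw [pow_zero, hone]
      | succ n ih => rw [pow_succ, hmul, hv, ih]
    obtain ⟨n, hn⟩ := (mem_powers_iff_mem_zpowers.mpr (Subgroup.zpow_mem _ (Subgroup.mem_zpowers g) k))
    rw [← hn]
    exact h3 n
  have h3 : σ Y = c * g ^ k * c⁻¹ := hx2.symm
  have h4 : ρ c v = 0 := by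
    apply hY
    rw [h3, hmul, hmul]
    have : ρ c⁻¹ (ρ c v) = v := by rw [← hmul, inv_mul_cancel, hone]
    rw [this, hk]
  have h5 : v = ρ c⁻¹ (ρ c v) := by rw [← hmul, inv_mul_cancel, hone]
  rw [h5, h4, map_zero]

end Cfsg.Agent.H422.GTwoFour
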