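import Mathlib

/-!
# Modules on which elements of order `r` act without fixed points: basic tools

`Fpf G V r`: every element of order `r` of `G` has only `0` as fixed vector in `V`.

* `Fpf.sum_eq_zero`: then `∑ i < r, x ^ i • v = 0`.
* `smul_eq_of_frob`: if `x` (of order `r`) normalises the finite subgroup `N`, centralises no
  nonidentity element of it, and multiplication by `|N|` is injective on `V`, then `N` acts
  trivially on `V`.
* `two_step`, `three_step`: fixed vectors of `2`- and `3`-elements in characteristic `2`, `3`.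
-/

set_option autoImplicit false

namespace Cfsg.Agent.H422

variable {G V : Type*} [Group G] [AddCommGroup V] [DistribMulAction G V]

/-- Elements of order `r` of `G` act on `V` without nonzero fixed vectors. -/
def Fpf (G V : Type*) [Group G] [AddCommGroup V] [DistribMulAction G V] (r : ℕ) : Prop :=
  ∀ g : G, orderOf g = r → ∀ v : V, g • v = v → v = 0

theorem Fpf.sum_eq_zero {r : ℕ} (h : Fpf G V r) {g : G} (hg : orderOf g = r) (v : V) :
    ∑ i ∈ Finset.range r, g ^ i • v = 0 := by
  apply h g hg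
  rw [Finset.smul_sum]
  have h1 : ∀ i ∈ Finset.range r, g • g ^ i • v = g ^ (i + 1) • v := by
    intro i _
    rw [smul_smul, ← pow_succ']
  rw [Finset.sum_congr rfl h1]
  have h2 := Finset.sum_range_succ (fun i => g ^ i • v) r
  have h3 := Finset.sum_range_succ' (fun i => g ^ i • v) r
  rw [h2] at h3
  rw [← hg, pow_orderOf_eq_one, pow_zero] at h3
  rw [← hg]
  exact (add_right_cancel h3).symm

/-- **Frobenius groups**: a finite subgroup `N` normalised by an element `x` of order `r` with
`C_N(x) = 1` acts trivially on `V`, if `1 + x + ... + x ^ (r - 1) = 0` on `V` and `|N|` is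
prime to the characteristic of `V`. -/
theorem smul_eq_of_frob {r : ℕ} (hr : r.Prime) {x : G} (hx : orderOf x = r)
    (hsum : ∀ v : V, ∑ i ∈ Finset.range r, x ^ i • v = 0)
    (N : Subgroup G) [Finite N] (hN : ∀ n ∈ N, x * n * x⁻¹ ∈ N)
    (hfix : ∀ n ∈ N, x * n * x⁻¹ = n → n = 1)
    (hp : ∀ v : V, Nat.card N • v = 0 → v = 0) {m : G} (hm : m ∈ N) (v : V) : m • v = v := by
  classical
  have : Fintype N := Fintype.ofFinite _
  set S : V → V := fun v => ∑ n : N, (n : G) • v with hS
  have hSm : ∀ v : V, m • S v = S v := by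
    intro v
    simp only [hS]
    rw [Finset.smul_sum]
    refine Fintype.sum_equiv (Equiv.mulLeft (⟨m, hm⟩ : N)) _ _ ?_
    intro n
    simp [smul_smul]
  have hadd : ∀ (s : Finset ℕ) (f : ℕ → V), S (∑ i ∈ s, f i) = ∑ i ∈ s, S (f i) := by
    intro s f
    simp only [hS]
    rw [Finset.sum_comm]
    exact Finset.sum_congr rfl (fun n _ => by rw [Finset.smul_sum])
  -- powers of `x` normalise `N`
  have hNi : ∀ (i : ℕ), ∀ n ∈ N, x ^ i * n * (x ^ i)⁻¹ ∈ N := by
    intro i
    induction i with
    | zero => intro n hn; simpa using hn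
    | succ i ih =>
      intro n hn
      have := hN _ (ih n hn)
      rw [pow_succ', mul_inv_rev]
      convert this using 1
      group
  -- powers `x ^ i`, `0 < i < r`, centralise nothing
  have hfixi : ∀ i : ℕ, 0 < i → i < r → ∀ n ∈ N, x ^ i * n * (x ^ i)⁻¹ = n → n = 1 := by
    intro i hi0 hir n hn h
    apply hfix n hn
    have hc : Commute (x ^ i) n := by
      have : x ^ i * n = n * x ^ i := by
        rw [mul_inv_eq_iff_eq_mul] at h
        exact h
      exact this
    have hcop : Nat.Coprime i r := by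
      rw [Nat.coprime_comm]
      exact (Nat.Prime.coprime_iff_not_dvd hr).mpr (fun hd => absurd (Nat.le_of_dvd hi0 hd) (by omega))
    obtain ⟨k, hk⟩ := exists_pow_eq_self_of_coprime (x := x) (n := i) (by rw [hx]; exact hcop)
    have hc2 : Commute x n := by
      rw [← hk]
      exact hc.pow_left k
    rw [hc2.eq]
    group
  -- the sum over `N` of the conjugates of `x ^ i`
  have hconj : ∀ i : ℕ, 0 < i → i < r → ∀ v : V,
      ∑ n : N, (n : G) • x ^ i • (n : G)⁻¹ • v = S (x ^ i • v) := by
    intro i hi0 hir v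
    let f : N → N := fun n => n * ⟨x ^ i * (n : G)⁻¹ * (x ^ i)⁻¹, hNi i _ (N.inv_mem n.2)⟩
    have hf : Function.Injective f := by
      intro a b hab
      have h1 : (a : G) * (x ^ i * (a : G)⁻¹ * (x ^ i)⁻¹) = b * (x ^ i * (b : G)⁻¹ * (x ^ i)⁻¹) :=
        congrArg Subtype.val hab
      have h2 : x ^ i * ((b : G)⁻¹ * a) * (x ^ i)⁻¹ = (b : G)⁻¹ * a := by
        have h3 : (b : G)⁻¹ * a = (x ^ i * (b : G)⁻¹ * (x ^ i)⁻¹) * (x ^ i * (a : G)⁻¹ * (x ^ i)⁻¹)⁻¹ := by
          rw [eq_mul_inv_iff_mul_eq, mul_assoc, h1]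
          group
        conv_rhs => rw [h3]
        group
      have h4 := hfixi i hi0 hir _ (N.mul_mem (N.inv_mem b.2) a.2) h2
      exact Subtype.ext (inv_mul_eq_one.mp h4).symm
    have hf2 : Function.Bijective f := Finite.injective_iff_bijective.mp hf
    simp only [hS]
    refine Fintype.sum_bijective f hf2 _ _ ?_
    intro n
    simp only [f, smul_smul, Subgroup.coe_mul]
    congr 1
    group
  have hinner : ∀ v : V, ∑ i ∈ Finset.range r, ∑ n : N, (n : G) • x ^ i • (n : G)⁻¹ • v = 0 := by
    intro v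
    rw [Finset.sum_comm]
    apply Finset.sum_eq_zero
    intro n _
    rw [← Finset.smul_sum, hsum, smul_zero]
  have hr0 : r ≠ 0 := hr.ne_zero
  obtain ⟨r', rfl⟩ := Nat.exists_eq_succ_of_ne_zero hr0
  have key : ∀ v : V, Nat.card N • v = S v := by
    intro v
    have h1 := hinner v
    rw [Finset.sum_range_succ'] at h1
    have h2 : ∀ i ∈ Finset.range r', ∑ n : N, (n : G) • x ^ (i + 1) • (n : G)⁻¹ • v
        = S (x ^ (i + 1) • v) := by
      intro i hi
      exact hconj (i + 1) (Nat.succ_pos _) (by rw [Finset.mem_range] at hi; omega) v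
    rw [Finset.sum_congr rfl h2] at h1
    have h3 : ∑ n : N, (n : G) • x ^ 0 • (n : G)⁻¹ • v = Nat.card N • v := by
      simp [Nat.card_eq_fintype_card]
    rw [h3] at h1
    have h4 := hadd (Finset.range (r' + 1)) (fun i => x ^ i • v)
    rw [hsum v, Finset.sum_range_succ', pow_zero, one_smul] at h4
    have h5 : S 0 = 0 := by simp [hS]
    rw [h5] at h4
    have h6 : (∑ i ∈ Finset.range r', S (x ^ (i + 1) • v)) + Nat.card N • v
        = (∑ i ∈ Finset.range r', S (x ^ (i + 1) • v)) + S v := by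
      rw [h1]; exact h4
    exact add_left_cancel h6
  have h7 : Nat.card N • (m • v - v) = 0 := by
    rw [smul_sub, sub_eq_zero, key v, ← hSm v, ← key v, smul_comm]
  exact sub_eq_zero.mp (hp _ h7)

/-- Fixed vectors of an element. -/
def fx (V : Type*) {G : Type*} [Group G] [AddCommGroup V] [DistribMulAction G V] (g : G) :
    AddSubgroup V where
  carrier := {v | g • v = v}
  add_mem' := by
    intro a b (ha : g • a = a) (hb : g • b = b)
    change g • (a + b) = a + b
    rw [smul_add, ha, hb]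
  zero_mem' := smul_zero g
  neg_mem' := by
    intro a (ha : g • a = a)
    change g • (-a) = -a
    rw [smul_neg, ha]

theorem mem_fx {g : G} {v : V} : v ∈ fx V g ↔ g • v = v := Iff.rfl

/-- An element acting as an involution on a nonzero subgroup of exponent `2` has a nonzero
fixed vector. -/
theorem two_step (W : AddSubgroup V) (h2 : ∀ v ∈ W, v + v = 0) (hne : ∃ v ∈ W, v ≠ 0) (s : G)
    (hs : ∀ w ∈ W, s • w ∈ W) (hs2 : ∀ w ∈ W, s • s • w = w) : ∃ w ∈ W ⊓ fx V s, w ≠ 0 := by
  obtain ⟨w, hw, hw0⟩ := hne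
  by_cases h : w + s • w = 0
  · refine ⟨w, ⟨hw, ?_⟩, hw0⟩
    change s • w = w
    have h3 := h2 w hw
    rw [← h3] at h
    exact add_left_cancel h
  · refine ⟨w + s • w, ⟨W.add_mem hw (hs w hw), ?_⟩, h⟩
    change s • (w + s • w) = w + s • w
    rw [smul_add, hs2 w hw, add_comm]

/-- An element acting with order dividing `3` on a nonzero subgroup of exponent `3` has a
nonzero fixed vector. -/
theorem three_step (W : AddSubgroup V) (h3 : ∀ v ∈ W, v + v + v = 0) (hne : ∃ v ∈ W, v ≠ 0)
    (s : G) (hs : ∀ w ∈ W, s • w ∈ W) (hs3 : ∀ w ∈ W, s • s • s • w = w) :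
    ∃ w ∈ W ⊓ fx V s, w ≠ 0 := by
  obtain ⟨w, hw, hw0⟩ := hne
  by_cases h : s • w = w
  · exact ⟨w, ⟨hw, h⟩, hw0⟩
  have hd1 : s • w - w ∈ W := W.sub_mem (hs w hw) hw
  by_cases h' : s • (s • w - w) = s • w - w
  · exact ⟨s • w - w, ⟨hd1, h'⟩, sub_ne_zero.mpr h⟩
  refine ⟨s • (s • w - w) - (s • w - w), ⟨W.sub_mem (hs _ hd1) hd1, ?_⟩, sub_ne_zero.mpr h'⟩
  change s • (s • (s • w - w) - (s • w - w)) = _
  have e1 := hs3 w hw
  have e2 := h3 _ (hs _ (hs _ hw))
  have e3 := h3 _ (hs _ hw)
  simp only [smul_sub, e1]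
  have : w - s • s • w - (s • s • w - s • w) - (s • s • w - s • w - (s • w - w))
      = - (s • s • w + s • s • w + s • s • w) + (s • w + s • w + s • w) := by abel
  rw [e2, e3] at this
  rw [← sub_eq_zero]
  simpa using this

end Cfsg.Agent.H422
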