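import Mathlib
import Cfsg.Agent.H422.ModBase

/-!
# The Frobenius group `7:3` on modules of characteristic 2

`y ^ 7 = 1`, `b * y = y ^ 2 * b`, `b ^ 3 = 1`, `V` of exponent `2` with `C_V(y) = 0`: then
`|V| = |C_V(b)| ^ 3`.
-/

set_option autoImplicit false

namespace Cfsg.Agent.H422

variable {G V : Type*} [Group G] [AddCommGroup V] [DistribMulAction G V]

section

variable {y b : G} (hy : y ^ 7 = 1) (hyb : b * y = y ^ 2 * b) (hb : b ^ 3 = 1)
  (hfp : ∀ v : V, y • v = v → v = 0) (h2 : ∀ v : V, v + v = 0)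

include hyb in
theorem b_mul_pow (k : ℕ) : b * y ^ k = y ^ (2 * k) * b := by
  induction k with
  | zero => simp
  | succ k ih =>
    rw [pow_succ, ← mul_assoc, ih, mul_assoc, hyb, ← mul_assoc, ← pow_add]
    congr 2

include hyb in
theorem b_smul_pow (k : ℕ) (v : V) : b • y ^ k • v = y ^ (2 * k) • b • v := by
  rw [← mul_smul, b_mul_pow hyb, mul_smul]

include hy hfp in
theorem sum_seven (v : V) : v + y • v + y ^ 2 • v + y ^ 3 • v + y ^ 4 • v + y ^ 5 • v + y ^ 6 • v
    = 0 := by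
  apply hfp
  simp only [smul_add, smul_smul, ← pow_succ']
  rw [← pow_two]
  norm_num
  rw [hy, one_smul]
  abel

include hy hyb hfp h2 in
/-- the map `(w₀, w₁, w₂) ↦ w₀ + y w₁ + y² w₂` on `C_V(b)³` is injective -/
theorem eq_zero_of_comb {w0 w1 w2 : V} (h0 : b • w0 = w0) (h1 : b • w1 = w1) (hh2 : b • w2 = w2)
    (h : w0 + y • w1 + y ^ 2 • w2 = 0) : w0 = 0 ∧ w1 = 0 ∧ w2 = 0 := by
  let _m : Module (ZMod 2) V :=
    AddCommGroup.zmodModule (n := 2) (by intro x; rw [two_nsmul]; exact h2 x)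
  have eq_of : ∀ u v : V, u + v = 0 → u = v := by
    intro u v huv
    linear_combination (norm := (match_scalars <;> rfl)) (1 : ZMod 2) • huv
  have inj1 : ∀ v : V, v + y • v = 0 → v = 0 := fun v hv => hfp v (eq_of _ _ hv).symm
  have inj2 : ∀ v : V, v + y ^ 2 • v = 0 → v = 0 := by
    intro v hv
    have e : y ^ 2 • v = v := (eq_of _ _ hv).symm
    apply hfp
    have e2 : y ^ 8 • v = v := by
      rw [show 8 = 2 + (2 + (2 + 2)) by norm_num, pow_add, pow_add, pow_add, mul_smul, mul_smul,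
        mul_smul, e, e, e, e]
    rw [show y ^ 8 = y by rw [pow_succ, hy, one_mul]] at e2
    exact e2
  have b1 : ∀ v : V, b • y • v = y ^ 2 • b • v := fun v => by
    have := b_smul_pow hyb 1 v
    simpa using this
  have b2 : ∀ v : V, b • y ^ 2 • v = y ^ 4 • b • v := fun v => b_smul_pow hyb 2 v
  have b4 : ∀ v : V, b • y ^ 4 • v = y • b • v := fun v => by
    have := b_smul_pow hyb 4 v
    rw [this, show y ^ (2 * 4) = y by rw [show 2 * 4 = 7 + 1 by norm_num, pow_succ, hy, one_mul]]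
  have E2 : w0 + y ^ 2 • w1 + y ^ 4 • w2 = 0 := by
    have := congrArg (fun v => b • v) h
    simp only [smul_add, smul_zero, b1, b2, h0, h1, hh2] at this
    exact this
  have E3 : w0 + y ^ 4 • w1 + y • w2 = 0 := by
    have := congrArg (fun v => b • v) E2
    simp only [smul_add, smul_zero, b2, b4, h0, h1, hh2] at this
    exact this
  have cancel : ∀ u : V, y • u = 0 → u = 0 := fun u hu => (smul_eq_zero_iff_eq y).mp hu
  have m2 : ∀ u : V, y • y • u = y ^ 2 • u := fun u => by rw [← mul_smul, ← pow_two]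
  have ms : ∀ (k : ℕ) (u : V), y • y ^ k • u = y ^ (k + 1) • u := fun k u => by
    rw [← mul_smul, ← pow_succ']
  -- `w1 = y w2 + y² w2`
  have k1 : w1 = y • w2 + y ^ 2 • w2 := by
    apply eq_of
    apply inj1
    apply cancel
    simp only [smul_add, m2, ms, Nat.reduceAdd]
    obtain ⟨A, hA⟩ : ∃ A : G → V → V, ∀ g v, g • v = A g v := ⟨fun g v => g • v, fun _ _ => rfl⟩
    simp only [hA] at h E2 ⊢
    linear_combination (norm := (match_scalars <;> rfl)) (1 : ZMod 2) • h + (1 : ZMod 2) • E2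
  have k2 : w2 + y • w2 + y ^ 4 • w2 = 0 := by
    apply inj1
    apply cancel
    rw [k1] at E2 E3
    have m22 : ∀ (j k : ℕ) (u : V), y ^ j • y ^ k • u = y ^ (j + k) • u := fun j k u => by
      rw [← mul_smul, ← pow_add]
    have m21 : ∀ (j : ℕ) (u : V), y ^ j • y • u = y ^ (j + 1) • u := fun j u => by
      rw [← mul_smul, ← pow_succ]
    simp only [smul_add, m2, ms, m22, m21, Nat.reduceAdd] at E2 E3 ⊢
    obtain ⟨A, hA⟩ : ∃ A : G → V → V, ∀ g v, g • v = A g v := ⟨fun g v => g • v, fun _ _ => rfl⟩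
    simp only [hA] at E2 E3 ⊢
    linear_combination (norm := (match_scalars <;> rfl)) (1 : ZMod 2) • E2 + (1 : ZMod 2) • E3
  have k3 : w2 + y ^ 2 • w2 + y • w2 = 0 := by
    have := congrArg (fun v => b • v) k2
    simp only [smul_add, smul_zero, b1, b4, hh2] at this
    exact this
  have k4 : w2 = 0 := by
    apply inj2
    apply cancel
    apply cancel
    simp only [smul_add, m2, ms, Nat.reduceAdd]
    obtain ⟨A, hA⟩ : ∃ A : G → V → V, ∀ g v, g • v = A g v := ⟨fun g v => g • v, fun _ _ => rfl⟩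
    simp only [hA] at k2 k3 ⊢
    linear_combination (norm := (match_scalars <;> rfl)) (1 : ZMod 2) • k2 + (1 : ZMod 2) • k3
  subst k4
  simp only [smul_zero, add_zero] at k1 h
  subst k1
  simp only [smul_zero, add_zero] at h
  exact ⟨h, rfl, rfl⟩

include hy hyb hfp h2 in
theorem card_pow_le [Finite V] : Nat.card (fx V b) ^ 3 ≤ Nat.card V := by
  have h : Function.Injective (fun w : (fx V b) × (fx V b) × (fx V b) =>
      (w.1 : V) + y • (w.2.1 : V) + y ^ 2 • (w.2.2 : V)) := by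
    rintro ⟨a0, a1, a2⟩ ⟨c0, c1, c2⟩ h
    simp only at h
    have h' : ((a0 : V) - c0) + y • ((a1 : V) - c1) + y ^ 2 • ((a2 : V) - c2) = 0 := by
      rw [smul_sub, smul_sub, ← sub_eq_zero.mpr h]
      abel
    obtain ⟨e0, e1, e2⟩ := eq_zero_of_comb hy hyb hfp h2 (w0 := (a0 : V) - c0)
      (w1 := (a1 : V) - c1) (w2 := (a2 : V) - c2) (sub_mem a0.2 c0.2) (sub_mem a1.2 c1.2)
      (sub_mem a2.2 c2.2) h'
    rw [sub_eq_zero] at e0 e1 e2
    rw [Subtype.ext e0, Subtype.ext e1, Subtype.ext e2]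
  have h1 := Nat.card_le_card_of_injective _ h
  rw [Nat.card_prod, Nat.card_prod] at h1
  calc Nat.card (fx V b) ^ 3 = Nat.card (fx V b) * (Nat.card (fx V b) * Nat.card (fx V b)) := by ring
    _ ≤ _ := h1

include hy hyb hb hfp h2 in
/-- every vector is of the form `w₀ + y w₁ + y² w₂` with `wᵢ` fixed by `b` -/
theorem exists_comb (v : V) : ∃ w0 w1 w2 : V, b • w0 = w0 ∧ b • w1 = w1 ∧ b • w2 = w2 ∧
    w0 + y • w1 + y ^ 2 • w2 = v := by
  let _m : Module (ZMod 2) V :=
    AddCommGroup.zmodModule (n := 2) (by intro x; rw [two_nsmul]; exact h2 x)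
  have yk : ∀ (k : ℕ) (u : V), y ^ (k + 7) • u = y ^ k • u := fun k u => by
    rw [pow_add, hy, mul_one]
  have y8 : ∀ u : V, y ^ 8 • u = y • u := fun u => by
    have := yk 1 u
    simpa using this
  have b1 : ∀ v : V, b • y • v = y ^ 2 • b • v := fun v => by
    have := b_smul_pow hyb 1 v
    simpa using this
  have b2 : ∀ v : V, b • y ^ 2 • v = y ^ 4 • b • v := fun v => b_smul_pow hyb 2 v
  have b4 : ∀ v : V, b • y ^ 4 • v = y • b • v := fun v => by
    rw [b_smul_pow hyb 4 v]; exact y8 _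
  have bbb : ∀ v : V, b • b • b • v = v := fun v => by
    rw [← mul_smul, ← mul_smul, ← pow_two, ← pow_succ, hb, one_smul]
  have m2 : ∀ u : V, y • y • u = y ^ 2 • u := fun u => by rw [← mul_smul, ← pow_two]
  have ms : ∀ (k : ℕ) (u : V), y • y ^ k • u = y ^ (k + 1) • u := fun k u => by
    rw [← mul_smul, ← pow_succ']
  have m22 : ∀ (j k : ℕ) (u : V), y ^ j • y ^ k • u = y ^ (j + k) • u := fun j k u => by
    rw [← mul_smul, ← pow_add]
  have m21 : ∀ (j : ℕ) (u : V), y ^ j • y • u = y ^ (j + 1) • u := fun j u => by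
    rw [← mul_smul, ← pow_succ]
  -- `e t`
  let e : V → V := fun t => y • t + y ^ 2 • t + y ^ 4 • t
  have he : ∀ t, b • t = t → b • e t = e t := by
    intro t ht
    simp only [e, smul_add, b1, b2, b4, ht]
    abel
  let t0 : V := v + b • v + b • b • v
  let t1 : V := y • v + y ^ 2 • b • v + y ^ 4 • b • b • v
  let t2 : V := y ^ 2 • v + y ^ 4 • b • v + y • b • b • v
  have h0 : b • t0 = t0 := by
    simp only [t0, smul_add, bbb]
    abel
  have h1 : b • t1 = t1 := by
    simp only [t1, smul_add, b1, b2, b4, bbb]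
    abel
  have hh2 : b • t2 = t2 := by
    simp only [t2, smul_add, b1, b2, b4, bbb]
    abel
  refine ⟨t0 + e t1 + e t2, e t0 + t2, e t0 + t1, ?_, ?_, ?_, ?_⟩
  · rw [smul_add, smul_add, h0, he _ h1, he _ hh2]
  · rw [smul_add, he _ h0, hh2]
  · rw [smul_add, he _ h0, h1]
  · have s2 := sum_seven hy hfp (b • v)
    have s3 := sum_seven hy hfp (b • b • v)
    simp only [e, t0, t1, t2, smul_add, m2, ms, m22, m21, Nat.reduceAdd, y8]
    obtain ⟨A, hA⟩ : ∃ A : G → V → V, ∀ g v, g • v = A g v := ⟨fun g v => g • v, fun _ _ => rfl⟩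
    simp only [hA] at s2 s3 ⊢
    linear_combination (norm := (match_scalars <;> rfl)) (1 : ZMod 2) • s2
      + (1 : ZMod 2) • s3

include hy hyb hb hfp h2 in
theorem card_le_pow [Finite V] : Nat.card V ≤ Nat.card (fx V b) ^ 3 := by
  have h : Function.Surjective (fun w : (fx V b) × (fx V b) × (fx V b) =>
      (w.1 : V) + y • (w.2.1 : V) + y ^ 2 • (w.2.2 : V)) := by
    intro v
    obtain ⟨w0, w1, w2, h0, h1, hh2, h⟩ := exists_comb hy hyb hb hfp h2 v
    exact ⟨(⟨w0, h0⟩, ⟨w1, h1⟩, ⟨w2, hh2⟩), h⟩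
  have h1 := Nat.card_le_card_of_surjective _ h
  rw [Nat.card_prod, Nat.card_prod] at h1
  calc Nat.card V ≤ Nat.card (fx V b) * (Nat.card (fx V b) * Nat.card (fx V b)) := h1
    _ = _ := by ring

end

end Cfsg.Agent.H422
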