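import Mathlib
import Cfsg.Agent.H422.AltTr
import Cfsg.Agent.H422.SevenThree

/-!
# Modules for `A₇` in characteristic 2 without fixed points for elements of order 5 and 7

A finite `A₇`-module of exponent `2` on which the elements of order `5` and `7` have no nonzero
fixed vectors is zero.
-/

set_option autoImplicit false
set_option linter.unusedSimpArgs false

namespace Cfsg.Agent.H422

open Equiv

/-- A permutation from an explicit pair of inverse functions. -/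
def mkP {n : ℕ} (f g : Fin n → Fin n) (h : (∀ x, g (f x) = x) ∧ (∀ x, f (g x) = x)) :
    Perm (Fin n) := ⟨f, g, h.1, h.2⟩

namespace ASeven

/-- The alternating group of degree 7. -/
abbrev A7 := alternatingGroup (Fin 7)

/-- `(0 1 2)` -/
def c : A7 := ⟨(mkP ![1,2,0,3,4,5,6] ![2,0,1,3,4,5,6] (by decide)), Perm.mem_alternatingGroup.mpr (by decide)⟩
/-- `(3 4)(5 6)` -/
def s1 : A7 := ⟨(mkP ![0,1,2,4,3,6,5] ![0,1,2,4,3,6,5] (by decide)), Perm.mem_alternatingGroup.mpr (by decide)⟩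
/-- `(3 5)(4 6)` -/
def s2 : A7 := ⟨(mkP ![0,1,2,5,6,3,4] ![0,1,2,5,6,3,4] (by decide)), Perm.mem_alternatingGroup.mpr (by decide)⟩
/-- `(0 1)(3 4)` -/
def s3 : A7 := ⟨(mkP ![1,0,2,4,3,5,6] ![1,0,2,4,3,5,6] (by decide)), Perm.mem_alternatingGroup.mpr (by decide)⟩
/-- `(0 1 2 3 4)` -/
def x5 : A7 := ⟨(mkP ![1,2,3,4,0,5,6] ![4,0,1,2,3,5,6] (by decide)), Perm.mem_alternatingGroup.mpr (by decide)⟩


theorem orderOf_x5 : orderOf x5 = 5 := by
  have : Fact (Nat.Prime 5) := ⟨by norm_num⟩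
  exact orderOf_eq_prime (Subtype.ext (by decide)) (by decide)

variable {V : Type*} [AddCommGroup V] [DistribMulAction A7 V]

/-- An even permutation fixing `3, 4, 5, 6` is a power of `c`. -/
theorem fix_four (g : A7) (h3 : (g : Perm (Fin 7)) 3 = 3) (h4 : (g : Perm (Fin 7)) 4 = 4)
    (h5 : (g : Perm (Fin 7)) 5 = 5) (h6 : (g : Perm (Fin 7)) 6 = 6) :
    g = 1 ∨ g = c ∨ g = c * c := by
  obtain ⟨g, hg⟩ := g
  rw [Perm.mem_alternatingGroup] at hg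
  simp only at h3 h4 h5 h6
  have key : ∀ i : Fin 7, i = 0 ∨ i = 1 ∨ i = 2 → g i = 0 ∨ g i = 1 ∨ g i = 2 := by
    intro i hi
    have h7 : ∀ j : Fin 7, j = 3 ∨ j = 4 ∨ j = 5 ∨ j = 6 → g i ≠ j := by
      rintro j hj he
      have h8 : g j = j := by rcases hj with rfl | rfl | rfl | rfl <;> assumption
      have h9 : i = j := g.injective (he.trans h8.symm)
      subst h9
      rcases hi with rfl | rfl | rfl <;> rcases hj with h | h | h | h <;> exact absurd h (by decide)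
    have h10 := h7 3 (by tauto)
    have h11 := h7 4 (by tauto)
    have h12 := h7 5 (by tauto)
    have h13 := h7 6 (by tauto)
    revert h10 h11 h12 h13
    generalize g i = y
    revert y
    decide
  have ext : ∀ p : Perm (Fin 7), g 0 = p 0 → g 1 = p 1 → g 2 = p 2 → p 3 = 3 → p 4 = 4 → p 5 = 5 →
      p 6 = 6 → g = p := by
    intro p q0 q1 q2 q3 q4 q5 q6
    apply Equiv.ext
    intro i
    fin_cases i
    · exact q0
    · exact q1
    · exact q2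
    · exact h3.trans q3.symm
    · exact h4.trans q4.symm
    · exact h5.trans q5.symm
    · exact h6.trans q6.symm
  have n01 : g 0 ≠ g 1 := fun h => absurd (g.injective h) (by decide)
  have n02 : g 0 ≠ g 2 := fun h => absurd (g.injective h) (by decide)
  have n12 : g 1 ≠ g 2 := fun h => absurd (g.injective h) (by decide)
  rcases key 0 (by tauto) with a | a | a <;> rcases key 1 (by tauto) with b | b | b <;>
    rcases key 2 (by tauto) with d | d | d <;>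
    first
    | exact absurd (a.trans b.symm) n01
    | exact absurd (a.trans d.symm) n02
    | exact absurd (b.trans d.symm) n12
    | exact Or.inl (Subtype.ext (ext 1 a b d rfl rfl rfl rfl))
    | exact Or.inr (Or.inl (Subtype.ext (ext c a b d rfl rfl rfl rfl)))
    | exact Or.inr (Or.inr (Subtype.ext (ext (c * c) a b d rfl rfl rfl rfl)))
    | (exfalso
       have e1 := ext (swap 0 1) a b d rfl rfl rfl rfl
       rw [e1] at hg
       exact absurd hg (by decide))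
    | (exfalso
       have e1 := ext (swap 1 2) a b d rfl rfl rfl rfl
       rw [e1] at hg
       exact absurd hg (by decide))
    | (exfalso
       have e1 := ext (swap 0 2) a b d rfl rfl rfl rfl
       rw [e1] at hg
       exact absurd hg (by decide))

/-- The base points. -/
def bs : Fin 4 → Fin 7 := ![3, 4, 5, 6]

/-- `F a b c d`: the translate of `v` by an even permutation `3, 4, 5, 6 ↦ a, b, c, d`. -/
noncomputable def F (v : V) (a b c d : Fin 7) : V := tr bs v ![a, b, c, d]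

section

variable {v : V} (hc : c • v = v)

include hc in
theorem hv (g : A7) (hg : ∀ i, (g : Perm (Fin 7)) (bs i) = bs i) : g • v = v := by
  rcases fix_four g (hg 0) (hg 1) (hg 2) (hg 3) with rfl | rfl | rfl
  · exact one_smul _ _
  · exact hc
  · rw [mul_smul, hc, hc]

include hc in
theorem F_base : F v 3 4 5 6 = v := tr_self (hv hc)

include hc in
theorem F_swap (h : s3 • v = v) (a b c d : Fin 7) : F v b a c d = F v a b c d := by
  have := tr_symm (hv hc) s3 h (swap 0 1) (by decide) ![a, b, c, d]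
  rw [show (fun i => (![a, b, c, d] : Fin 4 → Fin 7) (swap 0 1 i)) = ![b, a, c, d] by
    funext i; fin_cases i <;> rfl] at this
  exact this

include hc in
theorem F_flip (h : s2 • v = v) (a b c d : Fin 7) : F v c d a b = F v a b c d := by
  have := tr_symm (hv hc) s2 h (mkP (n := 4) ![2,3,0,1] ![2,3,0,1] (by decide)) (by decide) ![a, b, c, d]
  rw [show (fun i => (![a, b, c, d] : Fin 4 → Fin 7)
      ((mkP (n := 4) ![2,3,0,1] ![2,3,0,1] (by decide)) i)) = ![c, d, a, b] by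
    funext i; fin_cases i <;> rfl] at this
  exact this

variable (h5 : Fpf A7 V 5)


include hc h5 in
theorem pentA (σ : Perm (Fin 7)) :
    F v (σ 0) (σ 1) (σ 5) (σ 6) + F v (σ 1) (σ 2) (σ 5) (σ 6) + F v (σ 2) (σ 3) (σ 5) (σ 6)
      + F v (σ 3) (σ 4) (σ 5) (σ 6) + F v (σ 4) (σ 0) (σ 5) (σ 6) = 0 := by
  have h := pent (hv hc) h5 (u := 0) (w := 1) (by decide) (by decide) (by decide) x5 orderOf_x5
    (mkP ![3,4,2,0,1,5,6] ![3,4,2,0,1,5,6] (by decide)) σ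
  simp only [Finset.sum_range_succ, Finset.sum_range_zero, zero_add] at h
  rw [← h]
  unfold F
  congr 1; congr 1; congr 1; congr 1
  all_goals
    congr 1
    funext i
    fin_cases i <;> rfl


include hc h5 in
theorem pentB (σ : Perm (Fin 7)) :
    F v (σ 0) (σ 5) (σ 1) (σ 6) + F v (σ 1) (σ 5) (σ 2) (σ 6) + F v (σ 2) (σ 5) (σ 3) (σ 6)
      + F v (σ 3) (σ 5) (σ 4) (σ 6) + F v (σ 4) (σ 5) (σ 0) (σ 6) = 0 := by
  have h := pent (hv hc) h5 (u := 0) (w := 1) (by decide) (by decide) (by decide) x5 orderOf_x5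
    (mkP ![3,4,2,0,5,1,6] ![3,5,2,0,1,4,6] (by decide)) σ
  simp only [Finset.sum_range_succ, Finset.sum_range_zero, zero_add] at h
  rw [← h]
  unfold F
  congr 1; congr 1; congr 1; congr 1
  all_goals
    congr 1
    funext i
    fin_cases i <;> rfl


variable (h2 : ∀ v : V, v + v = 0)

include hc h5 h2 in
/-- the triangle relation -/
theorem triangle (hs3 : s3 • v = v) (σ : Perm (Fin 7)) :
    F v (σ 0) (σ 1) (σ 5) (σ 6) + F v (σ 1) (σ 2) (σ 5) (σ 6) + F v (σ 2) (σ 0) (σ 5) (σ 6)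
      = 0 := by
  have p0 : F v (σ 0) (σ 1) (σ 5) (σ 6) + F v (σ 1) (σ 2) (σ 5) (σ 6) + F v (σ 2) (σ 3) (σ 5) (σ 6) + F v (σ 3) (σ 4) (σ 5) (σ 6) + F v (σ 4) (σ 0) (σ 5) (σ 6) = 0 :=
    pentA hc h5 (σ * (mkP ![0,1,2,3,4,5,6] ![0,1,2,3,4,5,6] (by decide)))
  rw [F_swap hc hs3 (σ 0) (σ 4) (σ 5) (σ 6)] at p0
  have p1 : F v (σ 0) (σ 1) (σ 5) (σ 6) + F v (σ 1) (σ 3) (σ 5) (σ 6) + F v (σ 3) (σ 2) (σ 5) (σ 6) + F v (σ 2) (σ 4) (σ 5) (σ 6) + F v (σ 4) (σ 0) (σ 5) (σ 6) = 0 :=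
    pentA hc h5 (σ * (mkP ![0,1,3,2,4,5,6] ![0,1,3,2,4,5,6] (by decide)))
  rw [F_swap hc hs3 (σ 2) (σ 3) (σ 5) (σ 6), F_swap hc hs3 (σ 0) (σ 4) (σ 5) (σ 6)] at p1
  have p2 : F v (σ 0) (σ 1) (σ 5) (σ 6) + F v (σ 1) (σ 3) (σ 5) (σ 6) + F v (σ 3) (σ 4) (σ 5) (σ 6) + F v (σ 4) (σ 2) (σ 5) (σ 6) + F v (σ 2) (σ 0) (σ 5) (σ 6) = 0 :=
    pentA hc h5 (σ * (mkP ![0,1,3,4,2,5,6] ![0,1,4,2,3,5,6] (by decide)))
  rw [F_swap hc hs3 (σ 2) (σ 4) (σ 5) (σ 6), F_swap hc hs3 (σ 0) (σ 2) (σ 5) (σ 6)] at p2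
  have key : F v (σ 0) (σ 1) (σ 5) (σ 6) + F v (σ 1) (σ 2) (σ 5) (σ 6)
      + F v (σ 0) (σ 2) (σ 5) (σ 6) = 0 := by
    have hs := congrArg₂ (· + ·) (congrArg₂ (· + ·) p0 p1) p2
    simp only [add_zero] at hs
    rw [← hs]
    have hd : (F v (σ 0) (σ 1) (σ 5) (σ 6) + F v (σ 0) (σ 1) (σ 5) (σ 6)) + (F v (σ 2) (σ 3) (σ 5) (σ 6) + F v (σ 2) (σ 3) (σ 5) (σ 6)) + (F v (σ 3) (σ 4) (σ 5) (σ 6) + F v (σ 3) (σ 4) (σ 5) (σ 6)) + (F v (σ 0) (σ 4) (σ 5) (σ 6) + F v (σ 0) (σ 4) (σ 5) (σ 6)) + (F v (σ 1) (σ 3) (σ 5) (σ 6) + F v (σ 1) (σ 3) (σ 5) (σ 6)) + (F v (σ 2) (σ 4) (σ 5) (σ 6) + F v (σ 2) (σ 4) (σ 5) (σ 6)) = 0 := by simp only [h2, add_zero]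
    rw [← add_zero (F v (σ 0) (σ 1) (σ 5) (σ 6) + F v (σ 1) (σ 2) (σ 5) (σ 6) + F v (σ 0) (σ 2) (σ 5) (σ 6)), ← hd]
    abel
  rw [← key, F_swap hc hs3 (σ 0) (σ 2)]


include hc h5 h2 in
/-- the rectangle relation -/
theorem rect (σ : Perm (Fin 7)) :
    F v (σ 0) (σ 5) (σ 1) (σ 6) + F v (σ 0) (σ 5) (σ 3) (σ 6) + F v (σ 2) (σ 5) (σ 1) (σ 6)
      + F v (σ 2) (σ 5) (σ 3) (σ 6) = 0 := by
  have p0 : F v (σ 0) (σ 5) (σ 1) (σ 6) + F v (σ 1) (σ 5) (σ 2) (σ 6) + F v (σ 2) (σ 5) (σ 4) (σ 6) + F v (σ 4) (σ 5) (σ 3) (σ 6) + F v (σ 3) (σ 5) (σ 0) (σ 6) = 0 := pentB hc h5 (σ * (mkP ![0,1,2,4,3,5,6] ![0,1,2,4,3,5,6] (by decide)))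
  have p1 : F v (σ 0) (σ 5) (σ 2) (σ 6) + F v (σ 2) (σ 5) (σ 1) (σ 6) + F v (σ 1) (σ 5) (σ 4) (σ 6) + F v (σ 4) (σ 5) (σ 3) (σ 6) + F v (σ 3) (σ 5) (σ 0) (σ 6) = 0 := pentB hc h5 (σ * (mkP ![0,2,1,4,3,5,6] ![0,2,1,4,3,5,6] (by decide)))
  have p2 : F v (σ 0) (σ 5) (σ 2) (σ 6) + F v (σ 2) (σ 5) (σ 3) (σ 6) + F v (σ 3) (σ 5) (σ 1) (σ 6) + F v (σ 1) (σ 5) (σ 4) (σ 6) + F v (σ 4) (σ 5) (σ 0) (σ 6) = 0 := pentB hc h5 (σ * (mkP ![0,2,3,1,4,5,6] ![0,3,1,2,4,5,6] (by decide)))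
  have p3 : F v (σ 0) (σ 5) (σ 3) (σ 6) + F v (σ 3) (σ 5) (σ 1) (σ 6) + F v (σ 1) (σ 5) (σ 2) (σ 6) + F v (σ 2) (σ 5) (σ 4) (σ 6) + F v (σ 4) (σ 5) (σ 0) (σ 6) = 0 := pentB hc h5 (σ * (mkP ![0,3,1,2,4,5,6] ![0,2,3,1,4,5,6] (by decide)))
  have hs := congrArg₂ (· + ·) (congrArg₂ (· + ·) (congrArg₂ (· + ·) p0 p1) p2) p3
  simp only [add_zero] at hs
  rw [← hs]
  have hd : (F v (σ 1) (σ 5) (σ 2) (σ 6) + F v (σ 1) (σ 5) (σ 2) (σ 6)) + (F v (σ 2) (σ 5) (σ 4) (σ 6) + F v (σ 2) (σ 5) (σ 4) (σ 6)) + (F v (σ 4) (σ 5) (σ 3) (σ 6) + F v (σ 4) (σ 5) (σ 3) (σ 6)) + (F v (σ 3) (σ 5) (σ 0) (σ 6) + F v (σ 3) (σ 5) (σ 0) (σ 6)) + (F v (σ 0) (σ 5) (σ 2) (σ 6) + F v (σ 0) (σ 5) (σ 2) (σ 6)) + (F v (σ 1) (σ 5) (σ 4) (σ 6) + F v (σ 1) (σ 5) (σ 4) (σ 6)) + (F v (σ 3) (σ 5) (σ 1) (σ 6) + F v (σ 3) (σ 5) (σ 1) (σ 6)) + (F v (σ 4) (σ 5) (σ 0) (σ 6) + F v (σ 4) (σ 5) (σ 0) (σ 6)) = 0 := by simp only [h2, add_zero]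
  rw [← add_zero (F v (σ 0) (σ 5) (σ 1) (σ 6) + F v (σ 0) (σ 5) (σ 3) (σ 6) + F v (σ 2) (σ 5) (σ 1) (σ 6) + F v (σ 2) (σ 5) (σ 3) (σ 6)), ← hd]
  abel

include hc h5 h2 in
/-- a vector fixed by the subgroup of order 24 stabilising `{34|56}` is zero -/
theorem F_eq_zero (hs2 : s2 • v = v) (hs3 : s3 • v = v) (σ : Perm (Fin 7)) :
    F v (σ 0) (σ 2) (σ 1) (σ 3) = 0 := by
  have sw := F_swap hc hs3
  have fl := F_flip hc hs2
  have t1 : F v (σ 1) (σ 6) (σ 0) (σ 5) + F v (σ 6) (σ 3) (σ 0) (σ 5) + F v (σ 3) (σ 1) (σ 0) (σ 5)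
      = 0 := triangle hc h5 h2 hs3 (σ * (mkP ![1,6,3,2,4,0,5] ![5,0,3,2,4,6,1] (by decide)))
  have t2 : F v (σ 1) (σ 6) (σ 2) (σ 5) + F v (σ 6) (σ 3) (σ 2) (σ 5) + F v (σ 3) (σ 1) (σ 2) (σ 5)
      = 0 := triangle hc h5 h2 hs3 (σ * (mkP ![1,6,3,0,4,2,5] ![3,0,5,2,4,6,1] (by decide)))
  have t3 : F v (σ 0) (σ 5) (σ 1) (σ 3) + F v (σ 5) (σ 2) (σ 1) (σ 3) + F v (σ 2) (σ 0) (σ 1) (σ 3)
      = 0 := triangle hc h5 h2 hs3 (σ * (mkP ![0,5,2,4,6,1,3] ![0,5,2,6,3,1,4] (by decide)))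
  have r := rect hc h5 h2 σ
  rw [fl (σ 0) (σ 5) (σ 1) (σ 6), sw (σ 3) (σ 6), fl (σ 0) (σ 5) (σ 3) (σ 6),
    sw (σ 1) (σ 3), fl (σ 0) (σ 5) (σ 1) (σ 3)] at t1
  rw [fl (σ 2) (σ 5) (σ 1) (σ 6), sw (σ 3) (σ 6), fl (σ 2) (σ 5) (σ 3) (σ 6),
    sw (σ 1) (σ 3), fl (σ 2) (σ 5) (σ 1) (σ 3)] at t2
  rw [sw (σ 2) (σ 5), sw (σ 0) (σ 2)] at t3
  have hs := congrArg₂ (· + ·) (congrArg₂ (· + ·) (congrArg₂ (· + ·) t1 t2) t3) r
  simp only [add_zero] at hs
  rw [← hs]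
  generalize F v (σ 0) (σ 5) (σ 1) (σ 6) = A at *
  generalize F v (σ 0) (σ 5) (σ 3) (σ 6) = B at *
  generalize F v (σ 0) (σ 5) (σ 1) (σ 3) = C at *
  generalize F v (σ 2) (σ 5) (σ 1) (σ 6) = D at *
  generalize F v (σ 2) (σ 5) (σ 3) (σ 6) = E at *
  generalize F v (σ 2) (σ 5) (σ 1) (σ 3) = G at *
  generalize F v (σ 0) (σ 2) (σ 1) (σ 3) = H at *
  have hd : (A + A) + (B + B) + (C + C) + (D + D) + (E + E) + (G + G) = 0 := by
    simp only [h2, add_zero]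
  refine Eq.trans (add_zero H).symm ?_
  rw [← hd]
  abel


include hc h5 h2 in
theorem eq_zero (hs2 : s2 • v = v) (hs3 : s3 • v = v) : v = 0 := by
  rw [← F_base hc]
  exact F_eq_zero hc h5 h2 hs2 hs3 (mkP ![3,5,4,6,0,1,2] ![4,5,6,0,2,1,3] (by decide))

end


/-- `(0 1 2 3 4 5 6)` -/
def y7 : A7 := ⟨(mkP ![1,2,3,4,5,6,0] ![6,0,1,2,3,4,5] (by decide)), Perm.mem_alternatingGroup.mpr (by decide)⟩
/-- `(1 2 4)(3 6 5)` -/
def b3 : A7 := ⟨(mkP ![0,2,4,6,1,3,5] ![0,4,1,5,2,6,3] (by decide)), Perm.mem_alternatingGroup.mpr (by decide)⟩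
/-- `(1 2 4)(3 5 6)` -/
def b3p : A7 := ⟨(mkP ![0,2,4,5,1,6,3] ![0,4,1,6,2,3,5] (by decide)), Perm.mem_alternatingGroup.mpr (by decide)⟩
/-- `(1 2 4)` -/
def c1 : A7 := ⟨(mkP ![0,2,4,3,1,5,6] ![0,4,1,3,2,5,6] (by decide)), Perm.mem_alternatingGroup.mpr (by decide)⟩
/-- `(3 6 5)` -/
def c2 : A7 := ⟨(mkP ![0,1,2,6,4,3,5] ![0,1,2,5,4,6,3] (by decide)), Perm.mem_alternatingGroup.mpr (by decide)⟩
/-- conjugates `c` to `c1` -/
def g1 : A7 := ⟨(mkP ![1,2,4,0,3,5,6] ![3,0,1,4,2,5,6] (by decide)), Perm.mem_alternatingGroup.mpr (by decide)⟩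
/-- conjugates `c` to `c2` -/
def g2 : A7 := ⟨(mkP ![3,6,5,0,1,2,4] ![3,4,5,0,6,2,1] (by decide)), Perm.mem_alternatingGroup.mpr (by decide)⟩
/-- conjugates `b3` to `b3p` -/
def h3 : A7 := ⟨(mkP ![0,3,5,1,6,4,2] ![0,3,6,1,5,2,4] (by decide)), Perm.mem_alternatingGroup.mpr (by decide)⟩

variable (h5 : Fpf A7 V 5) (h7 : Fpf A7 V 7) (h2 : ∀ v : V, v + v = 0)

theorem sm {g h k l : A7} (e : g * h = k * l) (v : V) : g • h • v = k • l • v := by
  rw [← mul_smul, e, mul_smul]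

include h5 h2 in
/-- `3`-cycles have no nonzero fixed vectors -/
theorem c_fpf (v : V) (hc : c • v = v) : v = 0 := by
  by_contra hne
  obtain ⟨w1, ⟨hw1c, hw1⟩, hn1⟩ := two_step (fx V c) (fun v _ => h2 v) ⟨v, hc, hne⟩ s1
    (fun w hw => by
      change c • s1 • w = s1 • w
      rw [sm (show c * s1 = s1 * c by decide), show c • w = w from hw])
    (fun w _ => by rw [← mul_smul, show s1 * s1 = 1 by decide, one_smul])
  obtain ⟨w2, ⟨⟨hw2c, hw21⟩, hw2⟩, hn2⟩ := two_step (fx V c ⊓ fx V s1) (fun v _ => h2 v)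
    ⟨w1, ⟨hw1c, hw1⟩, hn1⟩ s2
    (fun w hw => by
      refine ⟨?_, ?_⟩
      · change c • s2 • w = s2 • w
        rw [sm (show c * s2 = s2 * c by decide), show c • w = w from hw.1]
      · change s1 • s2 • w = s2 • w
        rw [sm (show s1 * s2 = s2 * s1 by decide), show s1 • w = w from hw.2])
    (fun w _ => by rw [← mul_smul, show s2 * s2 = 1 by decide, one_smul])
  obtain ⟨w3, ⟨⟨⟨hw3c, hw31⟩, hw32⟩, hw3⟩, hn3⟩ := two_step (fx V c ⊓ fx V s1 ⊓ fx V s2)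
    (fun v _ => h2 v) ⟨w2, ⟨⟨hw2c, hw21⟩, hw2⟩, hn2⟩ s3
    (fun w hw => by
      obtain ⟨⟨a1, a2⟩, a3⟩ := hw
      replace a1 : c • w = w := a1
      replace a2 : s1 • w = w := a2
      replace a3 : s2 • w = w := a3
      refine ⟨⟨?_, ?_⟩, ?_⟩
      · change c • s3 • w = s3 • w
        rw [sm (show c * s3 = s3 * (c * c) by decide), mul_smul, a1, a1]
      · change s1 • s3 • w = s3 • w
        rw [sm (show s1 * s3 = s3 * s1 by decide), a2]
      · change s2 • s3 • w = s3 • w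
        rw [sm (show s2 * s3 = s3 * (s1 * s2) by decide), mul_smul, a3, a2])
    (fun w _ => by rw [← mul_smul, show s3 * s3 = 1 by decide, one_smul])
  exact hn3 (eq_zero hw3c h5 h2 hw32 hw3)

include h5 h2 in
theorem conj_fpf (g d : A7) (h : d * g = g * c) (v : V) (hd : d • v = v) : v = 0 := by
  have h1 : c • g⁻¹ • v = g⁻¹ • v := by
    rw [← mul_smul, show c * g⁻¹ = g⁻¹ * d by
      rw [eq_inv_mul_iff_mul_eq, ← mul_assoc, ← h, mul_inv_cancel_right], mul_smul, hd]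
  have h3 := c_fpf h5 h2 _ h1
  have h4 := congrArg (fun v => g • v) h3
  simpa using h4

include h5 h7 h2 in
/-- **Main result**, characteristic 2. -/
theorem eq_zero_two [Finite V] (v : V) : v = 0 := by
  let _m : Module (ZMod 2) V :=
    AddCommGroup.zmodModule (n := 2) (by intro x; rw [two_nsmul]; exact h2 x)
  have f1 := conj_fpf h5 h2 g1 c1 (by decide)
  have f2 := conj_fpf h5 h2 g2 c2 (by decide)
  have oy : orderOf y7 = 7 := by
    have : Fact (Nat.Prime 7) := ⟨by norm_num⟩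
    exact orderOf_eq_prime (Subtype.ext (by decide)) (by decide)
  have hy : y7 ^ 7 = 1 := orderOf_dvd_iff_pow_eq_one.mp (by rw [oy])
  have hA := card_pow_le (V := V) (y := y7) (b := b3) hy (Subtype.ext (by decide)) (h7 y7 oy) h2
  -- the two fixed spaces have the same order
  have hcard : Nat.card (fx V b3p) = Nat.card (fx V b3) := by
    refine Nat.card_congr ⟨fun w => ⟨h3⁻¹ • (w : V), ?_⟩, fun w => ⟨h3 • (w : V), ?_⟩, ?_, ?_⟩
    · change b3 • h3⁻¹ • (w : V) = h3⁻¹ • (w : V)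
      rw [← mul_smul, show b3 * h3⁻¹ = h3⁻¹ * b3p by decide, mul_smul]
      congr 1
      exact w.2
    · change b3p • h3 • (w : V) = h3 • (w : V)
      rw [← mul_smul, show b3p * h3 = h3 * b3 by decide, mul_smul]
      congr 1
      exact w.2
    · intro w
      apply Subtype.ext
      simp
    · intro w
      apply Subtype.ext
      simp
  have hsurj : Function.Surjective (fun w : (fx V b3) × (fx V b3p) => (w.1 : V) + (w.2 : V)) := by
    intro v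
    have q1 : ∀ u : V, c1 • c1 • u = u + c1 • u := by
      intro u
      have h := f1 (u + c1 • u + c1 • c1 • u) (by
        simp only [smul_add]
        rw [show c1 • c1 • c1 • u = u by
          rw [← mul_smul, ← mul_smul, show c1 * c1 * c1 = 1 by decide, one_smul]]
        abel)
      obtain ⟨A, hA⟩ : ∃ A : A7 → V → V, ∀ g v, g • v = A g v := ⟨fun g v => g • v, fun _ _ => rfl⟩
      simp only [hA] at h ⊢
      linear_combination (norm := (match_scalars <;> rfl)) (1 : ZMod 2) • h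
    have q2 : ∀ u : V, c2 • c2 • u = u + c2 • u := by
      intro u
      have h := f2 (u + c2 • u + c2 • c2 • u) (by
        simp only [smul_add]
        rw [show c2 • c2 • c2 • u = u by
          rw [← mul_smul, ← mul_smul, show c2 * c2 * c2 = 1 by decide, one_smul]]
        abel)
      obtain ⟨A, hA⟩ : ∃ A : A7 → V → V, ∀ g v, g • v = A g v := ⟨fun g v => g • v, fun _ _ => rfl⟩
      simp only [hA] at h ⊢
      linear_combination (norm := (match_scalars <;> rfl)) (1 : ZMod 2) • h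
    have b3s : ∀ u : V, b3 • u = c1 • c2 • u := fun u => by
      rw [← mul_smul, show c1 * c2 = b3 by decide]
    have b3ps : ∀ u : V, b3p • u = c1 • c2 • c2 • u := fun u => by
      rw [← mul_smul, ← mul_smul, show c1 * c2 * c2 = b3p by decide]
    have com : ∀ u : V, c2 • c1 • u = c1 • c2 • u := fun u => sm (by decide) u
    refine ⟨(⟨v + b3 • v + b3 • b3 • v, ?_⟩, ⟨v + b3p • v + b3p • b3p • v, ?_⟩), ?_⟩
    · change b3 • (v + b3 • v + b3 • b3 • v) = _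
      simp only [smul_add]
      rw [show b3 • b3 • b3 • v = v by
        rw [← mul_smul, ← mul_smul, show b3 * b3 * b3 = 1 by decide, one_smul]]
      abel
    · change b3p • (v + b3p • v + b3p • b3p • v) = _
      simp only [smul_add]
      rw [show b3p • b3p • b3p • v = v by
        rw [← mul_smul, ← mul_smul, show b3p * b3p * b3p = 1 by decide, one_smul]]
      abel
    · simp only [b3s, b3ps, com, q1, q2, smul_add]
      obtain ⟨A, hA⟩ : ∃ A : A7 → V → V, ∀ g v, g • v = A g v := ⟨fun g v => g • v, fun _ _ => rfl⟩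
      simp only [hA]
      linear_combination (norm := (match_scalars <;> rfl)) (0 : ZMod 2) • (rfl : v = v)
  have hB := Nat.card_le_card_of_surjective _ hsurj
  rw [Nat.card_prod, hcard] at hB
  set k := Nat.card (fx V b3) with hk
  have hk0 : 0 < k := Nat.card_pos
  have hk1 : k = 1 := by
    have h9 : k ^ 3 ≤ k * k := hA.trans hB
    by_contra hne
    have h10 : 2 ≤ k := by omega
    nlinarith [mul_pos hk0 hk0]
  rw [hk1] at hB
  have h11 : Nat.card V ≤ 1 := by simpa using hB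
  have h12 : Subsingleton V := by
    rw [← Finite.card_le_one_iff_subsingleton]
    exact h11
  exact Subsingleton.elim _ _

end ASeven

end Cfsg.Agent.H422
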