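import Mathlib
import Cfsg.Agent.H422.ASevenTwo

/-!
# Modules for `A₆` in characteristic 2 without fixed points for elements of order 5

On an `A₆`-module of exponent `2` on which the elements of order `5` have no nonzero fixed
vectors, a Sylow 3-subgroup has no nonzero fixed vectors.
-/

set_option autoImplicit false
set_option linter.unusedSimpArgs false

namespace Cfsg.Agent.H422.ASix

open Equiv

/-- The alternating group of degree 6. -/
abbrev A6 := alternatingGroup (Fin 6)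

/-- `(0 1 2)` -/
def c : A6 := ⟨(mkP ![1,2,0,3,4,5] ![2,0,1,3,4,5] (by decide)), Perm.mem_alternatingGroup.mpr (by decide)⟩
/-- `(3 4 5)` -/
def c3 : A6 := ⟨(mkP ![0,1,2,4,5,3] ![0,1,2,5,3,4] (by decide)), Perm.mem_alternatingGroup.mpr (by decide)⟩
/-- `(0 1)(3 4)` -/
def s : A6 := ⟨(mkP ![1,0,2,4,3,5] ![1,0,2,4,3,5] (by decide)), Perm.mem_alternatingGroup.mpr (by decide)⟩
/-- `(0 1 2 3 4)` -/
def x5 : A6 := ⟨(mkP ![1,2,3,4,0,5] ![4,0,1,2,3,5] (by decide)), Perm.mem_alternatingGroup.mpr (by decide)⟩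

theorem orderOf_x5 : orderOf x5 = 5 := by
  have : Fact (Nat.Prime 5) := ⟨by norm_num⟩
  exact orderOf_eq_prime (Subtype.ext (by decide)) (by decide)

variable {V : Type*} [AddCommGroup V] [DistribMulAction A6 V]

/-- An even permutation fixing `0, 1, 2` is a power of `c3`. -/
theorem fix_three (g : A6) (h3 : (g : Perm (Fin 6)) 0 = 0) (h4 : (g : Perm (Fin 6)) 1 = 1)
    (h5 : (g : Perm (Fin 6)) 2 = 2) : g = 1 ∨ g = c3 ∨ g = c3 * c3 := by
  obtain ⟨g, hg⟩ := g
  rw [Perm.mem_alternatingGroup] at hg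
  simp only at h3 h4 h5
  have key : ∀ i : Fin 6, i = 3 ∨ i = 4 ∨ i = 5 → g i = 3 ∨ g i = 4 ∨ g i = 5 := by
    intro i hi
    have h7 : ∀ j : Fin 6, j = 0 ∨ j = 1 ∨ j = 2 → g i ≠ j := by
      rintro j hj he
      have h8 : g j = j := by rcases hj with rfl | rfl | rfl <;> assumption
      have h9 : i = j := g.injective (he.trans h8.symm)
      subst h9
      rcases hi with rfl | rfl | rfl <;> rcases hj with h | h | h <;> exact absurd h (by decide)
    have h10 := h7 0 (by tauto)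
    have h11 := h7 1 (by tauto)
    have h12 := h7 2 (by tauto)
    revert h10 h11 h12
    generalize g i = y
    revert y
    decide
  have ext : ∀ p : Perm (Fin 6), g 3 = p 3 → g 4 = p 4 → g 5 = p 5 → p 0 = 0 → p 1 = 1 → p 2 = 2 →
      g = p := by
    intro p q0 q1 q2 q3 q4 q5
    apply Equiv.ext
    intro i
    fin_cases i
    · exact h3.trans q3.symm
    · exact h4.trans q4.symm
    · exact h5.trans q5.symm
    · exact q0
    · exact q1
    · exact q2
  have n01 : g 3 ≠ g 4 := fun h => absurd (g.injective h) (by decide)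
  have n02 : g 3 ≠ g 5 := fun h => absurd (g.injective h) (by decide)
  have n12 : g 4 ≠ g 5 := fun h => absurd (g.injective h) (by decide)
  rcases key 3 (by tauto) with a | a | a <;> rcases key 4 (by tauto) with b | b | b <;>
    rcases key 5 (by tauto) with d | d | d <;>
    first
    | exact absurd (a.trans b.symm) n01
    | exact absurd (a.trans d.symm) n02
    | exact absurd (b.trans d.symm) n12
    | exact Or.inl (Subtype.ext (ext 1 a b d rfl rfl rfl))
    | exact Or.inr (Or.inl (Subtype.ext (ext c3 a b d rfl rfl rfl)))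
    | exact Or.inr (Or.inr (Subtype.ext (ext (c3 * c3) a b d rfl rfl rfl)))
    | (exfalso
       have e1 := ext (swap 3 4) a b d rfl rfl rfl
       rw [e1] at hg
       exact absurd hg (by decide))
    | (exfalso
       have e1 := ext (swap 4 5) a b d rfl rfl rfl
       rw [e1] at hg
       exact absurd hg (by decide))
    | (exfalso
       have e1 := ext (swap 3 5) a b d rfl rfl rfl
       rw [e1] at hg
       exact absurd hg (by decide))

/-- The base points. -/
def bs : Fin 3 → Fin 6 := ![0, 1, 2]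

/-- `T a b c`: the translate of `v` by an even permutation `0, 1, 2 ↦ a, b, c`. -/
noncomputable def T (v : V) (a b c : Fin 6) : V := tr bs v ![a, b, c]

section

variable {v : V} (hc3 : c3 • v = v)

include hc3 in
theorem hv (g : A6) (hg : ∀ i, (g : Perm (Fin 6)) (bs i) = bs i) : g • v = v := by
  rcases fix_three g (hg 0) (hg 1) (hg 2) with rfl | rfl | rfl
  · exact one_smul _ _
  · exact hc3
  · rw [mul_smul, hc3, hc3]

include hc3 in
theorem T_base : T v 0 1 2 = v := tr_self (hv hc3)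

include hc3 in
theorem T_cyc (h : c • v = v) (a b d : Fin 6) : T v b d a = T v a b d := by
  have := tr_symm (hv hc3) c h (mkP (n := 3) ![1,2,0] ![2,0,1] (by decide)) (by decide)
    ![a, b, d]
  rw [show (fun i => (![a, b, d] : Fin 3 → Fin 6)
      ((mkP (n := 3) ![1,2,0] ![2,0,1] (by decide)) i)) = ![b, d, a] by
    funext i; fin_cases i <;> rfl] at this
  exact this

include hc3 in
theorem T_swap (h : s • v = v) (a b d : Fin 6) : T v b a d = T v a b d := by
  have := tr_symm (hv hc3) s h (swap 0 1) (by decide) ![a, b, d]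
  rw [show (fun i => (![a, b, d] : Fin 3 → Fin 6) (swap 0 1 i)) = ![b, a, d] by
    funext i; fin_cases i <;> rfl] at this
  exact this

variable (h5 : Fpf A6 V 5)

include hc3 h5 in
theorem pentA (σ : Perm (Fin 6)) :
    T v (σ 0) (σ 1) (σ 5) + T v (σ 1) (σ 2) (σ 5) + T v (σ 2) (σ 3) (σ 5)
      + T v (σ 3) (σ 4) (σ 5) + T v (σ 4) (σ 0) (σ 5) = 0 := by
  have h := pent (hv hc3) h5 (u := 3) (w := 4) (by decide) (by decide) (by decide) x5
    orderOf_x5 (mkP ![0,1,5,3,4,2] ![0,1,5,3,4,2] (by decide)) σ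
  simp only [Finset.sum_range_succ, Finset.sum_range_zero, zero_add] at h
  rw [← h]
  unfold T
  congr 1; congr 1; congr 1; congr 1
  all_goals
    congr 1
    funext i
    fin_cases i <;> rfl

variable (h2 : ∀ v : V, v + v = 0)


include hc3 h5 h2 in
/-- the triangle relation -/
theorem triangle (hs : s • v = v) (σ : Perm (Fin 6)) :
    T v (σ 0) (σ 1) (σ 5) + T v (σ 1) (σ 2) (σ 5) + T v (σ 2) (σ 0) (σ 5) = 0 := by
  let _m : Module (ZMod 2) V :=
    AddCommGroup.zmodModule (n := 2) (by intro x; rw [two_nsmul]; exact h2 x)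
  have sw := T_swap hc3 hs
  have p0 : T v (σ 0) (σ 1) (σ 5) + T v (σ 1) (σ 2) (σ 5) + T v (σ 2) (σ 3) (σ 5) + T v (σ 3) (σ 4) (σ 5) + T v (σ 4) (σ 0) (σ 5) = 0 :=
    pentA hc3 h5 (σ * (mkP ![0,1,2,3,4,5] ![0,1,2,3,4,5] (by decide)))
  rw [sw (σ 0) (σ 4) (σ 5)] at p0
  have p1 : T v (σ 0) (σ 1) (σ 5) + T v (σ 1) (σ 3) (σ 5) + T v (σ 3) (σ 2) (σ 5) + T v (σ 2) (σ 4) (σ 5) + T v (σ 4) (σ 0) (σ 5) = 0 :=
    pentA hc3 h5 (σ * (mkP ![0,1,3,2,4,5] ![0,1,3,2,4,5] (by decide)))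
  rw [sw (σ 2) (σ 3) (σ 5), sw (σ 0) (σ 4) (σ 5)] at p1
  have p2 : T v (σ 0) (σ 1) (σ 5) + T v (σ 1) (σ 3) (σ 5) + T v (σ 3) (σ 4) (σ 5) + T v (σ 4) (σ 2) (σ 5) + T v (σ 2) (σ 0) (σ 5) = 0 :=
    pentA hc3 h5 (σ * (mkP ![0,1,3,4,2,5] ![0,1,4,2,3,5] (by decide)))
  rw [sw (σ 2) (σ 4) (σ 5), sw (σ 0) (σ 2) (σ 5)] at p2
  rw [sw (σ 0) (σ 2) (σ 5)]
  linear_combination (norm := (match_scalars <;> rfl)) (1 : ZMod 2) • p0 + (1 : ZMod 2) • p1 + (1 : ZMod 2) • p2

include hc3 h5 h2 in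
theorem flip (hc : c • v = v) (hs : s • v = v) (σ : Perm (Fin 6)) :
    T v (σ 1) (σ 2) (σ 5) = T v (σ 1) (σ 2) (σ 0) := by
  let _m : Module (ZMod 2) V :=
    AddCommGroup.zmodModule (n := 2) (by intro x; rw [two_nsmul]; exact h2 x)
  have sw := T_swap hc3 hs
  have cy := T_cyc hc3 hc
  have h1 := triangle hc3 h5 h2 hs σ
  have h3 : T v (σ 1) (σ 5) (σ 0) + T v (σ 5) (σ 2) (σ 0) + T v (σ 2) (σ 1) (σ 0) = 0 :=
    triangle hc3 h5 h2 hs (σ * (mkP ![1,5,2,3,4,0] ![5,0,2,3,4,1] (by decide)))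
  rw [cy (σ 0) (σ 1) (σ 5), sw (σ 2) (σ 5) (σ 0), ← cy (σ 2) (σ 5) (σ 0), ← cy (σ 5) (σ 0) (σ 2)] at h3
  rw [sw (σ 1) (σ 2) (σ 0)] at h3
  rw [sw (σ 0) (σ 2) (σ 5)] at h1
  linear_combination (norm := (match_scalars <;> rfl)) (1 : ZMod 2) • h1 + (1 : ZMod 2) • h3

include hc3 h5 h2 in
theorem eq_zero (hc : c • v = v) (hs : s • v = v) : v = 0 := by
  have sw := T_swap hc3 hs
  have cy := T_cyc hc3 hc
  have h1 : T v 0 1 5 + T v 1 2 5 + T v 2 0 5 = 0 := triangle hc3 h5 h2 hs 1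
  have e1 : T v 1 2 5 = T v 1 2 0 := flip hc3 h5 h2 hc hs 1
  have e2 : T v 0 1 5 = T v 0 1 2 :=
    flip hc3 h5 h2 hc hs (mkP ![2,0,1,3,4,5] ![1,2,0,3,4,5] (by decide))
  have e3 : T v 2 0 5 = T v 2 0 1 :=
    flip hc3 h5 h2 hc hs (mkP ![1,2,0,3,4,5] ![2,0,1,3,4,5] (by decide))
  rw [e1, e2, e3, cy 0 1 2, ← cy 2 0 1, T_base hc3] at h1
  rw [h2, zero_add] at h1
  exact h1

end

theorem sm {g h k l : A6} (e : g * h = k * l) (v : V) : g • h • v = k • l • v := by
  rw [← mul_smul, e, mul_smul]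

/-- **Main result**: no nonzero vector is fixed by the Sylow 3-subgroup `⟨c, c3⟩`. -/
theorem fixed_eq_zero (h5 : Fpf A6 V 5) (h2 : ∀ v : V, v + v = 0) (v : V) (hc : c • v = v)
    (hc3 : c3 • v = v) : v = 0 := by
  by_contra hne
  obtain ⟨w, ⟨⟨a1, a2⟩, a3⟩, hw⟩ := two_step (fx V c ⊓ fx V c3) (fun v _ => h2 v)
    ⟨v, ⟨hc, hc3⟩, hne⟩ s
    (fun w hw => by
      obtain ⟨a1, a2⟩ := hw
      replace a1 : c • w = w := a1
      replace a2 : c3 • w = w := a2
      refine ⟨?_, ?_⟩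
      · change c • s • w = s • w
        rw [sm (show c * s = s * (c * c) by decide), mul_smul, a1, a1]
      · change c3 • s • w = s • w
        rw [sm (show c3 * s = s * (c3 * c3) by decide), mul_smul, a2, a2])
    (fun w _ => by rw [← mul_smul, show s * s = 1 by decide, one_smul])
  exact hw (eq_zero a2 h5 h2 a1 a3)

end Cfsg.Agent.H422.ASix
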