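import Mathlib
import Cfsg.Agent.OddOrderCharacters.WielandtElem
import Cfsg.Agent.Solvable.Glauberman

/-!
# Coprime modules: dimensions of fixed point spaces

`Dm r d`: `d A` is the dimension of the space of fixed points of the subgroup `A` in a module of
characteristic `r` prime to the order of the group (axiomatised by Wielandt's trace function).

* `exists_dm`: existence for a module;
* `Dm.frob`: in a Frobenius group `U E` with `d U = 0`: `|E| * d E = d 1`;
* `Dm.sum_good`: if all cyclic subgroups `C` of `Q` satisfy `|C| * d C = d 1` then `|Q| * d Q = d 1`;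
* `Dm.eq_zero`: if all cyclic subgroups `C` are of this kind or of prime order with `d C = 0`, and there are
  two subgroups of the second kind, then `d 1 = 0`.
-/

set_option autoImplicit false

namespace Cfsg.Agent.H422.CopMod

open Cfsg.Agent.OddOrderCharacters.WielandtElem
open scoped Pointwise

/-- dimensions of fixed point spaces -/
structure Dm {G : Type*} [Group G] (r : ℕ) (d : Subgroup G → ℕ) : Prop where
  tr : ∀ n, n ≠ 0 → ∃ t : G → ZMod (r ^ n), ∀ (A : Subgroup G) [Fintype A],
        (Nat.card A : ZMod (r ^ n)) * d A = ∑ x : A, t x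
  conj : ∀ (g : G) (A : Subgroup G), d (MulAut.conj g • A) = d A
  anti : ∀ A B : Subgroup G, A ≤ B → d B ≤ d A

theorem conj_zpowers {G : Type*} [Group G] (g x : G) :
    MulAut.conj g • Subgroup.zpowers x = Subgroup.zpowers (g * x * g⁻¹) := by
  apply le_antisymm
  · intro y hy
    obtain ⟨a, ha, rfl⟩ := (Subgroup.mem_smul_pointwise_iff_exists _ _ _).mp hy
    obtain ⟨k, rfl⟩ := Subgroup.mem_zpowers_iff.mp ha
    rw [MulAut.smul_def, map_zpow, MulAut.conj_apply]
    exact Subgroup.zpow_mem _ (Subgroup.mem_zpowers _) k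
  · rw [Subgroup.zpowers_le]
    exact Subgroup.smul_mem_pointwise_smul x (MulAut.conj g) _ (Subgroup.mem_zpowers x)

theorem orderOf_conj {G : Type*} [Group G] (g x : G) : orderOf (g * x * g⁻¹) = orderOf x := by
  have h2 := MulEquiv.orderOf_eq (MulAut.conj g) x
  rw [MulAut.conj_apply] at h2
  exact h2

theorem Dm.conj_zp {G : Type*} [Group G] {r : ℕ} {d : Subgroup G → ℕ} (hd : Dm r d) (g x : G) :
    d (Subgroup.zpowers (g * x * g⁻¹)) = d (Subgroup.zpowers x) := by
  rw [← conj_zpowers, hd.conj]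

section exists_dm

variable {G V : Type*} [Group G] [Finite G] [AddCommGroup V] [Finite V] {r : ℕ} [Fact r.Prime]

omit [Finite G] [Finite V] in
theorem mem_fix {ρ : G →* AddMonoid.End V} {A : Subgroup G} {v : V} :
    v ∈ fix ρ A ↔ ∀ x ∈ A, ρ x v = v := Iff.rfl

theorem exists_dm (hV : ∀ v : V, r • v = 0) (ρ : G →* AddMonoid.End V) (hr : ¬ r ∣ Nat.card G) :
    ∃ d : Subgroup G → ℕ, Dm r d ∧ (∀ A, Nat.card (fix ρ A) = r ^ d A) ∧
      ∀ A, d A = 0 ↔ ∀ v : V, (∀ x ∈ A, ρ x v = v) → v = 0 := by
  obtain ⟨d, h1, h2⟩ := exists_exponent (r := r) hV ρ hr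
  have hr1 : 1 < r := (Fact.out : r.Prime).one_lt
  refine ⟨d, ⟨h2, ?_, ?_⟩, h1, ?_⟩
  · intro g A
    apply Nat.pow_right_injective hr1
    change r ^ _ = r ^ _
    rw [← h1, ← h1]
    symm
    refine Nat.card_congr ⟨fun v => ⟨ρ g v, ?_⟩, fun v => ⟨ρ g⁻¹ v, ?_⟩, ?_, ?_⟩
    · rintro x hx
      obtain ⟨a, ha, rfl⟩ := Subgroup.mem_smul_pointwise_iff_exists _ _ _ |>.mp hx
      rw [MulAut.smul_def, MulAut.conj_apply, ← mul_act, inv_mul_cancel_right, mul_act]
      congr 1
      exact v.2 a ha
    · rintro x hx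
      have h3 : g * x * g⁻¹ ∈ MulAut.conj g • A :=
        Subgroup.smul_mem_pointwise_smul x (MulAut.conj g) A hx
      have h4 := v.2 _ h3
      rw [← mul_act]
      have h5 : x * g⁻¹ = g⁻¹ * (g * x * g⁻¹) := by group
      rw [h5, mul_act, h4]
    · intro v
      exact Subtype.ext (inv_act ρ g v)
    · intro v
      exact Subtype.ext (act_inv ρ g v)
  · intro A B hAB
    by_contra hlt
    push Not at hlt
    have h3 : Nat.card (fix ρ B) ≤ Nat.card (fix ρ A) := by
      apply Nat.card_le_card_of_injective (fun v : fix ρ B => (⟨v.1, fun x hx => v.2 x (hAB hx)⟩ : fix ρ A))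
      intro v w h
      exact Subtype.ext (congrArg (fun z : fix ρ A => (z : V)) h)
    rw [h1, h1] at h3
    exact absurd h3 (not_le.mpr (Nat.pow_lt_pow_right hr1 hlt))
  · intro A
    constructor
    · intro h v hv
      have h3 := h1 A
      rw [h, pow_zero] at h3
      have h4 : Subsingleton (fix ρ A) := (Nat.card_eq_one_iff_unique.mp h3).1
      have h5 := Subsingleton.elim (⟨v, hv⟩ : fix ρ A) 0
      exact congrArg Subtype.val h5
    · intro h
      have h3 : Nat.card (fix ρ A) = 1 := by
        rw [Nat.card_eq_one_iff_unique]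
        refine ⟨⟨fun a b => Subtype.ext ?_⟩, ⟨0⟩⟩
        rw [h a.1 a.2, h b.1 b.2]
      rw [h1] at h3
      exact (Nat.pow_eq_one.mp h3).resolve_left hr1.ne'

end exists_dm

section

variable {G : Type*} [Group G] [Finite G] {r : ℕ} {d : Subgroup G → ℕ}

theorem card_option {α : Type*} [Finite α] (p : Option α → Prop) [Decidable (p none)] :
    Nat.card {i : Option α // p i} = (if p none then 1 else 0) + Nat.card {a : α // p (some a)} := by
  classical
  have := Fintype.ofFinite α
  rw [Nat.card_eq_fintype_card, Nat.card_eq_fintype_card, Fintype.card_subtype, Fintype.card_subtype,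
    Finset.card_filter, Finset.card_filter, Fintype.sum_option]
  congr 1
  congr

/-- Frobenius groups. -/
theorem Dm.frob [Fact r.Prime] (hd : Dm r d) (U E : Subgroup G) (hUE : ∀ x, x ∈ U → x ∈ E → x = 1)
    (hUn : ∀ e ∈ E, ∀ u ∈ U, e * u * e⁻¹ ∈ U)
    (hfpf : ∀ e ∈ E, e ≠ 1 → ∀ u ∈ U, e * u = u * e → u = 1) (h0 : d U = 0) :
    Nat.card E * d E = d ⊥ := by
  classical
  have := Fintype.ofFinite U
  have hinf := hUE
  have hEU : E ≤ Subgroup.normalizer (U : Set G) := by
    intro x hx
    rw [Subgroup.mem_normalizer_iff]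
    intro g
    constructor
    · exact hUn x hx g
    · intro hg
      have h2 := hUn x⁻¹ (E.inv_mem hx) _ hg
      have h3 : x⁻¹ * (x * g * x⁻¹) * x⁻¹⁻¹ = g := by group
      rwa [h3] at h2
  -- uniqueness of decomposition
  have huniq : ∀ u ∈ U, ∀ v ∈ U, ∀ e ∈ E, ∀ f ∈ E, u * e = v * f → u = v ∧ e = f := by
    intro u hu v hv e he f hf h
    have h1 : v⁻¹ * u = f * e⁻¹ := by
      rw [inv_mul_eq_iff_eq_mul, ← mul_assoc, ← h, mul_inv_cancel_right]
    have h2 : v⁻¹ * u = 1 := hinf _ (U.mul_mem (U.inv_mem hv) hu)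
      (by rw [h1]; exact E.mul_mem hf (E.inv_mem he))
    have h3 : u = v := (inv_mul_eq_one.mp h2).symm
    refine ⟨h3, ?_⟩
    rw [h3] at h
    exact mul_left_cancel h
  -- commutator
  have hcomU : ∀ u ∈ U, ∀ e ∈ E, u * e * u⁻¹ * e⁻¹ ∈ U := by
    intro u hu e he
    have h1 := U.mul_mem hu (hUn e he u⁻¹ (U.inv_mem hu))
    have h2 : u * e * u⁻¹ * e⁻¹ = u * (e * u⁻¹ * e⁻¹) := by group
    rw [h2]; exact h1
  have hcominj : ∀ e ∈ E, e ≠ 1 → ∀ u ∈ U, ∀ v ∈ U, u * e * u⁻¹ = v * e * v⁻¹ → u = v := by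
    intro e he he1 u hu v hv h
    have h1 : e * (v⁻¹ * u) = (v⁻¹ * u) * e := by
      calc e * (v⁻¹ * u) = v⁻¹ * (v * e * v⁻¹) * u := by group
        _ = v⁻¹ * (u * e * u⁻¹) * u := by rw [h]
        _ = (v⁻¹ * u) * e := by group
    have h2 := hfpf e he he1 _ (U.mul_mem (U.inv_mem hv) hu) h1
    exact (inv_mul_eq_one.mp h2).symm
  have hconjle : ∀ u ∈ U, MulAut.conj u • E ≤ U ⊔ E := by
    intro u hu g hg
    rw [Subgroup.mem_smul_pointwise_iff_exists] at hg
    obtain ⟨e, he, rfl⟩ := hg
    rw [MulAut.smul_def, MulAut.conj_apply]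
    exact Subgroup.mul_mem _ (Subgroup.mul_mem _ (Subgroup.mem_sup_left hu) (Subgroup.mem_sup_right he))
      (Subgroup.mem_sup_left (U.inv_mem hu))
  let A : Option U → Subgroup G := fun o => o.elim (U ⊔ E) (fun _ => ⊥)
  let B : Option U → Subgroup G := fun o => o.elim U (fun u => MulAut.conj (u : G) • E)
  have hAB : ∀ f : G, Nat.card {i // f ∈ A i} = Nat.card {j // f ∈ B j} := by
    intro f
    rw [card_option (fun i => f ∈ A i), card_option (fun i => f ∈ B i)]
    change (if f ∈ U ⊔ E then 1 else 0) + Nat.card {a : U // f ∈ (⊥ : Subgroup G)} =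
      (if f ∈ U then 1 else 0) + Nat.card {u : U // f ∈ MulAut.conj (u : G) • E}
    by_cases hf1 : f = 1
    · subst hf1
      have h1 : (1 : G) ∈ U ⊔ E := Subgroup.one_mem _
      have h2 : (1 : G) ∈ U := Subgroup.one_mem _
      rw [if_pos h1, if_pos h2]
      congr 1
      refine Nat.card_congr (Equiv.subtypeEquivRight fun u => ?_)
      exact ⟨fun _ => Subgroup.one_mem _, fun _ => Subgroup.one_mem _⟩
    have h0 : Nat.card {a : U // f ∈ (⊥ : Subgroup G)} = 0 := by
      rw [Nat.card_eq_zero]
      left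
      exact ⟨fun a => hf1 (by simpa using a.2)⟩
    rw [h0, add_zero]
    by_cases hf : f ∈ U ⊔ E
    · rw [if_pos hf]
      by_cases hfU : f ∈ U
      · rw [if_pos hfU]
        have h2 : Nat.card {u : U // f ∈ MulAut.conj (u : G) • E} = 0 := by
          rw [Nat.card_eq_zero]
          left
          refine ⟨?_⟩
          rintro ⟨u, h3⟩
          rw [Subgroup.mem_smul_pointwise_iff_exists] at h3
          obtain ⟨e, he, hef⟩ := h3
          rw [MulAut.smul_def, MulAut.conj_apply] at hef
          have h4 : e = (u : G)⁻¹ * f * u := by rw [← hef]; group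
          have h5 : e ∈ U := by
            rw [h4]
            exact U.mul_mem (U.mul_mem (U.inv_mem u.2) hfU) u.2
          have h6 := hinf e h5 he
          rw [h6] at hef
          apply hf1
          rw [← hef]; group
        rw [h2]
      · rw [if_neg hfU, zero_add]
        symm
        rw [Nat.card_eq_one_iff_unique]
        have hf' := hf
        rw [sup_comm] at hf'
        obtain ⟨u0, hu0, e0, he0, hfe⟩ := Cfsg.Agent.Solvable.Glauberman.exists_mul_of_mem_sup E U hEU hf'
        have he01 : e0 ≠ 1 := by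
          rintro rfl
          apply hfU
          rw [hfe, mul_one]; exact hu0
        have hkey : ∀ u : U, f ∈ MulAut.conj (u : G) • E → u * e0 * (u : G)⁻¹ = f := by
          intro u hu
          rw [Subgroup.mem_smul_pointwise_iff_exists] at hu
          obtain ⟨e, he, hef⟩ := hu
          rw [MulAut.smul_def, MulAut.conj_apply] at hef
          have h1 : (u * e * (u : G)⁻¹ * e⁻¹) * e = u0 * e0 := by
            rw [← hfe, ← hef]; group
          have h2 := (huniq _ (hcomU u u.2 e he) _ hu0 _ he _ he0 h1).2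
          rw [← h2]; exact hef
        constructor
        · constructor
          rintro ⟨u, hu⟩ ⟨v, hv⟩
          apply Subtype.ext
          apply Subtype.ext
          exact hcominj e0 he0 he01 u u.2 v v.2 ((hkey u hu).trans (hkey v hv).symm)
        · -- existence
          have hinj : Function.Injective (fun u : U => (⟨u * e0 * (u : G)⁻¹ * e0⁻¹, hcomU u u.2 e0 he0⟩ : U)) := by
            intro u v huv
            have h1 : (u : G) * e0 * (u : G)⁻¹ * e0⁻¹ = v * e0 * (v : G)⁻¹ * e0⁻¹ := congrArg Subtype.val huv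
            exact Subtype.ext (hcominj e0 he0 he01 u u.2 v v.2 (mul_right_cancel h1))
          obtain ⟨u, hu⟩ := Finite.surjective_of_injective hinj ⟨u0, hu0⟩
          have hu' : (u : G) * e0 * (u : G)⁻¹ * e0⁻¹ = u0 := congrArg Subtype.val hu
          refine ⟨⟨u, ?_⟩⟩
          rw [Subgroup.mem_smul_pointwise_iff_exists]
          refine ⟨e0, he0, ?_⟩
          rw [MulAut.smul_def, MulAut.conj_apply, hfe, ← hu']
          group
    · have hfU : f ∉ U := fun h => hf (Subgroup.mem_sup_left h)
      rw [if_neg hf, if_neg hfU, zero_add]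
      symm
      rw [Nat.card_eq_zero]
      left
      exact ⟨fun u => hf (hconjle u.1 u.1.2 u.2)⟩
  have hW := sum_eq_sum (r := r) d hd.tr A B hAB
  rw [Fintype.sum_option, Fintype.sum_option] at hW
  change Nat.card ↥(U ⊔ E) * d (U ⊔ E) + ∑ _u : U, Nat.card (⊥ : Subgroup G) * d ⊥ =
    Nat.card U * d U + ∑ u : U, Nat.card ↥(MulAut.conj (u : G) • E : Subgroup G) *
      d (MulAut.conj (u : G) • E) at hW
  have h3 : ∀ u : U, Nat.card ↥(MulAut.conj (u : G) • E : Subgroup G) = Nat.card E := fun u =>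
    Nat.card_congr (Subgroup.equivSMul (MulAut.conj (u : G)) E).symm.toEquiv
  have h4 : d (U ⊔ E) = 0 := Nat.le_zero.mp (h0 ▸ hd.anti _ _ le_sup_left)
  simp only [h3, hd.conj, h0, h4, mul_zero, zero_add, Subgroup.card_bot, one_mul, Finset.sum_const,
    smul_eq_mul] at hW
  exact (Nat.eq_of_mul_eq_mul_left (by rw [Finset.card_univ, ← Nat.card_eq_fintype_card]; exact Nat.card_pos)
    hW).symm

end

section sums

variable {G : Type*} [Group G] [Fintype G] {r n : ℕ} {d : Subgroup G → ℕ}
  {t : G → ZMod (r ^ n)}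

open Classical in
/-- the sum of `t` over the generators of `C` -/
noncomputable def gen (t : G → ZMod (r ^ n)) (C : Subgroup G) : ZMod (r ^ n) :=
  ∑ y ∈ Finset.univ.filter (fun y : G => Subgroup.zpowers y = C), t y

open Classical in
theorem sum_fib (t : G → ZMod (r ^ n)) (A : Subgroup G) [Fintype A] :
    ∑ x : A, t x = ∑ C ∈ (Finset.univ.filter (fun y : G => y ∈ A)).image Subgroup.zpowers, gen t C := by
  have h1 : ∑ x : A, t x = ∑ x ∈ Finset.univ.filter (fun y : G => y ∈ A), t x := by
    symm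
    exact Finset.sum_subtype (Finset.univ.filter (fun y : G => y ∈ A)) (by simp) t
  rw [h1, ← Finset.sum_fiberwise_of_maps_to (fun x hx => Finset.mem_image_of_mem Subgroup.zpowers hx)]
  refine Finset.sum_congr rfl fun C hC => ?_
  rw [gen, Finset.filter_filter]
  refine Finset.sum_congr ?_ fun _ _ => rfl
  ext y
  simp only [Finset.mem_filter, Finset.mem_univ, true_and]
  constructor
  · exact fun h => h.2
  · intro h
    refine ⟨?_, h⟩
    obtain ⟨z, hz, rfl⟩ := Finset.mem_image.mp hC
    have h2 : y ∈ Subgroup.zpowers z := h ▸ Subgroup.mem_zpowers y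
    exact (Subgroup.zpowers_le.mpr (Finset.mem_filter.mp hz).2) h2

theorem gen_bot (t : G → ZMod (r ^ n)) : gen t ⊥ = t 1 := by
  classical
  rw [gen]
  have : Finset.univ.filter (fun y : G => Subgroup.zpowers y = ⊥) = {1} := by
    ext y
    simp
  rw [this, Finset.sum_singleton]

omit [Fintype G] in
theorem t_one (ht : ∀ (A : Subgroup G) [Fintype A], (Nat.card A : ZMod (r ^ n)) * d A = ∑ x : A, t x) :
    t 1 = d ⊥ := by
  have h := ht ⊥
  rw [Subgroup.card_bot, Nat.cast_one, one_mul] at h
  rw [h]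
  simp
  rfl

/-- the sum over the generators of a cyclic subgroup, all of whose subgroups are good -/
theorem gen_good (ht : ∀ (A : Subgroup G) [Fintype A], (Nat.card A : ZMod (r ^ n)) * d A = ∑ x : A, t x) :
    ∀ (m : ℕ) (x : G), orderOf x = m → x ≠ 1 →
      (∀ y ∈ Subgroup.zpowers x, orderOf y * d (Subgroup.zpowers y) = d ⊥) →
      gen t (Subgroup.zpowers x) = 0 := by
  classical
  intro m
  induction m using Nat.strong_induction_on with
  | _ m ih =>
    intro x hx hx1 hg
    have h1 := ht (Subgroup.zpowers x)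
    rw [sum_fib, Nat.card_zpowers] at h1
    have h2 := hg x (Subgroup.mem_zpowers x)
    rw [← Nat.cast_mul, h2] at h1
    set T := (Finset.univ.filter (fun y : G => y ∈ Subgroup.zpowers x)).image Subgroup.zpowers with hT
    have hb : (⊥ : Subgroup G) ∈ T := by
      rw [hT, Finset.mem_image]
      exact ⟨1, by simp, Subgroup.zpowers_one_eq_bot⟩
    have hx2 : Subgroup.zpowers x ∈ T.erase ⊥ := by
      rw [Finset.mem_erase]
      refine ⟨by simpa using hx1, ?_⟩
      rw [hT, Finset.mem_image]
      exact ⟨x, by simp, rfl⟩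
    rw [← Finset.add_sum_erase T _ hb, ← Finset.add_sum_erase (T.erase ⊥) _ hx2, gen_bot, t_one ht] at h1
    have h3 : ∑ C ∈ (T.erase ⊥).erase (Subgroup.zpowers x), gen t C = 0 := by
      apply Finset.sum_eq_zero
      intro C hC
      rw [Finset.mem_erase, Finset.mem_erase, hT, Finset.mem_image] at hC
      obtain ⟨hC1, hC2, y, hy, rfl⟩ := hC
      have hy' : y ∈ Subgroup.zpowers x := (Finset.mem_filter.mp hy).2
      have hle : Subgroup.zpowers y ≤ Subgroup.zpowers x := Subgroup.zpowers_le.mpr hy'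
      apply ih (orderOf y) _ y rfl
      · rintro rfl
        exact hC2 Subgroup.zpowers_one_eq_bot
      · intro z hz
        exact hg z (hle hz)
      · rw [← hx, ← Nat.card_zpowers y, ← Nat.card_zpowers x]
        apply lt_of_le_of_ne (Subgroup.card_le_of_le hle)
        intro he
        exact hC1 (Subgroup.eq_of_le_of_card_ge hle he.ge)
    rw [h3, add_zero] at h1
    exact (left_eq_add.mp h1)

/-- the sum over the generators of a subgroup of prime order without fixed points -/
theorem gen_bad (ht : ∀ (A : Subgroup G) [Fintype A], (Nat.card A : ZMod (r ^ n)) * d A = ∑ x : A, t x)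
    (x : G) (hx : (orderOf x).Prime) (h0 : d (Subgroup.zpowers x) = 0) :
    gen t (Subgroup.zpowers x) = - (d ⊥ : ZMod (r ^ n)) := by
  classical
  have h1 := ht (Subgroup.zpowers x)
  rw [sum_fib, h0, Nat.cast_zero, mul_zero] at h1
  have hT : (Finset.univ.filter (fun y : G => y ∈ Subgroup.zpowers x)).image Subgroup.zpowers =
      {⊥, Subgroup.zpowers x} := by
    ext C
    rw [Finset.mem_image, Finset.mem_insert, Finset.mem_singleton]
    constructor
    · rintro ⟨y, hy, rfl⟩
      have hy' : y ∈ Subgroup.zpowers x := (Finset.mem_filter.mp hy).2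
      have hle : Subgroup.zpowers y ≤ Subgroup.zpowers x := Subgroup.zpowers_le.mpr hy'
      have h2 := Subgroup.card_dvd_of_le hle
      rw [Nat.card_zpowers x] at h2
      rcases (Nat.dvd_prime hx).mp h2 with h3 | h3
      · left
        exact Subgroup.card_eq_one.mp h3
      · right
        exact Subgroup.eq_of_le_of_card_ge hle (by rw [h3, Nat.card_zpowers])
    · rintro (rfl | rfl)
      · exact ⟨1, by simp, Subgroup.zpowers_one_eq_bot⟩
      · exact ⟨x, by simp, rfl⟩
  have hne : (⊥ : Subgroup G) ≠ Subgroup.zpowers x := by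
    intro h
    have h2 : x = 1 := Subgroup.zpowers_eq_bot.mp h.symm
    rw [h2, orderOf_one] at hx
    exact Nat.not_prime_one hx
  rw [hT, Finset.sum_pair hne, gen_bot, t_one ht] at h1
  exact (neg_eq_of_add_eq_zero_right h1.symm).symm

end sums

section

variable {G : Type*} [Group G] [Finite G] {r : ℕ} [Fact r.Prime] {d : Subgroup G → ℕ}

/-- equality modulo all powers -/
theorem eq_of_mod {a b : ℕ} (h : ∀ n, n ≠ 0 → (a : ZMod (r ^ n)) = b) : a = b := by
  have hlt : a + b + 1 < r ^ (a + b + 1) := Nat.lt_pow_self (Fact.out : r.Prime).one_lt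
  have h1 := h (a + b + 1) (by omega)
  rw [ZMod.natCast_eq_natCast_iff] at h1
  exact Nat.ModEq.eq_of_lt_of_lt h1 (by omega) (by omega)

/-- If all elements `x` of `Q` satisfy `|x| * d ⟨x⟩ = d 1` then `|Q| * d Q = d 1`. -/
theorem Dm.sum_good (hd : Dm r d) (Q : Subgroup G)
    (hQ : ∀ x ∈ Q, orderOf x * d (Subgroup.zpowers x) = d ⊥) : Nat.card Q * d Q = d ⊥ := by
  classical
  have := Fintype.ofFinite G
  have := Fintype.ofFinite Q
  apply eq_of_mod (r := r)
  intro n hn
  obtain ⟨t, ht⟩ := hd.tr n hn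
  have h1 := ht Q
  rw [sum_fib] at h1
  set T := (Finset.univ.filter (fun y : G => y ∈ Q)).image Subgroup.zpowers with hT
  have hb : (⊥ : Subgroup G) ∈ T := by
    rw [hT, Finset.mem_image]
    exact ⟨1, by simp, Subgroup.zpowers_one_eq_bot⟩
  rw [← Finset.add_sum_erase T _ hb, gen_bot, t_one ht] at h1
  have h3 : ∑ C ∈ (T.erase ⊥), gen t C = 0 := by
    apply Finset.sum_eq_zero
    intro C hC
    rw [Finset.mem_erase, hT, Finset.mem_image] at hC
    obtain ⟨hC2, y, hy, rfl⟩ := hC
    have hy' : y ∈ Q := (Finset.mem_filter.mp hy).2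
    apply gen_good ht (orderOf y) y rfl
    · rintro rfl
      exact hC2 Subgroup.zpowers_one_eq_bot
    · intro z hz
      exact hQ z (Subgroup.zpowers_le.mpr hy' hz)
  rw [h3, add_zero] at h1
  rw [Nat.cast_mul]
  exact h1

/-- If all elements `x` satisfy `|x| * d ⟨x⟩ = d 1` or are of prime order with `d ⟨x⟩ = 0`, and there
are two subgroups of the second kind, then `d 1 = 0`. -/
theorem Dm.eq_zero (hd : Dm r d)
    (hG : ∀ x : G, orderOf x * d (Subgroup.zpowers x) = d ⊥ ∨
      ((orderOf x).Prime ∧ d (Subgroup.zpowers x) = 0))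
    {a b : G} (ha : (orderOf a).Prime) (ha0 : d (Subgroup.zpowers a) = 0)
    (hb : (orderOf b).Prime) (hb0 : d (Subgroup.zpowers b) = 0)
    (hab : Subgroup.zpowers a ≠ Subgroup.zpowers b) : d ⊥ = 0 := by
  classical
  have := Fintype.ofFinite G
  by_contra h0
  have htop : d ⊤ = 0 := Nat.le_zero.mp (ha0 ▸ hd.anti _ _ le_top)
  -- the bad subgroups
  let T : Finset (Subgroup G) :=
    (Finset.univ.filter (fun y : G => y ∈ (⊤ : Subgroup G))).image Subgroup.zpowers
  let Bd : Finset (Subgroup G) := (T.erase ⊥).filter (fun C => d C = 0)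
  have hmemT : ∀ x : G, Subgroup.zpowers x ∈ T := fun x =>
    Finset.mem_image_of_mem _ (by simp)
  have hne : ∀ x : G, (orderOf x).Prime → Subgroup.zpowers x ≠ ⊥ := by
    intro x hx h
    rw [Subgroup.zpowers_eq_bot.mp h, orderOf_one] at hx
    exact Nat.not_prime_one hx
  have hcard : 2 ≤ Bd.card := by
    have h1 : ({Subgroup.zpowers a, Subgroup.zpowers b} : Finset (Subgroup G)) ⊆ Bd := by
      intro C hC
      rw [Finset.mem_insert, Finset.mem_singleton] at hC
      rcases hC with rfl | rfl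
      · exact Finset.mem_filter.mpr ⟨Finset.mem_erase.mpr ⟨hne a ha, hmemT a⟩, ha0⟩
      · exact Finset.mem_filter.mpr ⟨Finset.mem_erase.mpr ⟨hne b hb, hmemT b⟩, hb0⟩
    have h2 := Finset.card_le_card h1
    rwa [Finset.card_pair hab] at h2
  have hkey : d ⊥ = Bd.card * d ⊥ := by
    apply eq_of_mod (r := r)
    intro n hn
    obtain ⟨t, ht⟩ := hd.tr n hn
    have h1 := ht ⊤
    rw [htop, Nat.cast_zero, mul_zero, sum_fib] at h1
    have hbT : (⊥ : Subgroup G) ∈ T := by
      have := hmemT 1
      rwa [Subgroup.zpowers_one_eq_bot] at this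
    change 0 = ∑ C ∈ T, gen t C at h1
    rw [← Finset.add_sum_erase T _ hbT, gen_bot, t_one ht,
      ← Finset.sum_filter_add_sum_filter_not (T.erase ⊥) (fun C => d C = 0)] at h1
    have h2 : ∑ C ∈ (T.erase ⊥).filter (fun C => d C = 0), gen t C =
        - ((Bd.card : ZMod (r ^ n)) * d ⊥) := by
      rw [Finset.sum_congr rfl (g := fun _ => - (d ⊥ : ZMod (r ^ n)))]
      · rw [Finset.sum_const, nsmul_eq_mul, mul_neg]
      · intro C hC
        rw [Finset.mem_filter, Finset.mem_erase, Finset.mem_image] at hC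
        obtain ⟨⟨hC1, y, hy, rfl⟩, hC3⟩ := hC
        apply gen_bad ht y _ hC3
        rcases hG y with h | h
        · rw [hC3, mul_zero] at h
          exact absurd h.symm h0
        · exact h.1
    have h3 : ∑ C ∈ (T.erase ⊥).filter (fun C => ¬ d C = 0), gen t C = 0 := by
      apply Finset.sum_eq_zero
      intro C hC
      rw [Finset.mem_filter, Finset.mem_erase, Finset.mem_image] at hC
      obtain ⟨⟨hC1, y, hy, rfl⟩, hC3⟩ := hC
      apply gen_good ht (orderOf y) y rfl
      · rintro rfl
        exact hC1 Subgroup.zpowers_one_eq_bot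
      · intro z hz
        rcases hG z with h | h
        · exact h
        · exact absurd (Nat.le_zero.mp (h.2 ▸ hd.anti _ _ (Subgroup.zpowers_le.mpr hz))) hC3
    rw [h2, h3, add_zero] at h1
    rw [Nat.cast_mul]
    exact (eq_neg_iff_add_eq_zero.mpr h1.symm).trans (neg_neg _)
  have h4 : 2 * d ⊥ ≤ Bd.card * d ⊥ := Nat.mul_le_mul_right _ hcard
  omega

end

end Cfsg.Agent.H422.CopMod
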