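import Cfsg.Agent.H422.Reduct
import Cfsg.Agent.H366.IndexFrat
import Cfsg.Agent.H366.SevenPerm
import Cfsg.Agent.H422.LTwoAut
import Cfsg.Agent.H422.LThreeGood

/-!
# The five groups with the prime graph of `A₇`
-/

set_option autoImplicit false

open Subgroup Cfsg

namespace Cfsg.Agent.H422.Final

open Cfsg.Agent Cfsg.Agent.H366 Cfsg.Agent.H422 Cfsg.Agent.H422.Graph Cfsg.Agent.H422.Iso Cfsg.Agent.H422.AutBase
open Cfsg.Agent.H422.Reduct

section frattini

variable {G : Type*} [Group G] [Finite G]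

theorem mem_norm {n y : G} (h : n * y * n⁻¹ ∈ zpowers y) : n ∈ normalizer (zpowers y : Set G) := by
  rw [Subgroup.mem_normalizer_iff_map_conj_eq, MonoidHom.map_zpowers]
  change zpowers (n * y * n⁻¹) = zpowers y
  refine Subgroup.eq_of_le_of_card_ge (by rwa [zpowers_le]) ?_
  rw [Nat.card_zpowers, Nat.card_zpowers]
  exact (MulEquiv.orderOf_eq (MulAut.conj n) y).ge

omit [Finite G] in
theorem four_dvd {n y : G} (hy : orderOf y = 5) (h : n * y = y ^ 2 * n) : 4 ∣ orderOf n := by
  have h1 : ∀ k : ℕ, n ^ k * y * (n ^ k)⁻¹ = y ^ 2 ^ k := by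
    intro k
    induction k with
    | zero => simp
    | succ k ih =>
      have h2 : n * y * n⁻¹ = y ^ 2 := by rw [h]; group
      have h3 : n ^ (k + 1) * y * (n ^ (k + 1))⁻¹ = n ^ k * (n * y * n⁻¹) * (n ^ k)⁻¹ := by
        rw [pow_succ]; group
      rw [h3, h2, ← conj_pow, ih, ← pow_mul, pow_succ]
  have h2 := h1 (orderOf n)
  rw [pow_orderOf_eq_one, one_mul, inv_one, mul_one] at h2
  have h3 : y ^ 1 = y ^ 2 ^ orderOf n := by rw [pow_one]; exact h2
  rw [pow_inj_mod, hy] at h3
  generalize orderOf n = k at h3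
  have h4 : ∀ j : ℕ, 2 ^ (4 * j) % 5 = 1 := by
    intro j
    induction j with
    | zero => norm_num
    | succ j ih => rw [show 4 * (j + 1) = 4 * j + 4 from rfl, pow_add]; omega
  have h5 : 2 ^ k = 2 ^ (4 * (k / 4)) * 2 ^ (k % 4) := by
    rw [← pow_add, Nat.div_add_mod]
  have h6 := h4 (k / 4)
  have h7 : k % 4 < 4 := Nat.mod_lt _ (by norm_num)
  rw [h5] at h3
  have h8 : k % 4 = 0 := by
    generalize k % 4 = m at *
    interval_cases m <;> omega
  exact Nat.dvd_of_mod_eq_zero h8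

/-- **Frattini.** -/
theorem eq_top (I5 : Iso G 5) (I7 : Iso G 7) (S : Subgroup G) [S.Normal] {Γ : Type*} [Group Γ]
    (e : S ≃* Γ) {x t : Γ} (hx : orderOf x = 5) (ht : t * x = x ^ 2 * t)
    (d7 : 7 ∣ Nat.card Γ) (n5 : ¬ 5 ^ 2 ∣ Nat.card Γ) (n7 : ¬ 7 ^ 2 ∣ Nat.card Γ) : S = ⊤ := by
  have p5 : Nat.Prime 5 := by norm_num
  have p7 : Nat.Prime 7 := by norm_num
  have f7 : Fact (Nat.Prime 7) := ⟨p7⟩
  have hc : Nat.card S = Nat.card Γ := Nat.card_congr e.toEquiv
  rw [← hc] at d7 n5 n7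
  obtain ⟨y, hy⟩ := exists_prime_orderOf_dvd_card' (G := S) 7 d7
  have o7 : orderOf (y : G) = 7 := by rw [Subgroup.orderOf_coe, hy]
  let x' : G := (e.symm x : S)
  let t' : G := (e.symm t : S)
  have o5 : orderOf x' = 5 := by
    change orderOf ((e.symm x : S) : G) = 5
    rw [Subgroup.orderOf_coe, MulEquiv.orderOf_eq, hx]
  have ht' : t' * x' = x' ^ 2 * t' := by
    have h1 : e.symm t * e.symm x = (e.symm x) ^ 2 * e.symm t := by
      rw [← map_mul, ht, map_mul, map_pow]
    exact congrArg Subtype.val h1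
  obtain ⟨a, m, hm, h1⟩ := IndexFrat.card_normalizer p5 o5 (fun g hg => I5.pow_of_comm p5 o5 hg)
  obtain ⟨c, k, hk, h2⟩ := IndexFrat.card_normalizer p7 o7 (fun g hg => I7.pow_of_comm p7 o7 hg)
  have e1 := IndexFrat.index_mul p5 S (e.symm x).2 o5 n5
  have e2 := IndexFrat.index_mul p7 S y.2 o7 n7
  rw [h1] at e1
  rw [h2] at e2
  have hN : t' ∈ normalizer (zpowers x' : Set G) := by
    apply mem_norm
    rw [ht', mul_inv_cancel_right]
    exact pow_mem (mem_zpowers x') 2
  have h4 : 4 ∣ Nat.card (normalizer (zpowers x' : Set G) ⊓ S : Subgroup G) := by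
    have h5 : orderOf (⟨t', mem_inf.2 ⟨hN, (e.symm t).2⟩⟩ : (normalizer (zpowers x' : Set G) ⊓ S : Subgroup G)) =
        orderOf t' := Subgroup.orderOf_mk _ _
    exact (four_dvd o5 ht').trans (h5 ▸ orderOf_dvd_natCard _)
  have d1 : S.index ∣ 5 ^ a := by
    obtain ⟨s, hs⟩ := h4
    rw [hs] at e1
    have h5 : 4 * S.index ∣ 4 * 5 ^ a := by
      have h6 : 4 * S.index ∣ 5 ^ a * m := ⟨s, by rw [← e1]; ring⟩
      have h7 : 5 ^ a * m ∣ 5 ^ a * 4 := Nat.mul_dvd_mul_left _ hm
      have h9 : 4 * 5 ^ a = 5 ^ a * 4 := by ring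
      rw [h9]
      exact h6.trans h7
    exact Nat.dvd_of_mul_dvd_mul_left (by norm_num) h5
  have d2 : S.index ∣ 7 ^ c * 6 := (Dvd.intro _ e2).trans (Nat.mul_dvd_mul_left _ hk)
  have hcop : Nat.Coprime (5 ^ a) (7 ^ c * 6) :=
    Nat.Coprime.mul_right (Nat.Coprime.pow _ _ (by norm_num)) (Nat.Coprime.pow_left _ (by norm_num))
  have h5 : S.index = 1 := Nat.Coprime.eq_one_of_dvd (hcop.coprime_dvd_left d1) d2
  exact Subgroup.index_eq_one.1 h5

end frattini

section embed

/-- the image in the automorphism group of the socle -/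
theorem exists_subgroup {G : Type*} [Group G] (S : Subgroup G) [S.Normal]
    (hC : centralizer (S : Set G) = ⊥) {Γ : Type*} [Group Γ] (e : S ≃* Γ) :
    ∃ H : Subgroup (MulAut Γ), Inn Γ ≤ H ∧ Nonempty (G ≃* H) := by
  let ψ : G →* MulAut Γ := (MulAut.congr e).toMonoidHom.comp (MulAut.conjNormal (H := S))
  have hψ : Function.Injective ψ := by
    rw [injective_iff_map_eq_one]
    intro g hg
    have h1 : MulAut.conjNormal (H := S) g = 1 := by
      apply (MulAut.congr e).injective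
      rw [map_one]
      exact hg
    have h2 : g ∈ centralizer (S : Set G) := by
      rw [Subgroup.mem_centralizer_iff]
      intro s hs
      have h3 := congrArg (fun α : MulAut S => ((α ⟨s, hs⟩ : S) : G)) h1
      simp only [MulAut.conjNormal_apply, MulAut.one_apply] at h3
      rw [mul_inv_eq_iff_eq_mul] at h3
      exact h3.symm
    rw [hC] at h2
    exact Subgroup.mem_bot.1 h2
  refine ⟨ψ.range, ?_, ⟨MonoidHom.ofInjective hψ⟩⟩
  rintro _ ⟨t, rfl⟩
  refine ⟨((e.symm t : S) : G), ?_⟩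
  apply MulEquiv.ext
  intro x
  change e (MulAut.conjNormal ((e.symm t : S) : G) (e.symm x)) = t * x * t⁻¹
  have h1 : MulAut.conjNormal ((e.symm t : S) : G) (e.symm x) = e.symm t * e.symm x * (e.symm t)⁻¹ := by
    apply Subtype.ext
    rw [MulAut.conjNormal_apply]
    rfl
  rw [h1, map_mul, map_mul, map_inv, MulEquiv.apply_symm_apply, MulEquiv.apply_symm_apply]

theorem no_of_equiv {G : Type*} [Group G] {M : Type*} [Group M] {H : Subgroup M} (e : G ≃* H) {n : ℕ}
    (h : ∀ g : G, orderOf g ≠ n) : ∀ g ∈ H, orderOf g ≠ n := by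
  intro g hg ho
  apply h (e.symm ⟨g, hg⟩)
  rw [MulEquiv.orderOf_eq, Subgroup.orderOf_mk, ho]

end embed

/-! ### The list -/

/-- the field with 49 elements -/
abbrev F49 : Type := GaloisField 7 2

noncomputable instance fintype49 : Fintype F49 := Fintype.ofFinite _

theorem card49 : Fintype.card F49 = 49 := by
  rw [← Nat.card_eq_fintype_card, GaloisField.card 7 2 (by norm_num)]
  norm_num

noncomputable def phi : F49 ≃+* F49 := Classical.choose (LTwo.exists_fr card49)

theorem phi_spec : ∀ x : F49, phi x = x ^ 7 := Classical.choose_spec (LTwo.exists_fr card49)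

theorem exists_A : ∃ A : Matrix.GeneralLinearGroup (Fin 2) F49, LTwo.chi A = -1 :=
  (LTwo.exists_ten card49).imp fun _ h => h.1

noncomputable def A0 : Matrix.GeneralLinearGroup (Fin 2) F49 := Classical.choose exists_A

theorem A0_spec : LTwo.chi A0 = -1 := Classical.choose_spec exists_A

/-- `M(49)` -/
noncomputable abbrev K49 : Subgroup (MulAut (LTwo.TT F49)) := LTwo.KK card49 phi_spec A0 A0_spec

/-- the five groups -/
def HH : Fin 5 → Type
  | 0 => alternatingGroup (Fin 7)
  | 1 => LTwo.TT F49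
  | 2 => K49
  | 3 => LThree.K
  | 4 => UFour.U4

@[reducible] noncomputable def grp : ∀ i, Group (HH i)
  | 0 => (inferInstance : Group (alternatingGroup (Fin 7)))
  | 1 => (inferInstance : Group (LTwo.TT F49))
  | 2 => (inferInstance : Group K49)
  | 3 => (inferInstance : Group LThree.K)
  | 4 => (inferInstance : Group UFour.U4)

theorem fin : ∀ i, Finite (HH i)
  | 0 => (inferInstance : Finite (alternatingGroup (Fin 7)))
  | 1 => LTwo.finite_T card49
  | 2 => have := LTwo.finite_aut card49; (inferInstance : Finite K49)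
  | 3 => have := LThree.finite_aut; (inferInstance : Finite LThree.K)
  | 4 => UFour.finite_U

/-- the orders -/
def ord : Fin 5 → ℕ
  | 0 => 2520
  | 1 => 58800
  | 2 => 117600
  | 3 => 40320
  | 4 => 3265920

theorem card_alt : Nat.card (alternatingGroup (Fin 7)) = 2520 := by
  rw [nat_card_alternatingGroup, Nat.card_eq_fintype_card, Fintype.card_fin]
  rfl

theorem card_HH : ∀ i, Nat.card (HH i) = ord i
  | 0 => card_alt
  | 1 => LTwo.card_T card49
  | 2 => LTwo.card_KK card49 phi_spec A0_spec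
  | 3 => LThree.card_K
  | 4 => UFour.card_U

theorem good_HH : ∀ i, @Good (HH i) (grp i)
  | 0 => good_alt
  | 1 => LTwo.good_T card49
  | 2 => LTwo.good_KK card49 phi_spec A0_spec
  | 3 => LThree.good_K
  | 4 => UFour.good_U

theorem ord_inj : ∀ i j : Fin 5, ord i = ord j → i = j := by decide

/-- **The classification.** -/
theorem main {G : Type} [Group G] [Finite G] (hG : Good G) :
    Nonempty (G ≃* alternatingGroup (Fin 7)) ∨ Nonempty (G ≃* LTwo.TT F49) ∨ Nonempty (G ≃* K49) ∨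
      Nonempty (G ≃* LThree.K) ∨ Nonempty (G ≃* UFour.U4) := by
  have I5 : Iso G 5 := iso_of_good hG (Or.inl rfl)
  have I7 : Iso G 7 := iso_of_good hG (Or.inr rfl)
  obtain ⟨S, hSn, hC, hS⟩ := almost_simple hG F49 card49
  rcases hS with ⟨⟨e⟩⟩ | ⟨⟨e⟩⟩ | ⟨⟨e⟩⟩ | ⟨⟨e⟩⟩
  · left
    have hc : Nat.card (alternatingGroup (Fin 7)) = 2520 := card_alt
    have htop := eq_top I5 I7 S e (x := SevenPerm.z5) (t := SevenPerm.n4) SevenPerm.ord_z5
      SevenPerm.rel_n4 (by rw [hc]; norm_num) (by rw [hc]; norm_num) (by rw [hc]; norm_num)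
    exact ⟨((MulEquiv.subgroupCongr htop).trans Subgroup.topEquiv).symm.trans e⟩
  · obtain ⟨H, hI, ⟨f⟩⟩ := exists_subgroup S hC e
    rcases LTwo.eq_cases card49 phi_spec A0_spec hI (no_of_equiv f hG.no10) (no_of_equiv f hG.no14) with h | h
    · right; left
      rw [h] at f
      exact ⟨f.trans (MonoidHom.ofInjective (LTwo.conj_inj card49)).symm⟩
    · right; right; left
      rw [h] at f
      exact ⟨f⟩
  · obtain ⟨H, hI, ⟨f⟩⟩ := exists_subgroup S hC e
    right; right; right; left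
    have h6 : ∃ g ∈ H, orderOf g = 2 * 3 := by
      obtain ⟨g, hg⟩ := hG.six
      exact ⟨f g, (f g).2, by rw [Subgroup.orderOf_coe, MulEquiv.orderOf_eq, hg]⟩
    have h := LThree.eq_K hI (no_of_equiv f hG.no10) (no_of_equiv f hG.no14) (no_of_equiv f hG.no15) h6
    rw [h] at f
    exact ⟨f⟩
  · right; right; right; right
    have hc : Nat.card UFour.U4 = 3265920 := UFour.card_U
    have htop := eq_top I5 I7 S e (x := UFour.pr UFour.gx) (t := UFour.pr UFour.gt) UFour.order_x
      (by rw [← map_mul, UFour.gt_conj, map_mul, map_pow]) (by rw [hc]; norm_num) (by rw [hc]; norm_num)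
      (by rw [hc]; norm_num)
    exact ⟨((MulEquiv.subgroupCongr htop).trans Subgroup.topEquiv).symm.trans e⟩

end Cfsg.Agent.H422.Final
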