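import Cfsg.Agent.H363.AltPrimes
import Cfsg.Agent.H422.ElimAlt

/-!
# The prime graph `2 - 3`, `5`, `7`

`Good G`: the prime divisors of `|G|` are `2, 3, 5, 7`, there are elements of order `6` and no
elements of order `10, 14, 15, 21, 35`. `good_alt`: the alternating group of degree seven.
-/

set_option autoImplicit false

namespace Cfsg.Agent.H422.Graph

open Cfsg.Agent.H363.AltPrimes Equiv

/-- The prime graph of `A₇`. -/
structure Good (G : Type*) [Group G] : Prop where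
  pf : (Nat.card G).primeFactors = {2, 3, 5, 7}
  six : ∃ g : G, orderOf g = 2 * 3
  no10 : ∀ g : G, orderOf g ≠ 2 * 5
  no14 : ∀ g : G, orderOf g ≠ 2 * 7
  no15 : ∀ g : G, orderOf g ≠ 3 * 5
  no21 : ∀ g : G, orderOf g ≠ 3 * 7
  no35 : ∀ g : G, orderOf g ≠ 5 * 7

theorem mem_pf {n : ℕ} (h : n.primeFactors = {2, 3, 5, 7}) {p : ℕ} (hp : p.Prime) :
    p ∣ n ↔ p = 2 ∨ p = 3 ∨ p = 5 ∨ p = 7 := by
  have hn : n ≠ 0 := by
    rintro rfl
    rw [Nat.primeFactors_zero] at h
    exact absurd (h ▸ Finset.mem_insert_self 2 _ : (2 : ℕ) ∈ (∅ : Finset ℕ)) (Finset.notMem_empty 2)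
  have h1 : p ∈ n.primeFactors ↔ p ∈ ({2, 3, 5, 7} : Finset ℕ) := by rw [h]
  rw [Nat.mem_primeFactors] at h1
  simp only [Finset.mem_insert, Finset.mem_singleton] at h1
  rw [← h1]
  exact ⟨fun h2 => ⟨hp, h2, hn⟩, fun h2 => h2.2.1⟩

section
variable {G H : Type*} [Group G] [Group H]

/-- pairs of adjacent primes in a good group -/
theorem Good.adj [Finite G] (h : Good G) {p q : ℕ} (hp : p.Prime) (hq : q.Prime) (hpq : p ≠ q) :
    (∃ g : G, orderOf g = p * q) ↔ (p = 2 ∧ q = 3) ∨ (p = 3 ∧ q = 2) := by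
  constructor
  · rintro ⟨g, hg⟩
    have hd : p * q ∣ Nat.card G := hg ▸ orderOf_dvd_natCard g
    have h1 := (mem_pf h.pf hp).1 ((dvd_mul_right p q).trans hd)
    have h2 := (mem_pf h.pf hq).1 ((dvd_mul_left q p).trans hd)
    have e10 := h.no10 g
    have e14 := h.no14 g
    have e15 := h.no15 g
    have e21 := h.no21 g
    have e35 := h.no35 g
    rw [hg] at e10 e14 e15 e21 e35
    rcases h1 with rfl | rfl | rfl | rfl <;> rcases h2 with rfl | rfl | rfl | rfl <;>
      first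
      | exact absurd rfl hpq
      | exact Or.inl ⟨rfl, rfl⟩
      | exact Or.inr ⟨rfl, rfl⟩
      | omega
  · rintro (⟨rfl, rfl⟩ | ⟨rfl, rfl⟩)
    · exact h.six
    · obtain ⟨g, hg⟩ := h.six
      exact ⟨g, by rw [hg]⟩

/-- two good groups have the same prime graph -/
theorem Good.same [Finite G] [Finite H] (hG : Good G) (hH : Good H) :
    (∀ p : ℕ, p.Prime → (p ∣ Nat.card G ↔ p ∣ Nat.card H)) ∧
      (∀ p q : ℕ, p.Prime → q.Prime → p ≠ q →
        ((∃ g : G, orderOf g = p * q) ↔ (∃ g : H, orderOf g = p * q))) :=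
  ⟨fun _ hp => (mem_pf hG.pf hp).trans (mem_pf hH.pf hp).symm,
    fun _ _ hp hq hpq => (hG.adj hp hq hpq).trans (hH.adj hp hq hpq).symm⟩

/-- a group with the prime graph of a good group is good -/
theorem Good.of_same [Finite G] [Finite H] (hG : Good G)
    (h : (∀ p : ℕ, p.Prime → (p ∣ Nat.card G ↔ p ∣ Nat.card H)) ∧
      (∀ p q : ℕ, p.Prime → q.Prime → p ≠ q →
        ((∃ g : G, orderOf g = p * q) ↔ (∃ g : H, orderOf g = p * q)))) : Good H := by
  refine ⟨?_, (h.2 2 3 (by norm_num) (by norm_num) (by norm_num)).1 hG.six, ?_, ?_, ?_, ?_, ?_⟩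
  · rw [← hG.pf]
    ext p
    rw [Nat.mem_primeFactors, Nat.mem_primeFactors]
    constructor
    · rintro ⟨h1, h2, h3⟩
      exact ⟨h1, (h.1 p h1).2 h2, Nat.card_pos.ne'⟩
    · rintro ⟨h1, h2, h3⟩
      exact ⟨h1, (h.1 p h1).1 h2, Nat.card_pos.ne'⟩
  · intro g hg
    obtain ⟨x, hx⟩ := (h.2 2 5 (by norm_num) (by norm_num) (by norm_num)).2 ⟨g, hg⟩
    exact hG.no10 x hx
  · intro g hg
    obtain ⟨x, hx⟩ := (h.2 2 7 (by norm_num) (by norm_num) (by norm_num)).2 ⟨g, hg⟩
    exact hG.no14 x hx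
  · intro g hg
    obtain ⟨x, hx⟩ := (h.2 3 5 (by norm_num) (by norm_num) (by norm_num)).2 ⟨g, hg⟩
    exact hG.no15 x hx
  · intro g hg
    obtain ⟨x, hx⟩ := (h.2 3 7 (by norm_num) (by norm_num) (by norm_num)).2 ⟨g, hg⟩
    exact hG.no21 x hx
  · intro g hg
    obtain ⟨x, hx⟩ := (h.2 5 7 (by norm_num) (by norm_num) (by norm_num)).2 ⟨g, hg⟩
    exact hG.no35 x hx

/-- exponents which exclude the orders `10, 14, 15, 21, 35` -/
def Ok (k : ℕ) : Prop := 0 < k ∧ ¬ 10 ∣ k ∧ ¬ 14 ∣ k ∧ ¬ 15 ∣ k ∧ ¬ 21 ∣ k ∧ ¬ 35 ∣ k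

instance decOk (k : ℕ) : Decidable (Ok k) := by unfold Ok; infer_instance

theorem good_of_pow (hpf : (Nat.card G).primeFactors = {2, 3, 5, 7})
    (h6 : ∃ g : G, orderOf g = 2 * 3) (h : ∀ g : G, ∃ k, Ok k ∧ g ^ k = 1) : Good G := by
  have key : ∀ g : G, ¬ 10 ∣ orderOf g ∧ ¬ 14 ∣ orderOf g ∧ ¬ 15 ∣ orderOf g ∧ ¬ 21 ∣ orderOf g ∧
      ¬ 35 ∣ orderOf g := by
    intro g
    obtain ⟨k, ⟨-, h1, h2, h3, h4, h5⟩, hk⟩ := h g
    have hd := orderOf_dvd_of_pow_eq_one hk
    exact ⟨fun h => h1 (h.trans hd), fun h => h2 (h.trans hd), fun h => h3 (h.trans hd),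
      fun h => h4 (h.trans hd), fun h => h5 (h.trans hd)⟩
  refine ⟨hpf, h6, ?_, ?_, ?_, ?_, ?_⟩ <;> intro g hg <;> have h1 := key g <;> rw [hg] at h1 <;>
    revert h1 <;> decide

theorem Good.of_equiv (e : G ≃* H) (h : Good G) : Good H := by
  refine ⟨?_, ?_, ?_, ?_, ?_, ?_, ?_⟩
  · rw [← h.pf, Nat.card_congr e.toEquiv]
  · obtain ⟨g, hg⟩ := h.six
    exact ⟨e g, by rw [MulEquiv.orderOf_eq]; exact hg⟩
  · intro g hg
    exact h.no10 (e.symm g) (by rw [MulEquiv.orderOf_eq]; exact hg)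
  · intro g hg
    exact h.no14 (e.symm g) (by rw [MulEquiv.orderOf_eq]; exact hg)
  · intro g hg
    exact h.no15 (e.symm g) (by rw [MulEquiv.orderOf_eq]; exact hg)
  · intro g hg
    exact h.no21 (e.symm g) (by rw [MulEquiv.orderOf_eq]; exact hg)
  · intro g hg
    exact h.no35 (e.symm g) (by rw [MulEquiv.orderOf_eq]; exact hg)

end

section alt

theorem perm_no {p s : ℕ} (hp : p.Prime) (hs : s.Prime) (hps : p ≠ s) (h1 : 7 < p + s)
    (h2 : 7 < p * s) (σ : Perm (Fin 7)) : orderOf σ ≠ p * s := by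
  intro hσ
  obtain ⟨c, hc, hpc⟩ := exists_dvd_cycleType σ hp (by rw [hσ]; exact dvd_mul_right _ _)
  obtain ⟨d, hd, hsd⟩ := exists_dvd_cycleType σ hs (by rw [hσ]; exact dvd_mul_left _ _)
  have hsum : σ.cycleType.sum ≤ 7 := by
    rw [Equiv.Perm.sum_cycleType]
    simpa using σ.support.card_le_univ
  have hcpos : 0 < c := lt_of_lt_of_le two_pos (Equiv.Perm.two_le_of_mem_cycleType hc)
  have hdpos : 0 < d := lt_of_lt_of_le two_pos (Equiv.Perm.two_le_of_mem_cycleType hd)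
  have hpc' := Nat.le_of_dvd hcpos hpc
  have hsd' := Nat.le_of_dvd hdpos hsd
  obtain ⟨t, ht⟩ := Multiset.exists_cons_of_mem hc
  by_cases hcd : c = d
  · subst hcd
    have h3 : p * s ∣ c := (Nat.Coprime.mul_dvd_of_dvd_of_dvd
      ((Nat.coprime_primes hp hs).mpr hps) hpc hsd)
    have h4 := Nat.le_of_dvd hcpos h3
    have h5 : c ≤ 7 := by
      rw [ht, Multiset.sum_cons] at hsum
      omega
    omega
  · have hd' : d ∈ t := by
      rw [ht] at hd
      rcases Multiset.mem_cons.mp hd with h | h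
      · exact absurd h.symm hcd
      · exact h
    obtain ⟨u, hu⟩ := Multiset.exists_cons_of_mem hd'
    rw [ht, hu, Multiset.sum_cons, Multiset.sum_cons] at hsum
    omega

theorem perm_ten (σ : Perm (Fin 7)) (h : Perm.sign σ = 1) : orderOf σ ≠ 2 * 5 := by
  intro hσ
  obtain ⟨c, hc, hpc⟩ := exists_dvd_cycleType σ (p := 5) (by norm_num) (by rw [hσ]; norm_num)
  obtain ⟨d, hd, hsd⟩ := exists_dvd_cycleType σ (p := 2) (by norm_num) (by rw [hσ]; norm_num)
  have hsum : σ.cycleType.sum ≤ 7 := by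
    rw [Equiv.Perm.sum_cycleType]
    simpa using σ.support.card_le_univ
  have hcpos : 0 < c := lt_of_lt_of_le two_pos (Equiv.Perm.two_le_of_mem_cycleType hc)
  have hdpos : 0 < d := lt_of_lt_of_le two_pos (Equiv.Perm.two_le_of_mem_cycleType hd)
  obtain ⟨t, ht⟩ := Multiset.exists_cons_of_mem hc
  have hc7 : c ≤ 7 := by
    rw [ht, Multiset.sum_cons] at hsum
    omega
  have hc5 : c = 5 := by omega
  subst hc5
  have hne : (5 : ℕ) ≠ d := by rintro rfl; omega
  have hd' : d ∈ t := by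
    rw [ht] at hd
    rcases Multiset.mem_cons.mp hd with h | h
    · exact absurd h.symm hne
    · exact h
  obtain ⟨u, hu⟩ := Multiset.exists_cons_of_mem hd'
  rw [ht, hu, Multiset.sum_cons, Multiset.sum_cons] at hsum
  have hd2 : d = 2 := by
    have := Nat.le_of_dvd hdpos hsd
    omega
  subst hd2
  have hu0 : u = 0 := by
    rw [Multiset.eq_zero_iff_forall_notMem]
    intro x hx
    have h1 : 2 ≤ x := Equiv.Perm.two_le_of_mem_cycleType (σ := σ) (by
      rw [ht, hu]; exact Multiset.mem_cons_of_mem (Multiset.mem_cons_of_mem hx))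
    have h2 : x ≤ u.sum := Multiset.single_le_sum (fun _ _ => Nat.zero_le _) x hx
    omega
  have h3 := Equiv.Perm.sign_of_cycleType σ
  rw [ht, hu, hu0, h] at h3
  revert h3
  decide

def six7 : Perm (Fin 7) := swap 0 1 * swap 1 2 * (swap 3 4 * swap 5 6)

theorem good_alt : Good (alternatingGroup (Fin 7)) := by
  have hc : Nat.card (alternatingGroup (Fin 7)) = 2520 := by
    rw [nat_card_alternatingGroup, Nat.card_eq_fintype_card, Fintype.card_fin]
    rfl
  have key : ∀ {p s : ℕ}, p.Prime → s.Prime → p ≠ s → 7 < p + s → 7 < p * s →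
      ∀ g : alternatingGroup (Fin 7), orderOf g ≠ p * s := by
    intro p s hp hs hps h1 h2 g
    rw [← Subgroup.orderOf_coe]
    exact perm_no hp hs hps h1 h2 _
  refine ⟨?_, ?_, ?_, ?_, ?_, ?_, ?_⟩
  · rw [hc]
    decide +kernel
  · refine ⟨⟨six7, by rw [Perm.mem_alternatingGroup]; decide +kernel⟩, ?_⟩
    rw [← Subgroup.orderOf_coe]
    exact Cfsg.Agent.H422.Elim.orderOf_pq (g := six7) (by norm_num) (by norm_num)
      (by decide +kernel) (by decide +kernel) (by decide +kernel)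
  · intro g
    rw [← Subgroup.orderOf_coe]
    exact perm_ten _ (Perm.mem_alternatingGroup.1 g.2)
  · exact key (by norm_num) (by norm_num) (by norm_num) (by norm_num) (by norm_num)
  · exact key (by norm_num) (by norm_num) (by norm_num) (by norm_num) (by norm_num)
  · exact key (by norm_num) (by norm_num) (by norm_num) (by norm_num) (by norm_num)
  · exact key (by norm_num) (by norm_num) (by norm_num) (by norm_num) (by norm_num)

end alt

end Cfsg.Agent.H422.Graph
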