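import Cfsg.Agent.S0205
import Cfsg.Agent.S0336
import Cfsg.Agent.S0144
import Cfsg.Agent.H366.Coclique
import Cfsg.Agent.H366.FrobTwo
import Cfsg.Agent.H366.AlmostSimple
import Cfsg.Agent.H366.ConjMod
import Cfsg.Agent.H310.PerfTools
import Cfsg.Agent.H422.Graph

/-!
# Isolated primes

`Iso G r`: all elements of order divisible by `r` have order a power of `r`.
-/

set_option autoImplicit false

open Subgroup

namespace Cfsg.Agent.H422.Iso

open Cfsg.Agent Cfsg.Agent.H366 Cfsg.Agent.H422.Graph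

universe u

/-- the prime `r` is isolated in the prime graph of `G` -/
def Iso (G : Type*) [Group G] (r : ℕ) : Prop := ∀ g : G, r ∣ orderOf g → ∃ k : ℕ, orderOf g = r ^ k

section
variable {G : Type*} [Group G]

theorem Iso.of_injective {H : Type*} [Group H] {r : ℕ} (h : Iso G r) (f : H →* G)
    (hf : Function.Injective f) : Iso H r := by
  intro g hg
  rw [← orderOf_injective f hf] at hg ⊢
  exact h _ hg

theorem Iso.subgroup {r : ℕ} (h : Iso G r) (H : Subgroup G) : Iso H r :=
  h.of_injective H.subtype H.subtype_injective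

theorem Iso.quotient {r : ℕ} (hr : r.Prime) (h : Iso G r) (N : Subgroup G) [N.Normal] : Iso (G ⧸ N) r := by
  intro q hq
  obtain ⟨g, rfl⟩ := QuotientGroup.mk_surjective q
  have h1 : orderOf (QuotientGroup.mk g : G ⧸ N) ∣ orderOf g := orderOf_map_dvd (QuotientGroup.mk' N) g
  obtain ⟨k, hk⟩ := h g (hq.trans h1)
  rw [hk] at h1
  obtain ⟨j, -, hj⟩ := (Nat.dvd_prime_pow hr).1 h1
  exact ⟨j, hj⟩

theorem Iso.comm_false {r q : ℕ} (hr : r.Prime) (hq : q.Prime) (hrq : r ≠ q) (h : Iso G r) {x y : G}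
    (hx : orderOf x = r) (hy : orderOf y = q) (hc : x * y = y * x) : False := by
  have h1 : orderOf (x * y) = r * q := by
    rw [(show Commute x y from hc).orderOf_mul_eq_mul_orderOf_of_coprime (by
      rw [hx, hy]; exact (Nat.coprime_primes hr hq).2 hrq), hx, hy]
  obtain ⟨k, hk⟩ := h (x * y) (by rw [h1]; exact dvd_mul_right _ _)
  rw [h1] at hk
  have h2 : q ∣ r ^ k := by rw [← hk]; exact dvd_mul_left _ _
  exact hrq ((Nat.prime_dvd_prime_iff_eq hq hr).1 (hq.dvd_of_dvd_pow h2)).symm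

/-- an element commuting with an element of order `r` is an `r`-element -/
theorem Iso.pow_of_comm [Finite G] {r : ℕ} (hr : r.Prime) (h : Iso G r) {y g : G} (hy : orderOf y = r)
    (hc : g * y = y * g) : ∃ k : ℕ, g ^ r ^ k = 1 := by
  by_cases h1 : ∃ q : ℕ, q.Prime ∧ q ≠ r ∧ q ∣ orderOf g
  · exfalso
    obtain ⟨q, hq, hqr, hd⟩ := h1
    have hg0 : orderOf g ≠ 0 := (orderOf_pos g).ne'
    obtain ⟨m, hm⟩ := hd
    have hm0 : m ≠ 0 := by rintro rfl; rw [mul_zero] at hm; exact hg0 hm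
    have h2 : orderOf (g ^ m) = q := by
      rw [orderOf_pow_of_dvd hm0 (by rw [hm]; exact dvd_mul_left _ _), hm]
      exact Nat.mul_div_cancel _ (Nat.pos_of_ne_zero hm0)
    have h3 : Commute (g ^ m) y := (show Commute g y from hc).pow_left m
    exact h.comm_false hr hq hqr.symm hy h2 h3.eq.symm
  · push Not at h1
    refine ⟨(orderOf g).primeFactorsList.length, ?_⟩
    rw [← orderOf_dvd_iff_pow_eq_one]
    have := Nat.eq_prime_pow_of_unique_prime_dvd (n := orderOf g) (p := r) (orderOf_pos g).ne'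
      (fun {d} hd hdv => by
        by_contra hne
        exact h1 d hd hne hdv)
    exact this.dvd

/-- a good group has the isolated primes `5`, `7` -/
theorem iso_of_good [Finite G] (h : Good G) {r : ℕ} (hr : r = 5 ∨ r = 7) : Iso G r := by
  have hrp : r.Prime := by rcases hr with rfl | rfl <;> norm_num
  intro g hg
  by_cases h1 : ∃ q : ℕ, q.Prime ∧ q ≠ r ∧ q ∣ orderOf g
  · exfalso
    obtain ⟨q, hq, hqr, hd⟩ := h1
    have h2 : r * q ∣ orderOf g :=
      Nat.Coprime.mul_dvd_of_dvd_of_dvd ((Nat.coprime_primes hrp hq).2 hqr.symm) hg hd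
    obtain ⟨m, hm⟩ := h2
    have hg0 : orderOf g ≠ 0 := (orderOf_pos g).ne'
    have hm0 : m ≠ 0 := by rintro rfl; rw [mul_zero] at hm; exact hg0 hm
    have h3 : orderOf (g ^ m) = r * q := by
      rw [orderOf_pow_of_dvd hm0 (by rw [hm]; exact dvd_mul_left _ _), hm]
      exact Nat.mul_div_cancel _ (Nat.pos_of_ne_zero hm0)
    rcases (h.adj hrp hq hqr.symm).1 ⟨_, h3⟩ with ⟨rfl, -⟩ | ⟨rfl, -⟩
    · rcases hr with h | h <;> exact absurd h (by norm_num)
    · rcases hr with h | h <;> exact absurd h (by norm_num)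
  · push Not at h1
    exact ⟨_, Nat.eq_prime_pow_of_unique_prime_dvd (n := orderOf g) (p := r) (orderOf_pos g).ne'
      (fun {d} hd hdv => by
        by_contra hne
        exact h1 d hd hne hdv)⟩

/-- an isolated prime at least five, not dividing the order of the solvable radical -/
theorem not_dvd [Finite G] {r : ℕ} (hr : r.Prime) (hr5 : 5 ≤ r) (h : Iso G r) (R : Subgroup G) [R.Normal]
    (E : Subgroup (G ⧸ R)) (hE : Nat.card E = 4) (hE2 : ∀ x ∈ E, x * x = 1)
    {s : ℕ} (hs : s.Prime) (hs2 : s ≠ 2) (hI : Iso G s)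
    (hq : ∃ q : G ⧸ R, orderOf q = s) : ¬ r ∣ Nat.card R := by
  intro hd
  obtain ⟨z, hz, -, hcov⟩ := FrobTwo.exists_central hr (by omega)
    (fun g hg => by
      obtain ⟨k, hk⟩ := h g (by rw [hg]; exact dvd_mul_left _ _)
      have h2 : 2 ∣ r ^ k := by rw [← hk, hg]; exact dvd_mul_right _ _
      have h3 := (Nat.prime_dvd_prime_iff_eq Nat.prime_two hr).1 (Nat.prime_two.dvd_of_dvd_pow h2)
      omega) R hd E hE hE2
  obtain ⟨q, hq⟩ := hq
  obtain ⟨c, hc, hcz⟩ := hcov q
  have h1 : s ∣ orderOf c := by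
    rw [← hq, ← hc]
    exact orderOf_map_dvd (QuotientGroup.mk' R) c
  obtain ⟨m, hm⟩ := h1
  have hc0 : orderOf c ≠ 0 := (orderOf_pos c).ne'
  have hm0 : m ≠ 0 := by rintro rfl; rw [mul_zero] at hm; exact hc0 hm
  have h3 : orderOf (c ^ m) = s := by
    rw [orderOf_pow_of_dvd hm0 (by rw [hm]; exact dvd_mul_left _ _), hm]
    exact Nat.mul_div_cancel _ (Nat.pos_of_ne_zero hm0)
  exact hI.comm_false hs Nat.prime_two hs2 h3 hz ((show Commute c z from hcz).pow_left m).eq

/-- an isolated prime divides the order of a nonsolvable normal subgroup -/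
theorem dvd_card [Finite G] {r : ℕ} (hr : r.Prime) (h : Iso G r) (S : Subgroup G) [S.Normal]
    (hS : ¬ Group.IsSolvable S) (hd : r ∣ Nat.card G) : r ∣ Nat.card S := by
  by_contra hS5
  have : Fact r.Prime := ⟨hr⟩
  obtain ⟨y, hy⟩ := exists_prime_orderOf_dvd_card' (G := G) r hd
  have hnil : Group.IsNilpotent S := by
    refine Coclique.nilpotent_of_fpf S hr (by rw [← hy, pow_orderOf_eq_one]) ?_
    intro m hm hc
    obtain ⟨k, hk⟩ := h.pow_of_comm hr hy hc.symm
    have h1 : orderOf m ∣ Nat.card S := by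
      have := orderOf_dvd_natCard (⟨m, hm⟩ : S)
      rwa [Subgroup.orderOf_mk] at this
    have h2 := orderOf_dvd_of_pow_eq_one hk
    have hcop : (Nat.card S).Coprime (r ^ k) := by
      apply Nat.Coprime.pow_right
      rw [Nat.coprime_comm, Nat.Prime.coprime_iff_not_dvd hr]
      exact hS5
    have h3 := Nat.Coprime.eq_one_of_dvd (hcop.coprime_dvd_left h1) h2
    exact orderOf_eq_one_iff.1 h3
  exact hS inferInstance

end

end Cfsg.Agent.H422.Iso
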