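import Cfsg.Agent.H422.ModBase

/-!
# Two commuting elements of prime order `r` generating a noncyclic group do not act fixed point freely
-/

set_option autoImplicit false

namespace Cfsg.Agent.H422

variable {G V : Type*} [Group G] [AddCommGroup V] [DistribMulAction G V]

theorem eq_zero_of_noncyclic {r : ℕ} (hr : r.Prime) (h : Fpf G V r) (hp : ∀ v : V, r • v = 0 → v = 0)
    {x y : G} (hxy : Commute x y) (hy : orderOf y = r) (hj : ∀ j < r, orderOf (x * y ^ j) = r)
    (v : V) : v = 0 := by
  apply hp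
  have h1 : ∑ j ∈ Finset.range r, ∑ i ∈ Finset.range r, (x * y ^ j) ^ i • v = 0 := by
    refine Finset.sum_eq_zero fun j hj' => ?_
    exact h.sum_eq_zero (hj j (Finset.mem_range.1 hj')) v
  rw [Finset.sum_comm] at h1
  obtain ⟨s, hs⟩ := Nat.exists_eq_succ_of_ne_zero hr.ne_zero
  have h2 : ∀ i ∈ Finset.range s, ∑ j ∈ Finset.range r, (x * y ^ j) ^ (i + 1) • v = 0 := by
    intro i hi
    have hi' : i + 1 < r := by
      rw [Finset.mem_range] at hi
      omega
    have e1 : ∀ j, (x * y ^ j) ^ (i + 1) • v = x ^ (i + 1) • (y ^ (i + 1)) ^ j • v := by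
      intro j
      rw [(hxy.pow_right j).mul_pow, ← pow_mul, ← pow_mul, mul_comm j (i + 1), mul_smul]
    rw [Finset.sum_congr rfl (fun j _ => e1 j), ← Finset.smul_sum]
    have e2 : orderOf (y ^ (i + 1)) = r := by
      rw [Nat.Coprime.orderOf_pow, hy]
      rw [hy]
      exact (Nat.Prime.coprime_iff_not_dvd hr).mpr
        (fun hd => absurd (Nat.le_of_dvd (Nat.succ_pos i) hd) (by omega))
    rw [h.sum_eq_zero e2, smul_zero]
  have h3 : ∑ i ∈ Finset.range r, ∑ j ∈ Finset.range r, (x * y ^ j) ^ i • v =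
      ∑ i ∈ Finset.range s, (∑ j ∈ Finset.range r, (x * y ^ j) ^ (i + 1) • v) +
        ∑ j ∈ Finset.range r, (x * y ^ j) ^ 0 • v := by
    conv_lhs => rw [show Finset.range r = Finset.range (s + 1) by rw [hs]]
    rw [Finset.sum_range_succ']
    simp only [show Finset.range (s + 1) = Finset.range r by rw [hs]]
  rw [h3, Finset.sum_eq_zero h2, zero_add] at h1
  simpa using h1

end Cfsg.Agent.H422
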