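import Cfsg.Agent.H422.AutBase
import Cfsg.Agent.H422.ElimAlt
import Cfsg.Agent.H422.NonCyc
import Cfsg.Agent.H426.SL2Orders
import Cfsg.Agent.H422.Graph

/-!
# `PSL₂(49)` and its automorphisms
-/

set_option autoImplicit false

namespace Cfsg.Agent.H422.LTwo

open Matrix Cfsg.Agent.H422.AutBase
open Cfsg.Agent.ClassicalGeometry.AutPSL.Root
open Cfsg.Agent.ClassicalGeometry.AutPSL.Auto
open Cfsg.Agent.ClassicalGeometry.AutPSL.Main

/-- Every automorphism of a finite field of characteristic `p` is a power of the Frobenius. -/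
theorem exists_frob {F : Type*} [Field F] [Finite F] {p : ℕ} [Fact p.Prime] [CharP F p]
    (σ : F ≃+* F) : ∃ i : ℕ, ∀ a, σ a = a ^ p ^ i := by
  let _ : Algebra (ZMod p) F := ZMod.algebra F p
  have hcomm : ∀ r : ZMod p, σ (algebraMap (ZMod p) F r) = algebraMap (ZMod p) F r := by
    intro r
    obtain ⟨n, rfl⟩ := ZMod.natCast_zmod_surjective r
    rw [map_natCast, map_natCast]
  obtain ⟨i, hi⟩ := (FiniteField.bijective_frobeniusAlgEquivOfAlgebraic_pow (ZMod p) F).2
    (AlgEquiv.ofRingEquiv (f := σ) hcomm)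
  refine ⟨i, fun a => ?_⟩
  have h1 := DFunLike.congr_fun hi a
  have h3 : (AlgEquiv.ofRingEquiv (f := σ) hcomm) a = σ a := rfl
  rw [← h3, ← h1]
  have h5 : ∀ j : ℕ, ((FiniteField.frobeniusAlgEquivOfAlgebraic (ZMod p) F) ^ j) a = a ^ p ^ j := by
    intro j
    induction j with
    | zero => simp
    | succ j ih =>
      rw [pow_succ', AlgEquiv.mul_apply, ih, FiniteField.coe_frobeniusAlgEquivOfAlgebraic]
      simp only [ZMod.card]
      rw [← pow_mul, pow_succ]
  exact h5 i

instance fact7 : Fact (Nat.Prime 7) := ⟨by norm_num⟩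

section

variable {F : Type*} [Field F]

abbrev TT (F : Type*) [Field F] := Matrix.ProjectiveSpecialLinearGroup (Fin 2) F

theorem lift_cj_eq_one {C : GL (Fin 2) F} (h : lift (cj C) = 1) :
    ∃ r : F, scalar (Fin 2) r = (C : Matrix (Fin 2) (Fin 2) F) := by
  have h1 : lift (cj C * fld (1 : F ≃+* F)) = lift (fld (1 : F ≃+* F)) := by
    rw [map_one fld, mul_one, h, map_one]
  exact (injective_aux h1).1

theorem lift_pow (C : GL (Fin 2) F) (n : ℕ) : (lift (cj C)) ^ n = lift (cj (C ^ n)) := by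
  rw [map_pow cj, map_pow lift]

theorem not_scalar {C : GL (Fin 2) F} (h : (C : Matrix (Fin 2) (Fin 2) F) 1 0 ≠ 0) : lift (cj C) ≠ 1 := by
  intro h1
  obtain ⟨r, hr⟩ := lift_cj_eq_one h1
  apply h
  rw [← hr, scalar_apply, diagonal_apply_ne _ (by decide)]

variable [Fintype F]

theorem charP (hF : Fintype.card F = 49) : CharP F 7 :=
  charP_of_card_eq_prime_pow (f := 2) (by rw [hF]; norm_num)

theorem seven (hF : Fintype.card F = 49) : (7 : F) = 0 := by
  have := charP hF
  exact_mod_cast CharP.cast_eq_zero F 7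

/-- squares in the field with 49 elements -/
theorem sq_iff (hF : Fintype.card F = 49) {a : F} (ha : a ≠ 0) : IsSquare a ↔ a ^ 24 = 1 := by
  have := charP hF
  rw [FiniteField.isSquare_iff (by rw [ringChar.eq F 7]; norm_num) ha, hF]

theorem pow_24 (hF : Fintype.card F = 49) {a : F} (ha : a ≠ 0) : a ^ 24 = 1 ∨ a ^ 24 = -1 := by
  have h1 : a ^ 48 = 1 := by
    have := FiniteField.pow_card_sub_one_eq_one a ha
    rwa [hF] at this
  have h2 : (a ^ 24) ^ 2 = 1 := by rw [← pow_mul]; exact h1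
  exact sq_eq_one_iff.1 h2

theorem two_ne (hF : Fintype.card F = 49) : (2 : F) ≠ 0 := by
  intro h
  have : (1 : F) = 0 := by linear_combination seven hF - 3 * h
  exact one_ne_zero this

/-- the Frobenius automorphism -/
theorem exists_fr (hF : Fintype.card F = 49) : ∃ φ : F ≃+* F, ∀ x, φ x = x ^ 7 := by
  have := charP hF
  exact ⟨frobeniusEquiv F 7, fun x => frobeniusEquiv_def F 7 x⟩

theorem eq_fr (hF : Fintype.card F = 49) {φ : F ≃+* F} (hφ : ∀ x, φ x = x ^ 7) (σ : F ≃+* F) :
    σ = 1 ∨ σ = φ := by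
  have := charP hF
  obtain ⟨i, hi⟩ := exists_frob (p := 7) σ
  have h49 : ∀ x : F, x ^ 49 = x := by
    intro x
    have := FiniteField.pow_card x
    rwa [hF] at this
  have key : ∀ j : ℕ, (∀ x : F, x ^ 7 ^ (2 * j) = x) ∧ (∀ x : F, x ^ 7 ^ (2 * j + 1) = x ^ 7) := by
    intro j
    have h1 : ∀ x : F, x ^ 7 ^ (2 * j) = x := by
      intro x
      induction j with
      | zero => simp
      | succ j ih =>
        rw [show 2 * (j + 1) = 2 * j + 2 from by ring, pow_add, pow_mul, ih]
        exact h49 x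
    refine ⟨h1, fun x => ?_⟩
    rw [pow_succ, pow_mul, h1]
  rcases Nat.even_or_odd' i with ⟨j, rfl | rfl⟩
  · left
    apply RingEquiv.ext
    intro x
    rw [hi, (key j).1]
    rfl
  · right
    apply RingEquiv.ext
    intro x
    rw [hi, (key j).2, hφ]

variable (hF : Fintype.card F = 49) {φ : F ≃+* F} (hφ : ∀ x, φ x = x ^ 7)

include hF in
/-- `√5` -/
theorem exists_root : ∃ r : F, r ^ 2 = 5 := by
  have h5 : (5 : F) ≠ 0 := by
    intro h
    have : (1 : F) = 0 := by linear_combination 3 * seven hF - 4 * h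
    exact one_ne_zero this
  obtain ⟨r, hr⟩ := (sq_iff hF h5).2 (by
    norm_num
    linear_combination (8514949253627232 : F) * seven hF)
  exact ⟨r, by rw [pow_two]; exact hr.symm⟩

include hF in
/-- an element of order ten with nonsquare determinant -/
theorem exists_ten : ∃ M : GL (Fin 2) F, (M : Matrix (Fin 2) (Fin 2) F).det ^ 24 = -1 ∧
    orderOf (lift (cj M)) = 2 * 5 := by
  obtain ⟨φ, hφ⟩ := exists_fr hF
  obtain ⟨r, hr⟩ := exists_root hF
  have h7 := seven hF
  have hφr : φ r = -r := by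
    rw [hφ]
    linear_combination (r ^ 5 + 5 * r ^ 3 + 25 * r) * hr + 18 * r * h7
  obtain ⟨c, hc⟩ : ∃ c : F, c = 6 + 4 * r := ⟨_, rfl⟩
  have hc2 : c ^ 2 = 5 * c - 5 := by
    rw [hc]
    linear_combination 16 * hr + (4 * r + 13) * h7
  have hφc : φ c = 6 - 4 * r := by
    rw [hc, map_add, map_mul, map_ofNat, map_ofNat, hφr]
    ring
  have hc8 : c ^ 8 = 5 := by
    have : c ^ 8 = c * φ c := by rw [hφ]; ring
    rw [this, hφc, hc]
    linear_combination -16 * hr - 7 * h7
  have hc24 : c ^ 24 = -1 := by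
    have : c ^ 24 = (c ^ 8) ^ 3 := by ring
    rw [this, hc8]
    linear_combination 18 * h7
  have hc0 : c ≠ 0 := by
    rintro rfl
    norm_num at hc24
  have hcc : c * c⁻¹ = 1 := mul_inv_cancel₀ hc0
  let M : GL (Fin 2) F := ⟨!![c, -c; 1, 0], !![0, 1; -c⁻¹, 1], by
    ext i j; fin_cases i <;> fin_cases j <;> simp [Matrix.mul_apply, Fin.sum_univ_two, hc0], by
    ext i j; fin_cases i <;> fin_cases j <;> simp [Matrix.mul_apply, Fin.sum_univ_two, hc0]⟩
  have hM : (M : Matrix (Fin 2) (Fin 2) F) = !![c, -c; 1, 0] := rfl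
  have hM2 : ((M ^ 2 : GL (Fin 2) F) : Matrix (Fin 2) (Fin 2) F) = !![2 + 4 * c, 5 + 2 * c; c, -c] := by
    rw [pow_two, Units.val_mul, hM]
    ext i j
    fin_cases i <;> fin_cases j <;> simp [Matrix.mul_apply, Fin.sum_univ_two]
    · linear_combination (1) * hc2 + (-1) * h7
    · linear_combination (-1) * hc2 + (-1 * c) * h7
  have hM4 : ((M ^ 4 : GL (Fin 2) F) : Matrix (Fin 2) (Fin 2) F) = !![5 - c, 1; 6 + 3 * c, -1 - c] := by
    have e : M ^ 4 = M ^ 2 * M ^ 2 := by rw [← pow_add]
    rw [e, Units.val_mul, hM2]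
    ext i j
    fin_cases i <;> fin_cases j <;> simp [Matrix.mul_apply, Fin.sum_univ_two]
    · linear_combination (18) * hc2 + (-13 + 16 * c) * h7
    · linear_combination (6) * hc2 + (-3 + 7 * c) * h7
    · linear_combination (3) * hc2 + (-3 + 2 * c) * h7
    · linear_combination (3) * hc2 + (-2 + 3 * c) * h7
  have hM5 : ((M ^ 5 : GL (Fin 2) F) : Matrix (Fin 2) (Fin 2) F) = !![-1, 2; 5 - c, 1] := by
    have e : M ^ 5 = M ^ 4 * M := by rw [← pow_succ]
    rw [e, Units.val_mul, hM4, hM]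
    ext i j
    fin_cases i <;> fin_cases j <;> simp [Matrix.mul_apply, Fin.sum_univ_two]
    · linear_combination (-1) * hc2 + (1) * h7
    · linear_combination (1) * hc2 + (-1) * h7
    · linear_combination (3) * hc2 + (-3 + 3 * c) * h7
    · linear_combination (-3) * hc2 + (2 - 3 * c) * h7
  have hM10 : ((M ^ (2 * 5) : GL (Fin 2) F) : Matrix (Fin 2) (Fin 2) F) = !![4 + 5 * c, 0; 0, 4 + 5 * c] := by
    have e : M ^ (2 * 5) = M ^ 5 * M ^ 5 := by rw [← pow_add]
    rw [e, Units.val_mul, hM5]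
    ext i j
    fin_cases i <;> fin_cases j <;> simp [Matrix.mul_apply, Fin.sum_univ_two]
    · linear_combination (1 - 1 * c) * h7
    · linear_combination (1 - 1 * c) * h7
  refine ⟨M, ?_, Cfsg.Agent.H422.Elim.orderOf_pq (by norm_num) (by norm_num) ?_ ?_ ?_⟩
  · rw [hM, det_fin_two]
    simp [hc24]
  · rw [lift_pow]
    refine lift_cj_scalar (r := 4 + 5 * c) ?_
    rw [hM10]
    ext i j
    fin_cases i <;> fin_cases j <;> simp
  · rw [lift_pow]
    refine not_scalar ?_
    rw [hM2]
    simpa using hc0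
  · rw [lift_pow]
    refine not_scalar ?_
    rw [hM5]
    simp only [of_apply, cons_val', cons_val_zero, cons_val_one, cons_val_fin_one]
    intro h5
    have : (5 : F) = 0 := by linear_combination (5 + c - 5) * h5 + hc2
    have h1 : (1 : F) = 0 := by linear_combination 3 * h7 - 4 * this
    exact one_ne_zero h1

/-- lower unitriangular matrices -/
def low (b : F) : Matrix.SpecialLinearGroup (Fin 2) F := ⟨!![1, 0; b, 1], by simp [det_fin_two]⟩

omit [Fintype F] in
theorem low_mul (a b : F) : low a * low b = low (a + b) := by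
  apply Subtype.ext
  change (!![1, 0; a, 1] : Matrix (Fin 2) (Fin 2) F) * !![1, 0; b, 1] = !![1, 0; a + b, 1]
  ext i j
  fin_cases i <;> fin_cases j <;> simp [Matrix.mul_apply, Fin.sum_univ_two]

omit [Fintype F] in
theorem low_zero : low (0 : F) = 1 := by
  apply Subtype.ext
  change (!![1, 0; 0, 1] : Matrix (Fin 2) (Fin 2) F) = 1
  ext i j
  fin_cases i <;> fin_cases j <;> simp

omit [Fintype F] in
theorem low_pow (b : F) (n : ℕ) : low b ^ n = low ((n : F) * b) := by
  induction n with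
  | zero => rw [pow_zero, Nat.cast_zero, zero_mul, low_zero]
  | succ n ih => rw [pow_succ, ih, low_mul]; congr 1; push_cast; ring

omit [Fintype F] in
theorem pr_low_ne {b : F} (hb : b ≠ 0) : pr (low b) ≠ 1 := by
  intro h
  rw [pr_eq_one_iff, Matrix.SpecialLinearGroup.mem_center_iff] at h
  obtain ⟨r, -, hr⟩ := h
  apply hb
  have h1 := congrFun (congrFun hr 1) 0
  rw [scalar_apply, diagonal_apply_ne _ (by decide)] at h1
  exact h1.symm

include hF in
theorem order_pr_low {b : F} (hb : b ≠ 0) : orderOf (pr (low b)) = 7 := by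
  refine orderOf_eq_prime ?_ (pr_low_ne hb)
  rw [← map_pow, low_pow, Nat.cast_ofNat, seven hF, zero_mul, low_zero, map_one]

include hF hφ in
theorem fr_ne_one : φ ≠ 1 := by
  intro h
  -- all elements would be roots of `x ^ 7 - x`
  obtain ⟨r, hr⟩ := exists_root hF
  have h1 : φ r = r := by rw [h]; rfl
  have h2 : r * 4 = r * 3 := by
    have : φ r = -r := by
      rw [hφ]
      linear_combination (r ^ 5 + 5 * r ^ 3 + 25 * r) * hr + 18 * r * seven hF
    rw [this] at h1
    linear_combination (-4) * h1 - r * seven hF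
  have hr0 : r ≠ 0 := by
    rintro rfl
    have : (1 : F) = 0 := by linear_combination 3 * seven hF + 4 * hr
    exact one_ne_zero this
  have h3 := mul_left_cancel₀ hr0 h2
  have : (1 : F) = 0 := by linear_combination h3
  exact one_ne_zero this

include hF hφ in
theorem fr_fr : φ * φ = 1 := by
  apply RingEquiv.ext
  intro x
  change φ (φ x) = x
  rw [hφ, hφ, ← pow_mul]
  have := FiniteField.pow_card x
  rwa [hF] at this

include hF hφ in
theorem order_fld : orderOf (lift (fld φ) : MulAut (TT F)) = 2 := by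
  refine orderOf_eq_prime ?_ ?_
  · rw [pow_two, ← map_mul, ← map_mul, fr_fr hF hφ, map_one, map_one]
  · intro h
    have h1 : lift (cj (1 : GL (Fin 2) F) * fld φ) = lift (fld (1 : F ≃+* F)) := by
      rw [map_one cj, one_mul, h, map_one, map_one]
    exact fr_ne_one hF hφ (injective_aux h1).2

include hF hφ in
theorem order_fourteen : orderOf ((lift (fld φ) : MulAut (TT F)) * MulAut.conj (pr (low 1))) = 2 * 7 := by
  have hc : Commute (lift (fld φ) : MulAut (TT F)) (MulAut.conj (pr (low 1))) := by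
    change _ * _ = _ * _
    rw [mul_conj, lift_pr]
    congr 3
    apply Subtype.ext
    ext i j
    rw [coe_fld_apply]
    change φ ((!![1, 0; 1, 1] : Matrix (Fin 2) (Fin 2) F) i j) = (!![1, 0; 1, 1] : Matrix (Fin 2) (Fin 2) F) i j
    fin_cases i <;> fin_cases j <;> simp
  have h7 : orderOf (MulAut.conj (pr (low (1 : F)))) = 7 := by
    refine orderOf_eq_prime ?_ ?_
    · rw [← map_pow, ← order_pr_low hF (one_ne_zero (α := F)), pow_orderOf_eq_one, map_one]
    · rw [conj_pr]
      refine not_scalar ?_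
      change (1 : F) ≠ 0
      exact one_ne_zero
  rw [hc.orderOf_mul_eq_mul_orderOf_of_coprime (by rw [order_fld hF hφ, h7]; norm_num), order_fld hF hφ, h7]

include hF in
/-- powers in `PSL₂(49)` -/
theorem psl_pow (g : TT F) : ∃ k, Cfsg.Agent.H422.Graph.Ok k ∧ g ^ k = 1 := by
  have := charP hF
  obtain ⟨M, rfl⟩ := pr_surjective g
  have key : ∀ k : ℕ, M ^ (2 * k) = 1 → (pr M) ^ k = 1 := by
    intro k hk
    rw [← map_pow, pr_eq_one_iff]
    apply Cfsg.Agent.H426.sl2_sq_eq_one_mem_center (two_ne hF)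
    rw [← pow_mul, mul_comm]
    exact hk
  rcases Cfsg.Agent.H426.sl2_pow_cases 7 M with h | h | h
  · rw [hF] at h
    exact ⟨24, by decide, key 24 h⟩
  · rw [hF] at h
    exact ⟨25, by decide, key 25 h⟩
  · exact ⟨7, by decide, key 7 h⟩

include hF in
theorem exists_six : ∃ g : TT F, orderOf g = 2 * 3 := by
  obtain ⟨g, hg⟩ := IsCyclic.exists_ofOrder_eq_natCard (α := Fˣ)
  have hc : Nat.card Fˣ = 48 := by
    rw [Nat.card_units, Nat.card_eq_fintype_card, hF]
  rw [hc] at hg
  obtain ⟨u, h12⟩ : ∃ u : Fˣ, orderOf u = 12 := ⟨g ^ 4, by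
    rw [orderOf_pow_of_dvd (by norm_num) (by rw [hg]; norm_num), hg]⟩
  have hpow : ∀ k : ℕ, (u : F) ^ k = 1 ↔ 12 ∣ k := by
    intro k
    rw [← h12, orderOf_dvd_iff_pow_eq_one, Units.ext_iff, Units.val_pow_eq_pow_val, Units.val_one]
  have hu0 : (u : F) ≠ 0 := u.ne_zero
  let D : Matrix.SpecialLinearGroup (Fin 2) F := ⟨!![(u : F), 0; 0, (u : F)⁻¹], by
    simp [det_fin_two, hu0]⟩
  have hD : ∀ k : ℕ, ((D ^ k : Matrix.SpecialLinearGroup (Fin 2) F) : Matrix (Fin 2) (Fin 2) F) =
      !![(u : F) ^ k, 0; 0, ((u : F)⁻¹) ^ k] := by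
    intro k
    induction k with
    | zero =>
      ext i j
      fin_cases i <;> fin_cases j <;> simp
    | succ k ih =>
      rw [pow_succ, Matrix.SpecialLinearGroup.coe_mul, ih]
      change (!![(u : F) ^ k, 0; 0, ((u : F)⁻¹) ^ k] : Matrix (Fin 2) (Fin 2) F) * !![(u : F), 0; 0, (u : F)⁻¹] = _
      ext i j
      fin_cases i <;> fin_cases j <;> simp [Matrix.mul_apply, Fin.sum_univ_two, pow_succ]
  have hcen : ∀ k : ℕ, (pr D) ^ k = 1 ↔ 12 ∣ 2 * k := by
    intro k
    rw [← map_pow, pr_eq_one_iff, Matrix.SpecialLinearGroup.mem_center_iff, ← hpow]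
    constructor
    · rintro ⟨r, hr, h⟩
      rw [hD] at h
      have e1 := congrFun (congrFun h 0) 0
      have e2 := congrFun (congrFun h 1) 1
      simp at e1 e2
      rw [two_mul, pow_add]
      rw [← e1]
      have : r * r = 1 := by
        rw [Fintype.card_fin, pow_two] at hr
        exact hr
      exact this
    · intro h
      refine ⟨(u : F) ^ k, ?_, ?_⟩
      · rw [Fintype.card_fin, ← pow_mul, mul_comm]
        exact h
      · rw [hD]
        have h2 : ((u : F)⁻¹) ^ k = (u : F) ^ k := by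
          rw [inv_pow]
          apply inv_eq_of_mul_eq_one_left
          rw [← pow_add, ← two_mul]
          exact h
        rw [h2]
        ext i j
        fin_cases i <;> fin_cases j <;> simp
  refine ⟨pr D, Cfsg.Agent.H422.Elim.orderOf_pq (by norm_num) (by norm_num) ?_ ?_ ?_⟩
  · exact (hcen _).2 (by norm_num)
  · exact fun h => absurd ((hcen _).1 h) (by norm_num)
  · exact fun h => absurd ((hcen _).1 h) (by norm_num)

end

end Cfsg.Agent.H422.LTwo
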