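import Cfsg.Agent.H422.OwnRGD
import Cfsg.Agent.FixBN.ChevGood
import Cfsg.Agent.S1032

/-!
# `G₂(3)`: no automorphism of order 3 with `RC` all of whose products of conjugates are 3-elements (S3833)
-/

set_option autoImplicit false

namespace Cfsg.Agent.H422.OwnGTwo

open Cfsg Cfsg.Lie Subgroup Cfsg.Agent.ChevalleyStructure Cfsg.Agent.ChevalleyStructure.Elts
  Cfsg.Agent.ChevalleyStructure.NPerm Cfsg.Agent.Nodes.RGDChev
open Cfsg.Agent.H459.Rad Cfsg.Agent.H460.AA Cfsg.Agent.ChevalleyStructure.CoxeterGeom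
open Cfsg.Agent.Tits.RootComb Cfsg.Agent.Nodes.Comb Cfsg.Agent.Nodes.Reps Cfsg.Agent.Nodes.BNOf

theorem hp : IsType chevG2 2 CoxeterMatrix.G₂ := by simp [IsType, typeList]

theorem three {F : Type} [Field F] [Finite F] (hF : Nat.card F = 3) (t : F) : t = 0 ∨ t = 1 ∨ t = -1 := by
  have := Fintype.ofFinite F
  rw [Nat.card_eq_fintype_card] at hF
  have h1 := FiniteField.pow_card t
  rw [hF] at h1
  have h2 : t * ((t - 1) * (t + 1)) = 0 := by linear_combination h1
  rcases mul_eq_zero.1 h2 with h | h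
  · exact Or.inl h
  · rcases mul_eq_zero.1 h with h | h
    · exact Or.inr (Or.inl (sub_eq_zero.1 h))
    · exact Or.inr (Or.inr (eq_neg_of_add_eq_zero_left h))

theorem charP_three {F : Type} [Field F] [Finite F] (hF : Nat.card F = 3) : CharP F 3 := by
  have := Fintype.ofFinite F
  rw [Nat.card_eq_fintype_card] at hF
  refine (CharP.charP_iff_prime_eq_zero Nat.prime_three).2 ?_
  have := Nat.cast_card_eq_zero F
  rw [hF] at this
  exact_mod_cast this

theorem tab : ∀ i : Fin 2, (chevG2.cartan ((1 - i : Fin 2) : ℕ) (chevG2.simple i) = -1 ∨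
    chevG2.cartan ((1 - i : Fin 2) : ℕ) (chevG2.simple i) = -3) ∧ chevG2.simple i < chevG2.nroots := by
  decide +kernel

theorem conj_simple {F : Type} [Field F] (i : Fin 2) :
    hG hp.inList (chevG2.simple ((1 - i : Fin 2) : ℕ)) (-1 : F) * xG hp.inList (chevG2.simple i) 1 *
      (hG hp.inList (chevG2.simple ((1 - i : Fin 2) : ℕ)) (-1 : F))⁻¹ = (xG hp.inList (chevG2.simple i) 1)⁻¹ := by
  have h1 : (-1 : F) ≠ 0 := neg_ne_zero.2 one_ne_zero
  have key : hG hp.inList (chevG2.simple ((1 - i : Fin 2) : ℕ)) (-1 : F) * xG hp.inList (chevG2.simple i) 1 *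
      (hG hp.inList (chevG2.simple ((1 - i : Fin 2) : ℕ)) (-1 : F))⁻¹ =
      xG hp.inList (chevG2.simple i) ((-1) ^ chevG2.cartan ((1 - i : Fin 2) : ℕ) (chevG2.simple i) * 1) := by
    rw [mul_inv_eq_iff_eq_mul]
    apply Units.ext
    simpa only [Units.val_mul, coe_hG, coe_xG] using Cfsg.Agent.S1032.result chevG2 hp.inList _ _ (lt_rank hp _)
      (tab i).2 (-1 : F) h1 1
  rw [key, xG_inv]
  congr 1
  rcases (tab i).1 with h | h <;> rw [h] <;> norm_num [zpow_neg]

/-- **`G₂(3)`** -/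
theorem own3_g2 (F : Type) [Field F] [Finite F] (hF : Nat.card F = 3) [IsSimpleGroup ↥(chevG2.group F)]
    (x : MulAut ↥(chevG2.group F)) (hx : orderOf x = 3) (hR : RC x) (hP : PA 3 x) : False := by
  have : CharP F 3 := charP_three hF
  have : Fact (Nat.Prime 3) := ⟨Nat.prime_three⟩
  have hW : Finite (CoxeterMatrix.G₂).Group := finite_W hp (CoxeterMatrix.G₂).toCoxeterSystem
  refine OwnRGD.own3 (rgd (K := F) hp (CoxeterMatrix.G₂).toCoxeterSystem 3)
    (gen hp (CoxeterMatrix.G₂).toCoxeterSystem 3) (FixBN.ChevGood.isSolvable_T F hp) (fun i _ => ?_) x hx hR hP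
  refine ⟨⟨xG hp.inList (chevG2.simple i) 1, xG_mem_group hp.inList _ _⟩, ?_,
    ⟨hG hp.inList (chevG2.simple ((1 - i : Fin 2) : ℕ)) (-1 : F), hG_mem_group hp.inList _ _⟩, ?_, ?_, ?_⟩
  · rw [Subgroup.mem_subgroupOf, XV_sr hp]
    exact xG_mem_rootSubgroup hp.inList _ _
  · rw [Subgroup.mem_subgroupOf]
    exact hG_mem_diagonal hp.inList (tab _).2 (neg_ne_zero.2 one_ne_zero)
  · rintro ⟨y, hy⟩ hyX
    rw [Subgroup.mem_subgroupOf, XV_sr hp] at hyX
    obtain ⟨t, ht⟩ := (mem_rootSubgroup_iff hp.inList _ _).1 hyX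
    change y = _ at ht
    subst ht
    rcases three hF t with rfl | rfl | rfl
    · exact Or.inl (Subtype.ext (xG_zero hp.inList _))
    · exact Or.inr (Or.inl rfl)
    · refine Or.inr (Or.inr (Subtype.ext ?_))
      exact (xG_inv hp.inList _ _).symm
  · exact Subtype.ext (conj_simple i)

end Cfsg.Agent.H422.OwnGTwo
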