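import Mathlib
import Cfsg.Prelude.Def_KGroupFacts
import Cfsg.Agent.H460.AADef

/-!
# Products of two conjugates of an element of order 3 in characteristic 3 (S3833): a criterion for matrix groups
-/

set_option autoImplicit false

namespace Cfsg.Agent.H422.OwnMat

open Subgroup Cfsg Cfsg.Agent.H460.AA Matrix

section Mat

variable {ι : Type} [Fintype ι] [DecidableEq ι] {F : Type} [Field F] [Finite F] [CharP F 3]

theorem exists_nil {M : Matrix ι ι F} {k : ℕ} {c : F}
    (h : M ^ 3 ^ k = c • (1 : Matrix ι ι F)) : ∃ e : F, IsNilpotent (M - e • (1 : Matrix ι ι F)) := by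
  have hp : Fact (Nat.Prime 3) := ⟨Nat.prime_three⟩
  rcases isEmpty_or_nonempty ι with hι | hι
  · exact ⟨1, 1, by ext i; exact (IsEmpty.false i).elim⟩
  have : CharP (Matrix ι ι F) 3 := Matrix.charP 3
  obtain ⟨e, he⟩ : ∃ e : F, e ^ 3 ^ k = c := by
    have h1 : Function.Bijective (iterateFrobenius F 3 k) :=
      Finite.injective_iff_bijective.1 (iterateFrobenius F 3 k).injective
    obtain ⟨e, he⟩ := h1.2 c
    exact ⟨e, he⟩
  have hc : Commute M (e • (1 : Matrix ι ι F)) := by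
    rw [Commute, SemiconjBy, Matrix.mul_smul, Matrix.smul_mul, mul_one, one_mul]
  refine ⟨e, 3 ^ k, ?_⟩
  rw [sub_pow_char_pow_of_commute _ _ hc, h, smul_pow, one_pow, he, sub_self]

omit [Finite F] in
theorem pow_nine_of_nil {M : Matrix ι ι F} (hn : Fintype.card ι ≤ 9) {e : F}
    (h : IsNilpotent (M - e • (1 : Matrix ι ι F))) : M ^ 9 = (e ^ 9) • (1 : Matrix ι ι F) := by
  have hp : Fact (Nat.Prime 3) := ⟨Nat.prime_three⟩
  rcases isEmpty_or_nonempty ι with hι | hι
  · ext i; exact (IsEmpty.false i).elim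
  have : CharP (Matrix ι ι F) 3 := Matrix.charP 3
  set N := M - e • (1 : Matrix ι ι F) with hN
  have h3 : N ^ Fintype.card ι = 0 := by
    have h4 := Matrix.isNilpotent_charpoly_sub_pow_of_isNilpotent (M := N) h
    have h5 := h4.eq_zero
    have h6 := Matrix.aeval_self_charpoly N
    rw [sub_eq_zero.1 h5, map_pow, Polynomial.aeval_X] at h6
    exact h6
  have h4 : N ^ 9 = 0 := by
    rw [show 9 = Fintype.card ι + (9 - Fintype.card ι) by omega, pow_add, h3, zero_mul]
  have h5 : M = N + e • (1 : Matrix ι ι F) := by rw [hN, sub_add_cancel]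
  have hc2 : Commute N (e • (1 : Matrix ι ι F)) := by
    rw [Commute, SemiconjBy, Matrix.mul_smul, Matrix.smul_mul, mul_one, one_mul]
  have h6 := add_pow_char_pow_of_commute (p := 3) 2 hc2
  rw [show 3 ^ 2 = 9 from rfl, h4, smul_pow, one_pow, zero_add, ← h5] at h6
  exact h6

theorem pow_nine {M : Matrix ι ι F} (hn : Fintype.card ι ≤ 9) {k : ℕ} {c : F}
    (h : M ^ 3 ^ k = c • (1 : Matrix ι ι F)) : ∃ d : F, M ^ 9 = d • (1 : Matrix ι ι F) := by
  obtain ⟨e, he⟩ := exists_nil h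
  exact ⟨_, pow_nine_of_nil hn he⟩

end Mat

section Crit

variable {G : Type} [Group G] [Finite G]

/-- a finite set closed under multiplication is a subgroup -/
def mkU (S : Set G) (h1 : (1 : G) ∈ S) (hm : ∀ a ∈ S, ∀ b ∈ S, a * b ∈ S) : Subgroup G where
  carrier := S
  one_mem' := h1
  mul_mem' := fun {a b} ha hb => hm a ha b hb
  inv_mem' := fun {a} ha => by
    have h2 : ∀ n : ℕ, a ^ n ∈ S := fun n => by
      induction n with
      | zero => rw [pow_zero]; exact h1
      | succ n ih => rw [pow_succ]; exact hm _ ih _ ha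
    have h3 : a⁻¹ = a ^ (orderOf a - 1) := by
      rw [inv_eq_iff_mul_eq_one, ← pow_succ', Nat.sub_add_cancel (orderOf_pos a), pow_orderOf_eq_one]
    rw [h3]
    exact h2 _

/-- every element of order three is conjugate into a given Sylow subgroup (as a set) -/
theorem exists_conj {T : Type} [Finite T] (f : T → G) (hf : Function.Injective f) (t0 : T) (h0 : f t0 = 1)
    (hm : ∀ s t, ∃ w, f s * f t = f w) {n m : ℕ} (hT : Nat.card T = 3 ^ n) (hG : Nat.card G = 3 ^ n * m) (hm3 : ¬ 3 ∣ m)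
    {a : G} (ha : a ^ 3 = 1) : ∃ (g : G) (t : T), g * a * g⁻¹ = f t := by
  have hp : Fact (Nat.Prime 3) := ⟨Nat.prime_three⟩
  let U : Subgroup G := mkU (Set.range f) ⟨t0, h0⟩ (by
    rintro _ ⟨s, rfl⟩ _ ⟨t, rfl⟩
    obtain ⟨w, hw⟩ := hm s t
    exact ⟨w, hw.symm⟩)
  have hU : Nat.card U = 3 ^ n := by
    rw [← hT]
    exact Nat.card_congr (Equiv.ofInjective f hf).symm
  have hi : ¬ 3 ∣ U.index := by
    intro h
    have h1 := U.card_mul_index
    rw [hU, hG] at h1
    exact hm3 ((Nat.eq_of_mul_eq_mul_left (by positivity) h1) ▸ h)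
  have h1 : IsPGroup 3 (zpowers a) := by
    have h2 : orderOf a ∣ 3 := orderOf_dvd_of_pow_eq_one ha
    rcases (Nat.dvd_prime Nat.prime_three).1 h2 with h | h
    · exact IsPGroup.of_card (n := 0) (by rw [Nat.card_zpowers, h, pow_zero])
    · exact IsPGroup.of_card (n := 1) (by rw [Nat.card_zpowers, h, pow_one])
  have h2 : (MulAction.fixedPoints (zpowers a) (G ⧸ U)).Nonempty :=
    h1.nonempty_fixed_point_of_prime_not_dvd_card (α := G ⧸ U) hi
  obtain ⟨y, hy⟩ := h2
  obtain ⟨g, rfl⟩ := QuotientGroup.mk_surjective y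
  have h3 := hy ⟨a, mem_zpowers a⟩
  have h4 : ((a * g : G) : G ⧸ U) = (g : G ⧸ U) := h3
  rw [QuotientGroup.eq] at h4
  have h5 := U.inv_mem h4
  have e : ((a * g)⁻¹ * g)⁻¹ = g⁻¹ * a * g := by group
  rw [e] at h5
  obtain ⟨t, ht⟩ := h5
  exact ⟨g⁻¹, t, by rw [inv_inv]; exact ht.symm⟩

omit [Finite G] in
/-- products in a semidirect product -/
theorem mul_mem_prod {V W : Type} [Add V] [Add W] (N : V → G) (H : W → G) (act : W → V → V)
    (hN : ∀ v w, N v * N w = N (v + w)) (hH : ∀ v w, H v * H w = H (v + w)) (hc : ∀ w v, H w * N v = N (act w v) * H w)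
    (s t : V × W) : ∃ w : V × W, (N s.1 * H s.2) * (N t.1 * H t.2) = N w.1 * H w.2 := by
  refine ⟨(s.1 + act s.2 t.1, s.2 + t.2), ?_⟩
  change _ = N (s.1 + act s.2 t.1) * H (s.2 + t.2)
  rw [← hN, ← hH, mul_assoc, ← mul_assoc (H s.2), hc]
  simp only [mul_assoc]

variable {ι : Type} [Fintype ι] [DecidableEq ι] {F : Type} [Field F] [Finite F] [CharP F 3]

omit [Finite F] [CharP F 3] in
/-- The criterion for `G ⧸ Z(G)`, `G` a matrix group. -/
theorem false_of_check' (mat : G →* Matrix ι ι F)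
    (hZ4 : ∀ z ∈ center G, z ^ 4 = 1) (hZs : ∀ z ∈ center G, ∃ r : F, mat z = r • (1 : Matrix ι ι F))
    {T : Type} [Finite T] (f : T → G) (hf : Function.Injective f) (t0 : T) (h0 : f t0 = 1)
    (hm : ∀ s t, ∃ w, f s * f t = f w) {n m : ℕ} (hT : Nat.card T = 3 ^ n) (hG : Nat.card G = 3 ^ n * m) (hm3 : ¬ 3 ∣ m)
    (chk : ∀ t, t ≠ t0 → ∃ g : G, ∀ (k : ℕ) (r : F), (mat (f t * (g * f t * g⁻¹))) ^ 3 ^ k ≠ r • (1 : Matrix ι ι F))
    (a : G ⧸ center G) (ha : orderOf a = 3) (hP : ∀ g, PE 3 (a * (g * a * g⁻¹))) : False := by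
  have hp : Fact (Nat.Prime 3) := ⟨Nat.prime_three⟩
  obtain ⟨b, hb⟩ := QuotientGroup.mk_surjective a
  have hb3 : b ^ 3 ∈ center G := by
    rw [← QuotientGroup.eq_one_iff, QuotientGroup.mk_pow, hb, ← ha]
    exact pow_orderOf_eq_one a
  have hc3 : (b ^ 4) ^ 3 = 1 := by
    rw [← pow_mul, mul_comm, pow_mul]
    exact hZ4 _ hb3
  have hc : ((b ^ 4 : G) : G ⧸ center G) = a := by
    rw [QuotientGroup.mk_pow, hb, pow_succ, ← ha, pow_orderOf_eq_one, one_mul]
  obtain ⟨g, t, hg⟩ := exists_conj f hf t0 h0 hm hT hG hm3 hc3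
  have ht : t ≠ t0 := by
    rintro rfl
    rw [h0] at hg
    have h1 : b ^ 4 = 1 := by
      have h2 := congrArg (fun z => g⁻¹ * z * g) hg
      simpa [mul_assoc] using h2
    rw [h1] at hc
    rw [← hc] at ha
    simp at ha
  obtain ⟨k, hk⟩ := chk t ht
  -- the product in `G ⧸ Z`
  have h1 : PE 3 ((f t * (k * f t * k⁻¹) : G) : G ⧸ center G) := by
    have h2 := (hP ((g⁻¹ * k * g : G) : G ⧸ center G)).conj (g : G ⧸ center G)
    have h3 : ((f t * (k * f t * k⁻¹) : G) : G ⧸ center G) =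
        (g : G ⧸ center G) * (a * (((g⁻¹ * k * g : G) : G ⧸ center G) * a * ((g⁻¹ * k * g : G) : G ⧸ center G)⁻¹)) *
          (g : G ⧸ center G)⁻¹ := by
      rw [← hg, ← hc]
      simp only [← QuotientGroup.mk_mul, ← QuotientGroup.mk_inv]
      congr 1
      group
    rw [h3]
    exact h2
  obtain ⟨j, hj⟩ := PE.pow_eq_one_iff.1 h1
  rw [← QuotientGroup.mk_pow, QuotientGroup.eq_one_iff] at hj
  obtain ⟨r, hr⟩ := hZs _ hj
  rw [map_pow] at hr
  exact hk j r hr

/-- The criterion for `G ⧸ Z(G)`, `G` a matrix group. -/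
theorem false_of_check (mat : G →* Matrix ι ι F) (hn : Fintype.card ι ≤ 9)
    (hZ4 : ∀ z ∈ center G, z ^ 4 = 1) (hZs : ∀ z ∈ center G, ∃ r : F, mat z = r • (1 : Matrix ι ι F))
    {T : Type} [Finite T] (f : T → G) (hf : Function.Injective f) (t0 : T) (h0 : f t0 = 1)
    (hm : ∀ s t, ∃ w, f s * f t = f w) {n m : ℕ} (hT : Nat.card T = 3 ^ n) (hG : Nat.card G = 3 ^ n * m) (hm3 : ¬ 3 ∣ m)
    (chk : ∀ t, t ≠ t0 → ∃ g : G, ∀ r : F, (mat (f t * (g * f t * g⁻¹))) ^ 9 ≠ r • (1 : Matrix ι ι F))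
    (a : G ⧸ center G) (ha : orderOf a = 3) (hP : ∀ g, PE 3 (a * (g * a * g⁻¹))) : False := by
  refine false_of_check' mat hZ4 hZs f hf t0 h0 hm hT hG hm3 (fun t ht => ?_) a ha hP
  obtain ⟨g, hg⟩ := chk t ht
  refine ⟨g, fun k r h => ?_⟩
  obtain ⟨d, hd⟩ := pow_nine hn h
  exact hg d hd

end Crit

section Aut

universe u

variable {K : Type u} [Group K] [Finite K]

omit [Finite K] in
theorem center_eq_bot (hs : IsSimpleGroup K) (hna : ¬ IsMulCommutative K) : center K = ⊥ := by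
  have h1 : (center K).Normal := inferInstance
  rcases h1.eq_bot_or_eq_top with h | h
  · exact h
  · exact absurd ⟨⟨fun a b => (mem_center_iff.1 (h ▸ mem_top b : b ∈ center K) a)⟩⟩ hna

theorem card_out (hs : IsSimpleGroup K) (hna : ¬ IsMulCommutative K) {o : ℕ}
    (h : Nat.card (MulAut K) = o * Nat.card K) : Nat.card (Out K) = o := by
  have h1 : Nat.card (Inn K) = Nat.card K :=
    (Nat.card_congr (MonoidHom.ofInjective (conj_injective (center_eq_bot hs hna))).toEquiv).symm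
  have h2 := Subgroup.card_eq_card_quotient_mul_card_subgroup (Inn K)
  rw [h, h1] at h2
  exact (Nat.eq_of_mul_eq_mul_right Nat.card_pos h2).symm

/-- automorphisms of order `3` are inner if `3` does not divide the number of outer automorphisms -/
theorem inner_of_card (hs : IsSimpleGroup K) (hna : ¬ IsMulCommutative K) {o : ℕ} (ho : Nat.card (MulAut K) = o * Nat.card K)
    (h3 : ¬ 3 ∣ o) {x : MulAut K} (hx : orderOf x = 3) : ∃ a : K, x = MulAut.conj a := by
  have h1 := card_out hs hna ho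
  have h2 : x ∈ Inn K := by
    rw [← QuotientGroup.eq_one_iff]
    have h3' : ((x : MulAut K) : Out K) ^ 3 = 1 := by
      rw [← QuotientGroup.mk_pow, ← hx, pow_orderOf_eq_one]; rfl
    have h4 : orderOf ((x : MulAut K) : Out K) ∣ 3 := orderOf_dvd_of_pow_eq_one h3'
    rcases (Nat.dvd_prime Nat.prime_three).1 h4 with h | h
    · exact orderOf_eq_one_iff.1 h
    · exfalso
      apply h3
      rw [← h1, ← h]
      exact orderOf_dvd_natCard _
  obtain ⟨a, ha⟩ := h2
  exact ⟨a, ha.symm⟩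

/-- from elements to automorphisms -/
theorem false_of_inner (hs : IsSimpleGroup K) (hna : ¬ IsMulCommutative K) {o : ℕ}
    (ho : Nat.card (MulAut K) = o * Nat.card K) (h3 : ¬ 3 ∣ o)
    (h : ∀ a : K, orderOf a = 3 → (∀ g, PE 3 (a * (g * a * g⁻¹))) → False)
    (x : MulAut K) (hx : orderOf x = 3) (hP : PA 3 x) : False := by
  obtain ⟨a, rfl⟩ := inner_of_card hs hna ho h3 hx
  have hc : center K = ⊥ := center_eq_bot hs hna
  have ha : orderOf a = 3 := by rw [← hx]; exact (orderOf_injective _ (conj_injective hc) a).symm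
  exact h a ha (pe_of_PA hc hP)

end Aut

end Cfsg.Agent.H422.OwnMat
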