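import Mathlib
import Cfsg.Agent.H422.OwnMat
import Cfsg.Agent.S0814
import Cfsg.Agent.S0245
import Cfsg.Agent.S0270
import Cfsg.Agent.LieClassical.SympCenter

/-!
# `PSp₄(3)`: no automorphism of order 3 all of whose products of conjugates are 3-elements (S3833)
-/

set_option autoImplicit false

namespace Cfsg.Agent.H422.OwnSpFour

open Subgroup Cfsg Cfsg.Agent.H460.AA Matrix Cfsg.Agent.H422.OwnMat

abbrev M4 := Matrix (Fin 2 ⊕ Fin 2) (Fin 2 ⊕ Fin 2) (ZMod 3)
abbrev S4 := Matrix.symplecticGroup (Fin 2) (ZMod 3)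
abbrev P4 := Cfsg.PSp 2 (ZMod 3)
abbrev V := ZMod 3 × ZMod 3 × ZMod 3

instance : Fact (Nat.Prime 3) := ⟨Nat.prime_three⟩

def mat : S4 →* M4 := (Matrix.symplecticGroup (Fin 2) (ZMod 3)).subtype

def cube (M : M4) : M4 := M * M * M

theorem pow_nine_eq (M : M4) : M ^ 9 = cube (cube M) := by
  unfold cube
  rw [← pow_three', ← pow_three', ← pow_mul]

def nm (v : V) : M4 := fromBlocks 1 !![v.1, v.2.1; v.2.1, v.2.2] 0 1
def hm (w : ZMod 3) : M4 := fromBlocks !![1, w; 0, 1] 0 0 !![1, 0; -w, 1]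

theorem nm_mem : ∀ v : V, nm v * J (Fin 2) (ZMod 3) * (nm v)ᵀ = J (Fin 2) (ZMod 3) := by decide +kernel
theorem hm_mem : ∀ v : ZMod 3, hm v * J (Fin 2) (ZMod 3) * (hm v)ᵀ = J (Fin 2) (ZMod 3) := by decide +kernel
theorem nm_mul : ∀ v w : V, nm v * nm w = nm (v + w) := by decide +kernel
theorem hm_mul : ∀ v w : ZMod 3, hm v * hm w = hm (v + w) := by decide +kernel

def act (w : ZMod 3) (v : V) : V := (v.1 + 2 * w * v.2.1 + w * w * v.2.2, v.2.1 + w * v.2.2, v.2.2)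

theorem act_conj : ∀ (w : ZMod 3) (v : V), hm w * nm v = nm (act w v) * hm w := by decide +kernel

theorem f_inj : ∀ s t : V × ZMod 3, nm s.1 * hm s.2 = nm t.1 * hm t.2 → s = t := by decide +kernel

def A1 : M4 := fromBlocks !![0, 0; 0, 2] !![1, 0; 0, 0] !![2, 0; 0, 0] !![0, 0; 0, 2]
def A1' : M4 := fromBlocks !![0, 0; 0, 2] !![2, 0; 0, 0] !![1, 0; 0, 0] !![0, 0; 0, 2]
def A2 : M4 := fromBlocks !![0, 1; 1, 0] !![0, 0; 0, 0] !![1, 0; 0, 1] !![0, 1; 1, 0]
def A2' : M4 := fromBlocks !![0, 1; 1, 0] !![0, 0; 0, 0] !![2, 0; 0, 2] !![0, 1; 1, 0]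
def A3 : M4 := fromBlocks !![0, 0; 0, 0] !![0, 2; 1, 0] !![0, 1; 2, 0] !![0, 0; 0, 0]

def N (v : V) : S4 := ⟨nm v, nm_mem v⟩
def H (v : ZMod 3) : S4 := ⟨hm v, hm_mem v⟩
def g1 : S4 := ⟨A1, by change A1 * J (Fin 2) (ZMod 3) * A1ᵀ = _; decide +kernel⟩
def g1' : S4 := ⟨A1', by change A1' * J (Fin 2) (ZMod 3) * A1'ᵀ = _; decide +kernel⟩
def g2 : S4 := ⟨A2, by change A2 * J (Fin 2) (ZMod 3) * A2ᵀ = _; decide +kernel⟩
def g2' : S4 := ⟨A2', by change A2' * J (Fin 2) (ZMod 3) * A2'ᵀ = _; decide +kernel⟩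
def g3 : S4 := ⟨A3, by change A3 * J (Fin 2) (ZMod 3) * A3ᵀ = _; decide +kernel⟩

theorem g1_inv : g1⁻¹ = g1' := by
  have h : A1 * A1' = 1 := by decide +kernel
  rw [inv_eq_iff_mul_eq_one]
  exact Subtype.ext h

theorem g2_inv : g2⁻¹ = g2' := by
  have h : A2 * A2' = 1 := by decide +kernel
  rw [inv_eq_iff_mul_eq_one]
  exact Subtype.ext h

theorem g3_inv : g3⁻¹ = g3 := by
  have h : A3 * A3 = 1 := by decide +kernel
  rw [inv_eq_iff_mul_eq_one]
  exact Subtype.ext h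

def bad (u g g' : M4) : Prop := ∀ r : ZMod 3, cube (cube (u * (g * u * g'))) ≠ r • (1 : M4)

instance (u g g' : M4) : Decidable (bad u g g') := by unfold bad; infer_instance

theorem chk : ∀ t : V × ZMod 3, t ≠ 0 → bad (nm t.1 * hm t.2) A1 A1' ∨ bad (nm t.1 * hm t.2) A2 A2' ∨
    bad (nm t.1 * hm t.2) A3 A3 := by
  decide +kernel

theorem card_S4 : Nat.card S4 = 3 ^ 4 * 640 := by
  have h1 := Cfsg.Agent.S0245.result (F := ZMod 3) (q := 3) (ZMod.card 3) 2
  rw [Finset.prod_range_succ, Finset.prod_range_one] at h1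
  rw [h1]
  norm_num

theorem simple_P4 : IsSimpleGroup P4 := Cfsg.Agent.S0270.result 2 le_rfl (by rw [ZMod.card]; norm_num)

theorem center_scalar {z : S4} (hz : z ∈ center S4) : ∃ r : ZMod 3, mat z = r • (1 : M4) :=
  (LieClassical.SympCenter.mem_center_iff 2 z).1 hz

theorem non_comm : ¬ IsMulCommutative P4 := by
  intro h
  have h1 : ∀ a b : S4, a * b * a⁻¹ * b⁻¹ ∈ center S4 := fun a b => by
    rw [← QuotientGroup.eq_one_iff]
    have h2 := h.is_comm.comm (a : P4) (b : P4)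
    simp only [QuotientGroup.mk_mul, QuotientGroup.mk_inv]
    rw [h2]
    group
  obtain ⟨r, h2⟩ := center_scalar (h1 g2 g3)
  rw [g2_inv, g3_inv] at h2
  have h3 : A2 * A3 * A2' * A3 = r • (1 : M4) := h2
  revert h3
  generalize r = r'
  revert r'
  decide +kernel

theorem elt (a : P4) (ha : orderOf a = 3) (hP : ∀ g, PE 3 (a * (g * a * g⁻¹))) : False := by
  refine false_of_check (G := S4) (ι := Fin 2 ⊕ Fin 2) (F := ZMod 3) mat (by decide) ?_ (fun z hz => center_scalar hz)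
    (T := V × ZMod 3) (fun t => N t.1 * H t.2) ?_ 0 ?_ ?_ (n := 4) (m := 640) ?_ card_S4
    (by norm_num) ?_ a ha hP
  · intro z hz
    obtain ⟨r, hr⟩ := (LieClassical.SympCenter.mem_center_iff 2 z).1 hz
    have h1 : r * r = 1 := LieClassical.SympCenter.sq_eq_one_of_smul_mem (by norm_num) (hr ▸ z.2)
    apply Subtype.ext
    have h2 : (z ^ 4).1 = z.1 * z.1 * (z.1 * z.1) := by rw [show 4 = 1 + 1 + (1 + 1) from rfl, pow_add, pow_add, pow_one]; rfl
    rw [h2, hr, smul_mul_smul_comm, smul_mul_smul_comm, h1, one_mul, one_smul, one_mul, one_mul]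
    rfl
  · exact fun s t h => f_inj s t (congrArg Subtype.val h)
  · apply Subtype.ext
    change nm 0 * hm 0 = 1
    decide +kernel
  · exact mul_mem_prod N H act (fun v w => Subtype.ext (nm_mul v w)) (fun v w => Subtype.ext (hm_mul v w))
      fun v w => Subtype.ext (act_conj v w)
  · rw [Nat.card_eq_fintype_card]; decide +kernel
  · intro t ht
    rcases chk t ht with h | h | h
    · refine ⟨g1, fun r => ?_⟩
      rw [pow_nine_eq, g1_inv]
      exact h r
    · refine ⟨g2, fun r => ?_⟩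
      rw [pow_nine_eq, g2_inv]
      exact h r
    · refine ⟨g3, fun r => ?_⟩
      rw [pow_nine_eq, g3_inv]
      exact h r

theorem own3_psp43 (x : MulAut P4) (hx : orderOf x = 3) (hP : PA 3 x) : False := by
  have h1 := Cfsg.Agent.S0814.result (F := ZMod 3) 3 1 le_rfl (by rw [ZMod.card]; norm_num) 2 (by norm_num) (by norm_num)
  refine false_of_inner simple_P4 non_comm (o := 2) ?_ (by norm_num) elt x hx hP
  rw [h1, if_neg (by norm_num)]
  norm_num

end Cfsg.Agent.H422.OwnSpFour
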