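import Cfsg.Agent.H422.OwnGTwo
import Cfsg.Agent.H185.TypedTw
import Cfsg.Agent.H460.PanL
import Cfsg.Agent.ChevalleyStructure.D4HConj

/-!
# `³D₄(3)`: no automorphism of order 3 with `RC` all of whose products of conjugates are 3-elements (S3833)
-/

set_option autoImplicit false
set_option maxHeartbeats 400000

namespace Cfsg.Agent.H422.OwnThreeD4

open CoxeterSystem Cfsg.Agent.ChevalleyStructure.CoxeterGeom Cfsg.Agent.Tits.Roots Cfsg.Agent.Tits.Core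
  Cfsg.Agent.Tits.RootComb Cfsg.Agent.Nodes.Comb Cfsg.Agent.Nodes.Reps Cfsg.Agent.Nodes.BNOf Cfsg.Agent.Nodes.BNOf.RGD
  Cfsg.Agent.Schreier.BNSch Cfsg.Agent.FixBN
open Cfsg.Lie Cfsg.Agent.ChevalleyStructure Cfsg.Agent.H185.TypedTw Cfsg.Agent.FixBN.FieldRGD
  Cfsg.Agent.Nodes.RGDFold Cfsg.Agent.Nodes.RGDFoldSL Cfsg.Agent.Nodes.RGDTwD4 Cfsg.Agent.Nodes.RGDTwNode
open Cfsg.Agent.ChevalleyStructure.SL2Hom (up)
open Cfsg.Agent.H459.Rad Cfsg.Agent.H460.AA Cfsg.Agent.H422.OwnGTwo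
open Cfsg.Agent.ChevalleyStructure.D4Twisted (hb hb_mem hb_mem_diagonal)
open Cfsg.Agent.ChevalleyStructure.D4NConj (hR)

theorem tab : ∀ r ∈ [18, 13, 12], SparseHDiag.cartanRS chevD4 r 14 = -1 := by decide +kernel

theorem hb_conj {K : Type} [Field K] (φ : K →+* K) (u : K) :
    hb φ (-1) * D4Comm.xG 14 u * (hb φ (-1))⁻¹ = D4Comm.xG 14 (-u) := by
  have h0 : (-1 : K) ≠ 0 := neg_ne_zero.2 one_ne_zero
  have key : ∀ r ∈ [18, 13, 12], ∀ v : K, hR r (-1) * D4Comm.xG 14 v * (hR r (-1))⁻¹ = D4Comm.xG 14 (-v) := by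
    intro r hr v
    rw [D4HConj.hR_conj (by revert r; decide) (by norm_num) h0, tab r hr]
    congr 1
    norm_num
  have e1 : φ (-1) = -1 := by rw [map_neg, map_one]
  unfold hb
  rw [e1, e1]
  calc hR 18 (-1) * hR 13 (-1) * hR 12 (-1) * D4Comm.xG 14 u * (hR 18 (-1) * hR 13 (-1) * hR 12 (-1))⁻¹ =
      hR 18 (-1) * (hR 13 (-1) * (hR 12 (-1) * D4Comm.xG 14 u * (hR 12 (-1))⁻¹) * (hR 13 (-1))⁻¹) *
        (hR 18 (-1))⁻¹ := by group
    _ = D4Comm.xG 14 (-u) := by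
      rw [key 12 (by decide), key 13 (by decide), key 18 (by decide), neg_neg]

theorem bn_normal {K : Type*} [Group K] (P : Cfsg.BNPair K) : ((P.B ⊓ P.N).subgroupOf P.N).Normal := by
  refine ⟨fun t ht m => ?_⟩
  rw [Subgroup.mem_subgroupOf] at ht ⊢
  exact ⟨P.conj_mem m m.2 t ht, P.N.mul_mem (P.N.mul_mem m.2 t.2) (P.N.inv_mem m.2)⟩

theorem node_zero {F : Type} [Field F] [Finite F] {φ : F →+* F} (hφ : ∀ x, φ x = x ^ 3)
    (FG : FoldGrp Nodes.RGDTwD4.hp F J L (D4Fixed.sig φ) rho (fun r => rho (rho r)) (fun r t => ((eps r : ℤ) : F) * φ t)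
      (twistedD4 F 3))
    (hf : ∀ s ∈ D4.rep 0 :: D4.rest 0, ∀ t, ((eps s : ℤ) : F) * φ t = φ t) (hc1 : Nat.card (Fx φ 1) = 3) :
    ∃ u ∈ (Nodes.RGDFold.R chevD4 Nodes.RGDTwD4.hp F J (D4Fixed.sig φ) (sr 0)).subgroupOf (twistedD4 F 3),
    ∃ t ∈ (chevD4.diagonalSubgroup F ⊓ twistedD4 F 3).subgroupOf (twistedD4 F 3),
      (∀ x ∈ (Nodes.RGDFold.R chevD4 Nodes.RGDTwD4.hp F J (D4Fixed.sig φ) (sr 0)).subgroupOf (twistedD4 F 3),
          x = 1 ∨ x = u ∨ x = u⁻¹) ∧ t * u * t⁻¹ = u⁻¹ := by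
  -- the node over the field with three elements
  have hcoe : ∀ a, ((Phi FG (D4.nodeOK 0) hf (up a) : ↥(twistedD4 F 3)) : GL chevD4.Idx F) =
      D4Comm.xG 14 (a : F) := by
    intro a
    have h4 := coe_Phi_up FG (D4.nodeOK 0) hf a
    rw [Nodes.RGDTwD4.xG_eq] at h4
    refine h4.trans ?_
    show D4Comm.xG 14 (a : F) * 1 = _
    rw [mul_one]
  have hc2 : Nat.card (Fx φ ((D4.rest 0).length + 1)) = 3 := hc1
  obtain ⟨u, hu⟩ : ∃ u, u = Phi FG (D4.nodeOK 0) hf (up 1) := ⟨_, rfl⟩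
  have hu' : (u : GL chevD4.Idx F) = D4Comm.xG 14 1 := by rw [hu, hcoe]; rfl
  refine ⟨u, (mem_X_iff FG (D4.nodeOK 0) hf u).2 ⟨1, hu⟩, ⟨hb φ (-1), hb_mem hφ _⟩, ?_, ?_, ?_⟩
  · rw [Subgroup.mem_subgroupOf]
    exact ⟨hb_mem_diagonal φ (neg_ne_zero.2 one_ne_zero), hb_mem hφ _⟩
  · intro y hy
    obtain ⟨a, ha⟩ := (mem_X_iff FG (D4.nodeOK 0) hf y).1 hy
    have hy' : (y : GL chevD4.Idx F) = D4Comm.xG 14 (a : F) := by rw [ha, hcoe]
    rcases three hc2 a with rfl | rfl | rfl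
    · left
      apply Subtype.ext
      rw [hy']
      exact D4Comm.xG_zero 14
    · right; left
      apply Subtype.ext
      rw [hy', hu']
      rfl
    · right; right
      apply Subtype.ext
      rw [Subgroup.coe_inv, hy', hu', ← D4Comm.xG_neg]
      rfl
  · apply Subtype.ext
    show hb φ (-1) * (u : GL chevD4.Idx F) * (hb φ (-1))⁻¹ = (u : GL chevD4.Idx F)⁻¹
    rw [hu', hb_conj, D4Comm.xG_neg]

/-- **`³D₄(3)`** -/
theorem own3_3D4 {F : Type} [Field F] [Fintype F] (hF : Fintype.card F = 3 ^ 3) [IsSimpleGroup ↥(twistedD4 F 3)]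
    (x : MulAut ↥(twistedD4 F 3)) (hx : orderOf x = 3) (hR : RC x) (hP : PA 3 x) : False := by
  have h3 : Fact (Nat.Prime 3) := ⟨Nat.prime_three⟩
  have hq : IsPrimePow 3 := Nat.prime_three.isPrimePow
  have hc : CharP F 3 := by
    refine (CharP.charP_iff_prime_eq_zero Nat.prime_three).2 ?_
    have h1 := Nat.cast_card_eq_zero F
    rw [hF] at h1
    rw [Nat.cast_pow] at h1
    exact (pow_eq_zero_iff three_ne_zero).1 h1
  obtain ⟨φ, hφ⟩ := D4Fixed.exists_frob hq hF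
  have FG := Nodes.RGDTwD4.foldGrp hφ (D4Fixed.twisted_le_fix hF hφ)
  have hW : Finite (CoxeterMatrix.G₂).Group := Nodes.RGDFold.finite_W (hp := Nodes.RGDTwD4.hp)
    (CoxeterMatrix.G₂).toCoxeterSystem Nodes.RGDTwD4.isCartan Nodes.RGDTwD4.foldData
  have R := Nodes.RGDFold.rgd (CoxeterMatrix.G₂).toCoxeterSystem Nodes.RGDTwD4.isCartan Nodes.RGDTwD4.foldData FG 3
  have hgen := Cfsg.Agent.Nodes.RGDLib.rgd_gen_of_G1 R (Nodes.RGDFold.G1_eq_top (CoxeterMatrix.G₂).toCoxeterSystem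
    Nodes.RGDTwD4.isCartan Nodes.RGDTwD4.foldData FG 3)
  have hf : ∀ i, ∀ s ∈ D4.rep i :: D4.rest i, ∀ t, ((eps s : ℤ) : F) * φ t = φ t := fun i s hs t => by
    rw [D4.eps_one i s hs, Int.cast_one, one_mul]
  refine OwnRGD.own3 R hgen (Cfsg.Agent.FixBN.TwGood.isSolvable_T Nodes.RGDTwD4.hp) (fun i hsol => ?_) x hx hR hP
  have hd : ∀ (c : Fx φ ((D4.rest i).length + 1)) hc, Phi FG (D4.nodeOK i) (hf i) (dd c hc) ∈
      RGD.B (CoxeterMatrix.G₂).toCoxeterSystem Nodes.RGDTwD4.isCartan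
        ((chevD4.diagonalSubgroup F ⊓ twistedD4 F 3).subgroupOf (twistedD4 F 3))
        (fun z => (Nodes.RGDFold.R chevD4 Nodes.RGDTwD4.hp F J (D4Fixed.sig φ) z).subgroupOf (twistedD4 F 3)) := by
    intro c hc
    refine T_le_B ?_
    have h3 : dd c hc = hS c := by
      apply Subtype.ext
      exact (coe_hS hc).symm
    rw [h3]
    exact Phi_hS FG (D4.nodeOK i) (hf i) hc
  have hi : ∀ a, Phi FG (D4.nodeOK i) (hf i) (uu a) = 1 → a = 0 := by
    intro a ha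
    refine Phi_up_injective FG (D4.nodeOK i) (hf i) ?_
    show Phi FG (D4.nodeOK i) (hf i) (SL2Hom.up a) = Phi FG (D4.nodeOK i) (hf i) (SL2Hom.up 0)
    have h3 : (SL2Hom.up (0 : Fx φ ((D4.rest i).length + 1))) = 1 := by
      apply Subtype.ext
      show (!![1, 0; 0, 1] : Matrix (Fin 2) (Fin 2) _) = 1
      exact Matrix.one_fin_two.symm
    rw [h3, map_one]
    exact ha
  have hw : Phi FG (D4.nodeOK i) (hf i) (ww 1 one_ne_zero) = ⟨nI Nodes.RGDTwD4.hp F (J i), FG.nG i⟩ := by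
    have h3 : ww (1 : Fx φ ((D4.rest i).length + 1)) one_ne_zero = wS 1 := by
      apply Subtype.ext
      exact (coe_wS one_ne_zero).symm
    rw [h3]
    exact Phi_wS FG (D4.nodeOK i) (hf i)
  have hnode := fnode_of_sl R hgen (i := i) (Phi FG (D4.nodeOK i) (hf i)) (b := 1) one_ne_zero (by
      intro y
      rw [mem_X_iff FG (D4.nodeOK i) (hf i)]
      exact ⟨fun ⟨a, e⟩ => ⟨a, e.symm⟩, fun ⟨a, e⟩ => ⟨a, e.symm⟩⟩) hi hd hw
  have hne : (R.bnPair hgen).S.Nonempty := ⟨_, 0, rfl⟩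
  have hS := SplitRGD.split_of_rgd Nat.prime_three R hgen
    (Cfsg.Agent.Tits.OfBN.normalCore_eq_bot (R.bnPair hgen) hne)
  have hQ : Nat.card (Fx φ ((D4.rest i).length + 1)) = 2 ∨ Nat.card (Fx φ ((D4.rest i).length + 1)) = 3 := by
    have hN := bn_normal (R.bnPair hgen)
    exact H460.PanL.q_of_fsol hS (Equiv.ofInjective _ R.n_injective) (i := i) hnode hsol
  have h01 : i = 0 ∨ i = 1 := by
    fin_cases i
    · exact Or.inl rfl
    · exact Or.inr rfl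
  rcases h01 with rfl | rfl
  swap
  · exfalso
    have h4 : Nat.card (Fx φ 3) = 3 ^ 3 := by
      rw [card_Fx_top, Nat.card_eq_fintype_card, hF]
      intro x
      show φ (φ (φ x)) = x
      rw [hφ, hφ, hφ, ← pow_mul, ← pow_mul]
      have h3 := FiniteField.pow_card x
      rw [hF] at h3
      exact h3
    have h5 : Nat.card (Fx φ 3) = 2 ∨ Nat.card (Fx φ 3) = 3 := hQ
    rw [h4] at h5
    rcases h5 with h5 | h5 <;> norm_num at h5
  exact node_zero hφ FG (hf 0) (card_Fx_one hq.one_lt hF hφ)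

end Cfsg.Agent.H422.OwnThreeD4
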