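import Cfsg.Agent.H422.UFourElts
import Cfsg.Agent.H422.OwnMat
import Cfsg.Agent.S0278
import Cfsg.Agent.S0815
import Cfsg.Agent.LieClassical.SUBasic

/-!
# `PSU₄(3)`: no automorphism of order 3 all of whose products of conjugates are 3-elements (S3833)
-/

set_option autoImplicit false

namespace Cfsg.Agent.H422.OwnUFour

open Subgroup Cfsg Cfsg.Agent.H460.AA Matrix Cfsg.Agent.H422.OwnMat Cfsg.Agent.ChevalleyStructure.NineField
open Cfsg.Agent.H422.UFour (M4 SU4 U4 cj mk mat mat_mk mat_mul mat_one mat_inj mat_pow)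

instance : Fact (Nat.Prime 3) := ⟨Nat.prime_three⟩
instance : CharP F9 3 := by
  refine (CharP.charP_iff_prime_eq_zero Nat.prime_three).2 ?_
  decide +kernel

abbrev V := ZMod 3 × F9 × ZMod 3

def I9 : F9 := ⟨0, 1⟩

def Pm : M4 := !![1, 0, 0, ⟨2, 0⟩; ⟨1, 1⟩, 0, 0, ⟨1, 1⟩; 0, 1, ⟨2, 0⟩, 0; 0, ⟨1, 1⟩, ⟨1, 1⟩, 0]
def Qm : M4 := !![⟨2, 0⟩, ⟨1, 2⟩, 0, 0; 0, 0, ⟨2, 0⟩, ⟨1, 2⟩; 0, 0, 1, ⟨1, 2⟩; 1, ⟨1, 2⟩, 0, 0]
def Jh : M4 := !![0, 0, 0, 1; 0, 0, 1, 0; 0, 1, 0, 0; 1, 0, 0, 0]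

theorem QP : Qm * Pm = 1 := by decide +kernel
theorem PQ : Pm * Qm = 1 := by decide +kernel
theorem PP : Pmᵀ * Pm.map cj = Jh := by decide +kernel

def herm (g : M4) : Prop := gᵀ * Jh * g.map cj = Jh

instance (g : M4) : Decidable (herm g) := by unfold herm; infer_instance

def toSU (g : M4) (h : herm g) (hd : g.det = 1) : SU4 := mk (Pm * g * Qm) (by
    have h1 : (Pm * g * Qm)ᵀ * (Pm * g * Qm).map cj =
        Qmᵀ * (gᵀ * (Pmᵀ * Pm.map cj) * g.map cj) * Qm.map cj := by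
      rw [Matrix.map_mul, Matrix.map_mul, transpose_mul, transpose_mul]
      simp only [Matrix.mul_assoc]
    rw [h1, PP, show gᵀ * Jh * g.map cj = Jh from h, ← PP]
    have h2 : Qmᵀ * (Pmᵀ * Pm.map cj) * Qm.map cj = (Pm * Qm)ᵀ * (Pm * Qm).map cj := by
      rw [Matrix.map_mul, transpose_mul]
      simp only [Matrix.mul_assoc]
    rw [h2, PQ, transpose_one, Matrix.map_one cj (map_zero cj) (map_one cj), Matrix.one_mul]) (by
    rw [det_mul, det_mul, hd, mul_one, ← det_mul, PQ, det_one])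

theorem toSU_mul {a b c : M4} (ha : herm a) (ha' : a.det = 1) (hb : herm b) (hb' : b.det = 1) (hc : herm c)
    (hc' : c.det = 1) (h : a * b = c) : toSU a ha ha' * toSU b hb hb' = toSU c hc hc' := by
  apply mat_inj
  rw [mat_mul]
  change Pm * a * Qm * (Pm * b * Qm) = Pm * c * Qm
  rw [← h]
  calc Pm * a * Qm * (Pm * b * Qm) = Pm * a * (Qm * Pm) * b * Qm := by simp only [Matrix.mul_assoc]
    _ = _ := by rw [QP, Matrix.mul_one]; simp only [Matrix.mul_assoc]

theorem toSU_inj {a b : M4} {ha : herm a} {ha' : a.det = 1} {hb : herm b} {hb' : b.det = 1}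
    (h : toSU a ha ha' = toSU b hb hb') : a = b := by
  have h1 : Pm * a * Qm = Pm * b * Qm := congrArg mat h
  have h2 : Qm * (Pm * a * Qm) * Pm = Qm * (Pm * b * Qm) * Pm := by rw [h1]
  have h3 : ∀ x : M4, Qm * (Pm * x * Qm) * Pm = x := fun x => by
    calc Qm * (Pm * x * Qm) * Pm = (Qm * Pm) * x * (Qm * Pm) := by simp only [Matrix.mul_assoc]
      _ = x := by rw [QP, Matrix.one_mul, Matrix.mul_one]
  rwa [h3, h3] at h2

/-! ### Upper unitriangular matrices -/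

def um (x12 x13 x14 x23 x24 x34 : F9) : M4 := !![1, x12, x13, x14; 0, 1, x23, x24; 0, 0, 1, x34; 0, 0, 0, 1]

theorem um_mul (x12 x13 x14 x23 x24 x34 y12 y13 y14 y23 y24 y34 : F9) :
    um x12 x13 x14 x23 x24 x34 * um y12 y13 y14 y23 y24 y34 =
      um (x12 + y12) (x13 + x12 * y23 + y13) (x14 + x13 * y34 + x12 * y24 + y14) (x23 + y23)
        (x24 + x23 * y34 + y24) (x34 + y34) := by
  apply Matrix.ext
  intro i j
  fin_cases i <;> fin_cases j <;> simp [um, Matrix.mul_apply, Fin.sum_univ_four] <;> ring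

def ic (a : ZMod 3) : F9 := ⟨0, a⟩

def nm (v : V) : M4 := um 0 v.2.1 (ic v.1) (ic v.2.2) (-cj v.2.1) 0
def hm (w : F9) : M4 := um w 0 0 0 0 (-cj w)
/-- the element with coordinates `(a, b, c), w` -/
def fm (t : V × F9) : M4 :=
  um t.2 t.1.2.1 (ic t.1.1 - cj t.2 * t.1.2.1) (ic t.1.2.2) (-cj t.1.2.1 - cj t.2 * ic t.1.2.2) (-cj t.2)

theorem nm_hm (t : V × F9) : nm t.1 * hm t.2 = fm t := by
  rw [nm, hm, um_mul, fm]
  congr 1 <;> ring

theorem ic_add : ∀ a b, ic a + ic b = ic (a + b) := by decide +kernel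

theorem nm_mul (v w : V) : nm v * nm w = nm (v + w) := by
  rw [nm, nm, um_mul, nm]
  simp only [Prod.fst_add, Prod.snd_add, map_add, ← ic_add]
  congr 1 <;> ring

theorem hm_mul (v w : F9) : hm v * hm w = hm (v + w) := by
  rw [hm, hm, um_mul, hm]
  simp only [map_add]
  congr 1 <;> ring

def imz (x : F9) : ZMod 3 := x.im
def rez (x : F9) : ZMod 3 := x.re

def act (w : F9) (v : V) : V :=
  (v.1 + 2 * imz (cj w * v.2.1) + rez (w * cj w) * v.2.2, v.2.1 + w * ic v.2.2, v.2.2)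

theorem act_a : ∀ (w b : F9) (a c : ZMod 3), ic (a + 2 * imz (cj w * b) + rez (w * cj w) * c) - cj w * (b + w * ic c) =
    ic a - w * cj b := by decide +kernel

theorem act_b : ∀ (w b : F9) (c : ZMod 3), - cj (b + w * ic c) - cj w * ic c = - cj b := by decide +kernel

theorem act_conj (w : F9) (v : V) : hm w * nm v = nm (act w v) * hm w := by
  have h1 := nm_hm (act w v, w)
  rw [h1, hm, nm, um_mul, fm]
  have h2 := act_a w v.2.1 v.1 v.2.2
  have h3 := act_b w v.2.1 v.2.2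
  dsimp only [act]
  rw [h2, h3]
  congr 1 <;> ring

theorem nm_herm : ∀ v : V, herm (nm v) := by decide +kernel
theorem hm_herm : ∀ w : F9, herm (hm w) := by decide +kernel

theorem um_det (x12 x13 x14 x23 x24 x34 : F9) : (um x12 x13 x14 x23 x24 x34).det = 1 := by
  rw [det_of_isUpperTriangular]
  · rw [Fin.prod_univ_four]
    simp [um]
  · intro i j hij
    fin_cases i <;> fin_cases j <;> simp [um] at hij ⊢

def N (v : V) : SU4 := toSU (nm v) (nm_herm v) (um_det _ _ _ _ _ _)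
def H (w : F9) : SU4 := toSU (hm w) (hm_herm w) (um_det _ _ _ _ _ _)

theorem ic_inj : ∀ a b, ic a = ic b → a = b := by decide +kernel

theorem fm_inj : Function.Injective fm := by
  intro s t h
  have h12 : s.2 = t.2 := congrFun (congrFun h 0) 1
  have h13 : s.1.2.1 = t.1.2.1 := congrFun (congrFun h 0) 2
  have h14 : ic s.1.1 - cj s.2 * s.1.2.1 = ic t.1.1 - cj t.2 * t.1.2.1 := congrFun (congrFun h 0) 3
  have h23 : ic s.1.2.2 = ic t.1.2.2 := congrFun (congrFun h 1) 2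
  rw [h12, h13] at h14
  have h1 := ic_inj _ _ (sub_left_injective h14)
  have h2 := ic_inj _ _ h23
  exact Prod.ext (Prod.ext h1 (Prod.ext h13 h2)) h12

/-! ### Products of conjugates -/

def A1 : M4 := !![-1, 0, 0, 0; 0, 0, -I9, 0; 0, -I9, 0, 0; 0, 0, 0, -1]
def A1' : M4 := !![-1, 0, 0, 0; 0, 0, I9, 0; 0, I9, 0, 0; 0, 0, 0, -1]
def p1 (x23 : F9) : F9 := 2 - 2 * I9 * I9 - I9 * I9 * x23 * x23
def A2 : M4 := !![1, 0, 0, 0; 0, 1, 0, 0; 0, 0, 1, 0; I9, 0, 0, 1]
def A2' : M4 := !![1, 0, 0, 0; 0, 1, 0, 0; 0, 0, 1, 0; -I9, 0, 0, 1]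
def p2 (x14 : F9) : F9 := 4 - I9 * I9 * x14 * x14
def A3 : M4 := !![0, 0, -I9, 0; -1, 0, 0, 0; 0, 0, -1, -1; I9, -I9, 0, 0]
def A3' : M4 := !![0, -1, 0, 0; 0, -1, 0, I9; I9, 0, 0, 0; -I9, 0, -1, 0]
def p3 (x12 x13 x14 x23 x24 x34 : F9) : F9 := 2 - 2 * I9 * I9 + x12 + I9 * I9 * x12 - I9 * x12 * x13 + I9 * x12 * x14 - I9 * x12 * x24 + I9 * I9 * x13 * x14 + I9 * x13 * x34 - I9 * I9 * x14 * x14 - I9 * I9 * x14 * x23 + I9 * I9 * x14 * x24 - I9 * x14 * x34 + I9 * x24 * x34 + x34 + I9 * I9 * x34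
def A4 : M4 := !![0, 0, 0, -I9; 0, 0, -I9, 0; 0, -I9, 0, 0; -I9, 0, 0, -1]
def A4' : M4 := !![-1, 0, 0, I9; 0, 0, I9, 0; 0, I9, 0, 0; I9, 0, 0, 0]
def p4 (x12 x13 x14 x23 x24 x34 : F9) : F9 := - 4 * I9 * I9 - 2 * I9 * I9 * x12 * x34 - 2 * I9 * I9 * x13 * x24 - I9 * I9 * x14 * x14 - I9 * I9 * x23 * x23
def A5 : M4 := !![1, 0, 0, 0; 0, 0, I9, 0; 0, I9, 0, 0; -I9, 0, 0, 1]
def A5' : M4 := !![1, 0, 0, 0; 0, 0, -I9, 0; 0, -I9, 0, 0; I9, 0, 0, 1]
def p5 (x12 x13 x14 x23 x24 x34 : F9) : F9 := 2 - 2 * I9 * I9 + 2 * I9 * I9 * x12 * x34 + 2 * I9 * I9 * x13 * x24 - I9 * I9 * x14 * x14 - I9 * I9 * x23 * x23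

theorem tr1 (x12 x13 x14 x23 x24 x34 : F9) :
    trace (um x12 x13 x14 x23 x24 x34 * (A1 * um x12 x13 x14 x23 x24 x34 * A1')) = p1 x23 := by
  simp [um, A1, A1', p1, Matrix.trace, Fin.sum_univ_four]
  ring

theorem tr2 (x12 x13 x14 x23 x24 x34 : F9) :
    trace (um x12 x13 x14 x23 x24 x34 * (A2 * um x12 x13 x14 x23 x24 x34 * A2')) = p2 x14 := by
  simp [um, A2, A2', p2, Matrix.trace, Fin.sum_univ_four]
  ring

theorem tr3 (x12 x13 x14 x23 x24 x34 : F9) :
    trace (um x12 x13 x14 x23 x24 x34 * (A3 * um x12 x13 x14 x23 x24 x34 * A3')) = p3 x12 x13 x14 x23 x24 x34 := by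
  simp [um, A3, A3', p3, Matrix.trace, Fin.sum_univ_four]
  ring

theorem tr4 (x12 x13 x14 x23 x24 x34 : F9) :
    trace (um x12 x13 x14 x23 x24 x34 * (A4 * um x12 x13 x14 x23 x24 x34 * A4')) = p4 x12 x13 x14 x23 x24 x34 := by
  simp [um, A4, A4', p4, Matrix.trace, Fin.sum_univ_four]
  ring

theorem tr5 (x12 x13 x14 x23 x24 x34 : F9) :
    trace (um x12 x13 x14 x23 x24 x34 * (A5 * um x12 x13 x14 x23 x24 x34 * A5')) = p5 x12 x13 x14 x23 x24 x34 := by
  simp [um, A5, A5', p5, Matrix.trace, Fin.sum_univ_four]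
  ring

def pp (p : F9 → F9 → F9 → F9 → F9 → F9 → F9) (t : V × F9) : F9 :=
  p t.2 t.1.2.1 (ic t.1.1 - cj t.2 * t.1.2.1) (ic t.1.2.2) (-cj t.1.2.1 - cj t.2 * ic t.1.2.2) (-cj t.2)

def pw4 (x : F9) : F9 := (x * x) * (x * x)

theorem chk : ∀ t : V × F9, t ≠ 0 → pw4 (pp (fun _ _ _ x23 _ _ => p1 x23) t) ≠ 1 ∨
    pw4 (pp (fun _ _ x14 _ _ _ => p2 x14) t) ≠ 1 ∨ pw4 (pp p3 t) ≠ 1 ∨ pw4 (pp p4 t) ≠ 1 ∨ pw4 (pp p5 t) ≠ 1 := by
  decide +kernel

theorem herm1 : herm A1 := by decide +kernel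
theorem herm1' : herm A1' := by decide +kernel
theorem herm2 : herm A2 := by decide +kernel
theorem herm2' : herm A2' := by decide +kernel
theorem herm3 : herm A3 := by decide +kernel
theorem herm3' : herm A3' := by decide +kernel
theorem herm4 : herm A4 := by decide +kernel
theorem herm4' : herm A4' := by decide +kernel
theorem herm5 : herm A5 := by decide +kernel
theorem herm5' : herm A5' := by decide +kernel
theorem det1 : A1.det = 1 := by decide +kernel
theorem det1' : A1'.det = 1 := by decide +kernel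
theorem det2 : A2.det = 1 := by decide +kernel
theorem det2' : A2'.det = 1 := by decide +kernel
theorem det3 : A3.det = 1 := by decide +kernel
theorem det3' : A3'.det = 1 := by decide +kernel
theorem det4 : A4.det = 1 := by decide +kernel
theorem det4' : A4'.det = 1 := by decide +kernel
theorem det5 : A5.det = 1 := by decide +kernel
theorem det5' : A5'.det = 1 := by decide +kernel
theorem inv1 : A1 * A1' = 1 := by decide +kernel
theorem inv2 : A2 * A2' = 1 := by decide +kernel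
theorem inv3 : A3 * A3' = 1 := by decide +kernel
theorem inv4 : A4 * A4' = 1 := by decide +kernel
theorem inv5 : A5 * A5' = 1 := by decide +kernel
theorem herm_one : herm 1 := by decide +kernel

theorem toSU_one : toSU 1 herm_one det_one = 1 := by
  apply mat_inj
  change Pm * 1 * Qm = 1
  rw [Matrix.mul_one, PQ]

theorem mat_NH (t : V × F9) : mat (N t.1 * H t.2) = Pm * fm t * Qm := by
  rw [mat_mul]
  change Pm * nm t.1 * Qm * (Pm * hm t.2 * Qm) = _
  rw [← nm_hm]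
  calc Pm * nm t.1 * Qm * (Pm * hm t.2 * Qm) = Pm * nm t.1 * (Qm * Pm) * hm t.2 * Qm := by
        simp only [Matrix.mul_assoc]
    _ = _ := by rw [QP, Matrix.mul_one]; simp only [Matrix.mul_assoc]

theorem of_PQ {a b : M4} (h : Pm * a * Qm = Pm * b * Qm) : a = b := by
  have h2 : Qm * (Pm * a * Qm) * Pm = Qm * (Pm * b * Qm) * Pm := by rw [h]
  have h3 : ∀ x : M4, Qm * (Pm * x * Qm) * Pm = x := fun x => by
    calc Qm * (Pm * x * Qm) * Pm = (Qm * Pm) * x * (Qm * Pm) := by simp only [Matrix.mul_assoc]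
      _ = x := by rw [QP, Matrix.one_mul, Matrix.mul_one]
  rwa [h3, h3] at h2

/-- the trace of `u * u ^ g` -/
theorem trace_eq (t : V × F9) {A A' : M4} (hA : herm A) (hd : A.det = 1) (hA' : herm A') (hd' : A'.det = 1)
    (h : A * A' = 1) :
    trace (mat ((N t.1 * H t.2) * (toSU A hA hd * (N t.1 * H t.2) * (toSU A hA hd)⁻¹))) =
      trace (fm t * (A * fm t * A')) := by
  have h1 : (toSU A hA hd)⁻¹ = toSU A' hA' hd' := by
    rw [inv_eq_iff_mul_eq_one, toSU_mul hA hd hA' hd' herm_one det_one h, toSU_one]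
  have h2 := mat_NH t
  obtain ⟨u, hu⟩ : ∃ u, u = N t.1 * H t.2 := ⟨_, rfl⟩
  rw [← hu] at h2 ⊢
  rw [h1, mat_mul, mat_mul, mat_mul, h2]
  change trace (Pm * fm t * Qm * (Pm * A * Qm * (Pm * fm t * Qm) * (Pm * A' * Qm))) = _
  have h3 : Pm * fm t * Qm * (Pm * A * Qm * (Pm * fm t * Qm) * (Pm * A' * Qm)) =
      Pm * (fm t * (A * fm t * A')) * Qm := by
    calc _ = Pm * fm t * (Qm * Pm) * A * (Qm * Pm) * fm t * (Qm * Pm) * A' * Qm := by
          simp only [Matrix.mul_assoc]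
      _ = _ := by rw [QP, Matrix.mul_one, Matrix.mul_one, Matrix.mul_one]; simp only [Matrix.mul_assoc]
  rw [h3, trace_mul_comm, ← Matrix.mul_assoc, QP, Matrix.one_mul]

theorem ninth : ∀ x : F9, x ^ 9 = x := by decide +kernel
theorem pw4_eq (x : F9) : pw4 x = x ^ 4 := by rw [pw4]; ring

/-- 3-elements modulo scalars of determinant one have trace a fourth root of unity -/
theorem trace_pow {M : M4} (hd : M.det = 1) {k : ℕ} {c : F9} (h : M ^ 3 ^ k = c • (1 : M4)) : pw4 (trace M) = 1 := by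
  obtain ⟨e, he⟩ := exists_nil h
  have h1 : trace M = e := by
    have h2 := (Matrix.isNilpotent_trace_of_isNilpotent he).eq_zero
    rw [trace_sub, trace_smul, trace_one, sub_eq_zero] at h2
    rw [h2]
    have h3 : ((Fintype.card (Fin 4) : ℕ) : F9) = 1 := by decide +kernel
    rw [h3, smul_eq_mul, mul_one]
  have h2 : M ^ 9 = (e ^ 9) • (1 : M4) := pow_nine_of_nil (by decide) he
  have h3 := congrArg Matrix.det h2
  rw [det_pow, hd, one_pow, det_smul, det_one, mul_one, ninth] at h3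
  rw [h1, pw4_eq, h3]
  rfl

theorem card_SU4 : Nat.card SU4 = 3 ^ 6 * 17920 := by
  have h1 := Cfsg.Agent.S0278.result (F := F9) (q := 3) (by rw [F9.card_F9]; norm_num) 4 (by norm_num)
  have h2 : (3 + 1) * Nat.card SU4 = 52254720 := by
    rw [h1]
    decide +kernel
  omega

instance : Finite SU4 := Nat.finite_of_card_ne_zero (by rw [card_SU4]; norm_num)

theorem simple_U4 : IsSimpleGroup U4 :=
  Cfsg.Agent.S0283.result (F := F9) (q := 3) (by rw [F9.card_F9]; norm_num) 4 (by norm_num) (by norm_num)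

def matHom : SU4 →* M4 where
  toFun := mat
  map_one' := rfl
  map_mul' := mat_mul

theorem center_scalar {z : SU4} (hz : z ∈ center SU4) : ∃ r : F9, r ^ 4 = 1 ∧ mat z = r • (1 : M4) := by
  obtain ⟨c, h1, h2, rfl⟩ := (LieClassical.SUBasic.mem_center_SU_iff (q := 3) (by rw [F9.card_F9]; norm_num)
    (by norm_num) z).1 hz
  refine ⟨c, h1, ?_⟩
  rw [Matrix.smul_one_eq_diagonal]
  exact LieClassical.SUBasic.coe_suScalar 3 c h1 h2

theorem comm_ne : ∀ r : F9, A1 * A3 * A1' * A3' ≠ r • (1 : M4) := by decide +kernel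

theorem non_comm : ¬ IsMulCommutative U4 := by
  intro h
  have h1 : ∀ a b : SU4, a * b * a⁻¹ * b⁻¹ ∈ center SU4 := fun a b => by
    rw [← QuotientGroup.eq_one_iff]
    have h2 := h.is_comm.comm (a : U4) (b : U4)
    simp only [QuotientGroup.mk_mul, QuotientGroup.mk_inv]
    rw [h2]
    group
  have e1 : (toSU A1 herm1 det1)⁻¹ = toSU A1' herm1' det1' := by
    rw [inv_eq_iff_mul_eq_one, toSU_mul _ _ _ _ herm_one det_one inv1, toSU_one]
  have e2 : (toSU A3 herm3 det3)⁻¹ = toSU A3' herm3' det3' := by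
    rw [inv_eq_iff_mul_eq_one, toSU_mul _ _ _ _ herm_one det_one inv3, toSU_one]
  obtain ⟨r, -, h2⟩ := center_scalar (h1 (toSU A1 herm1 det1) (toSU A3 herm3 det3))
  rw [e1, e2, mat_mul, mat_mul, mat_mul] at h2
  have h3 : Pm * (A1 * A3 * A1' * A3') * Qm = Pm * (r • (1 : M4)) * Qm := by
    rw [Matrix.mul_smul, Matrix.smul_mul, Matrix.mul_one, PQ, ← h2]
    change _ = Pm * A1 * Qm * (Pm * A3 * Qm) * (Pm * A1' * Qm) * (Pm * A3' * Qm)
    calc Pm * (A1 * A3 * A1' * A3') * Qm = Pm * A1 * 1 * A3 * 1 * A1' * 1 * A3' * Qm := by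
          simp only [Matrix.mul_assoc, Matrix.mul_one]
      _ = _ := by rw [← QP]; simp only [Matrix.mul_assoc]
  exact comm_ne r (of_PQ h3)

/-- the criterion for one product -/
theorem of_pw4 {t : V × F9} {A A' : M4} (hA : herm A) (hd : A.det = 1) (hA' : herm A') (hd' : A'.det = 1)
    (h : A * A' = 1) {p : F9} (hp : trace (fm t * (A * fm t * A')) = p) (h2 : pw4 p ≠ 1) (k : ℕ) (r : F9) :
    (matHom ((N t.1 * H t.2) * (toSU A hA hd * (N t.1 * H t.2) * (toSU A hA hd)⁻¹))) ^ 3 ^ k ≠ r • (1 : M4) := by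
  intro h3
  apply h2
  rw [← hp, ← trace_eq t hA hd hA' hd' h]
  exact trace_pow (Matrix.SpecialLinearGroup.det_coe _) h3

theorem elt (a : U4) (ha : orderOf a = 3) (hP : ∀ g, PE 3 (a * (g * a * g⁻¹))) : False := by
  refine false_of_check' (G := SU4) (ι := Fin 4) (F := F9) matHom ?_ (fun z hz => ?_)
    (T := V × F9) (fun t => N t.1 * H t.2) ?_ 0 ?_ ?_ (n := 6) (m := 17920) ?_ card_SU4
    (by norm_num) ?_ a ha hP
  · intro z hz
    obtain ⟨r, hr, h1⟩ := center_scalar hz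
    apply mat_inj
    rw [mat_pow, h1, smul_pow, one_pow, hr, one_smul, mat_one]
  · obtain ⟨r, -, h1⟩ := center_scalar hz
    exact ⟨r, h1⟩
  · intro s t h
    apply fm_inj
    have h1 := congrArg mat h
    dsimp only at h1
    rw [mat_NH, mat_NH] at h1
    exact of_PQ h1
  · apply mat_inj
    refine (mat_NH 0).trans ?_
    rw [ show fm 0 = 1 by decide +kernel, Matrix.mul_one, PQ, mat_one]
  · exact mul_mem_prod N H act (fun v w => toSU_mul _ _ _ _ _ _ (nm_mul v w)) (fun v w => toSU_mul _ _ _ _ _ _ (hm_mul v w))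
      fun w v => by
        apply mat_inj
        rw [mat_mul, mat_mul]
        change Pm * hm w * Qm * (Pm * nm v * Qm) = Pm * nm (act w v) * Qm * (Pm * hm w * Qm)
        calc Pm * hm w * Qm * (Pm * nm v * Qm) = Pm * hm w * (Qm * Pm) * nm v * Qm := by
              simp only [Matrix.mul_assoc]
          _ = Pm * (hm w * nm v) * Qm := by rw [QP, Matrix.mul_one]; simp only [Matrix.mul_assoc]
          _ = Pm * nm (act w v) * (Qm * Pm) * hm w * Qm := by
              rw [QP, Matrix.mul_one, act_conj]; simp only [Matrix.mul_assoc]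
          _ = _ := by simp only [Matrix.mul_assoc]
  · rw [Nat.card_eq_fintype_card]; decide +kernel
  · intro t ht
    rcases chk t ht with h | h | h | h | h
    · exact ⟨_, of_pw4 herm1 det1 herm1' det1' inv1 (tr1 _ _ _ _ _ _) h⟩
    · exact ⟨_, of_pw4 herm2 det2 herm2' det2' inv2 (tr2 _ _ _ _ _ _) h⟩
    · exact ⟨_, of_pw4 herm3 det3 herm3' det3' inv3 (tr3 _ _ _ _ _ _) h⟩
    · exact ⟨_, of_pw4 herm4 det4 herm4' det4' inv4 (tr4 _ _ _ _ _ _) h⟩
    · exact ⟨_, of_pw4 herm5 det5 herm5' det5' inv5 (tr5 _ _ _ _ _ _) h⟩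

theorem own3_psu43 (x : MulAut U4) (hx : orderOf x = 3) (hP : PA 3 x) : False := by
  have h1 := Cfsg.Agent.S0815.result (F := F9) 3 1 le_rfl (q := 3) rfl (by rw [F9.card_F9]; norm_num) 4 (by norm_num)
    (by norm_num)
  exact false_of_inner simple_U4 non_comm (o := 8) h1 (by norm_num) elt x hx hP

end Cfsg.Agent.H422.OwnUFour
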