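import Cfsg.Agent.H422.OwnLThree
import Cfsg.Agent.H422.OwnSpFour
import Cfsg.Agent.H422.OwnUFour
import Cfsg.Agent.H422.OwnGTwo
import Cfsg.Agent.H422.OwnThreeD4
import Cfsg.Agent.LieClassical.FieldTransfer
import Cfsg.Agent.S0822

/-!
# The groups of rank two over the field with three elements (task OWN3 for S3833)

For `K = PSL₃(3)`, `PSp₄(3)`, `PSU₄(2)`, `PSU₄(3)`, `G₂(3)`, `³D₄(3)`: no automorphism of order 3 with `RC` and `PA 3`.
-/

set_option autoImplicit false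

namespace Cfsg.Agent.H422.OwnAll

open Cfsg Cfsg.Agent.H459.Rad Cfsg.Agent.H460.AA Cfsg.Agent.ChevalleyStructure.NineField Cfsg.Agent.LieClassical.FieldTransfer

theorem transport {K L : Type} [Group K] [Group L] (e : K ≃* L)
    (h : ∀ x : MulAut L, orderOf x = 3 → PA 3 x → False) (x : MulAut K) (hx : orderOf x = 3) (hP : PA 3 x) : False :=
  h (tr e x) (by rw [orderOf_tr, hx]) (PA_tr e hP)

instance : Fact (Nat.Prime 3) := ⟨Nat.prime_three⟩

/-- `PSL₃(3)` -/
theorem own3_PSL3 {F : Type} [Field F] [Fintype F] (hF : Fintype.card F = 3)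
    (x : MulAut (Matrix.ProjectiveSpecialLinearGroup (Fin 3) F)) (hx : orderOf x = 3) (_hR : RC x) (hP : PA 3 x) :
    False := by
  have e : F ≃+* ZMod 3 := FiniteField.ringEquivOfCardEq (by rw [hF, ZMod.card])
  exact transport (pslCongr e) OwnLThree.own3_psl33 x hx hP

/-- `PSp₄(3)` -/
theorem own3_PSp4 {F : Type} [Field F] [Fintype F] (hF : Fintype.card F = 3)
    (x : MulAut (PSp 2 F)) (hx : orderOf x = 3) (_hR : RC x) (hP : PA 3 x) : False := by
  have e : F ≃+* ZMod 3 := FiniteField.ringEquivOfCardEq (by rw [hF, ZMod.card])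
  exact transport (pspCongr 2 e) OwnSpFour.own3_psp43 x hx hP

/-- `PSU₄(2)` -/
theorem own3_PSU4_two {F : Type} [Field F] [Fintype F] (hF : Fintype.card F = 2 ^ 2)
    (x : MulAut (PSU 4 F 2)) (hx : orderOf x = 3) (_hR : RC x) (hP : PA 3 x) : False := by
  obtain ⟨e⟩ := Cfsg.Agent.S0822.result (K := ZMod 3) (hF.trans (by norm_num)) (ZMod.card 3)
  exact transport e OwnSpFour.own3_psp43 x hx hP

/-- `PSU₄(3)` -/
theorem own3_PSU4_three {F : Type} [Field F] [Fintype F] (hF : Fintype.card F = 3 ^ 2)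
    (x : MulAut (PSU 4 F 3)) (hx : orderOf x = 3) (_hR : RC x) (hP : PA 3 x) : False := by
  have e : F ≃+* F9 := FiniteField.ringEquivOfCardEq (by rw [hF, F9.card_F9]; norm_num)
  exact transport (psuCongr 4 3 e) OwnUFour.own3_psu43 x hx hP

/-- `PSU₄(q)`, `q = 2, 3` -/
theorem own3_PSU4 {F : Type} [Field F] [Fintype F] {q : ℕ} (hF : Fintype.card F = q ^ 2) (hq : q = 2 ∨ q = 3)
    (x : MulAut (PSU (2 * 2) F q)) (hx : orderOf x = 3) (hR : RC x) (hP : PA 3 x) : False := by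
  rcases hq with rfl | rfl
  · exact own3_PSU4_two hF x hx hR hP
  · exact own3_PSU4_three hF x hx hR hP

/-- `G₂(3)` -/
theorem own3_G2 (F : Type) [Field F] [Finite F] (hF : Nat.card F = 3) [IsSimpleGroup ↥(Lie.chevG2.group F)]
    (x : MulAut ↥(Lie.chevG2.group F)) (hx : orderOf x = 3) (hR : RC x) (hP : PA 3 x) : False :=
  OwnGTwo.own3_g2 F hF x hx hR hP

/-- `³D₄(3)` -/
theorem own3_3D4 {F : Type} [Field F] [Fintype F] {q : ℕ} (hF : Fintype.card F = q ^ 3) (hq : q = 3)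
    [IsSimpleGroup ↥(Lie.twistedD4 F q)]
    (x : MulAut ↥(Lie.twistedD4 F q)) (hx : orderOf x = 3) (hR : RC x) (hP : PA 3 x) : False := by
  subst hq
  exact OwnThreeD4.own3_3D4 hF x hx hR hP

end Cfsg.Agent.H422.OwnAll
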