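import Cfsg.Agent.H459.Gallery
import Cfsg.Agent.FixBN.Split
import Cfsg.Agent.H460.AADef
import Cfsg.Agent.SmallSimple.SylowMaxInter

/-!
# Products of two conjugates of an element of order 3 in characteristic 3 (S3833): groups of rank two over `F₃`

`OddNode P s u h` : the panel of `s` has the four chambers `B, sB, usB, u⁻¹sB` and `h` interchanges the last two.
`false_of_odd` : a split (B,N)-pair of characteristic 3 and rank two, all solvable nodes odd: no automorphism of order 3
with `RC` and `PA`.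
-/

set_option autoImplicit false

namespace Cfsg.Agent.H422.OwnBN

open Cfsg Subgroup Cfsg.Agent.H459.Rad Cfsg.Agent.H459.Gallery Cfsg.Agent.H460.AA Cfsg.Agent.Schreier.BNSch
  Cfsg.Agent.FixBN
open scoped Pointwise

section Comb

variable {M Ω : Type*} [Group M] [MulAction M Ω]

/-- no two points are interchanged -/
def NS (Ω : Type*) [MulAction M Ω] (z : M) : Prop := ∀ a b : Ω, z • a = b → z • b = a → a = b

theorem ns_of_pe {z : M} (h : PE 3 z) : NS Ω z := by
  intro a b h1 h2
  have : Fact (Nat.Prime 3) := ⟨Nat.prime_three⟩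
  obtain ⟨k, hk⟩ := PE.pow_eq_one_iff.1 h
  have h3 : ∀ n : ℕ, z ^ (2 * n) • a = a := by
    intro n
    induction n with
    | zero => simp
    | succ n ih =>
      rw [show 2 * (n + 1) = 1 + 1 + 2 * n by ring, pow_add, pow_add, pow_one, mul_smul, mul_smul, ih, h1, h2]
  obtain ⟨n, hn⟩ : Odd (3 ^ k) := Odd.pow (by decide)
  rw [hn, pow_succ', ] at hk
  have h4 : (z * z ^ (2 * n)) • a = b := by rw [mul_smul, h3, h1]
  rw [hk, one_smul] at h4
  exact h4

/-- a three-cycle -/
theorem cyc {y s h : M} {c a0 a1 a2 : Ω} (hys : NS Ω (y * (s * y * s⁻¹)))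
    (hysh : NS Ω (y * (s * h * y * (s * h)⁻¹))) (hc : y • c = c)
    (n1 : a1 ≠ c) (n2 : a2 ≠ c) (n01 : a0 ≠ a1) (n02 : a0 ≠ a2) (n12 : a1 ≠ a2)
    (hsc : s • c = a0) (hs0 : s • a0 = c) (hs1 : s • a1 = c ∨ s • a1 = a0 ∨ s • a1 = a1 ∨ s • a1 = a2)
    (hs2 : s • a2 = c ∨ s • a2 = a0 ∨ s • a2 = a1 ∨ s • a2 = a2)
    (hhc : h • c = c) (hh0 : h • a0 = a0) (hh1 : h • a1 = a2) (hh2 : h • a2 = a1)
    (y0 : y • a0 = a1) (y1 : y • a1 = a2) (y2 : y • a2 = a0) : False := by
  have key : ∀ k : M, k • c = a0 → k • a0 = c → k • a1 = a1 → k • a2 = a2 → NS Ω (y * (k * y * k⁻¹)) → False := by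
    intro k k1 k2 k3 k4 hk
    refine n2 (hk a2 c ?_ ?_)
    · have e : k⁻¹ • a2 = a2 := by rw [inv_smul_eq_iff, k4]
      rw [mul_smul, mul_smul, mul_smul, e, y2, k2, hc]
    · have e : k⁻¹ • c = a0 := by rw [inv_smul_eq_iff, k2]
      rw [mul_smul, mul_smul, mul_smul, e, y0, k3, y1]
  have f1 : s • a1 ≠ c := fun h => n01 (by rw [← hs0] at h; exact (smul_left_cancel s h).symm)
  have f2 : s • a1 ≠ a0 := fun h => n1 (by rw [← hsc] at h; exact smul_left_cancel s h)
  have f3 : s • a2 ≠ c := fun h => n02 (by rw [← hs0] at h; exact (smul_left_cancel s h).symm)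
  have f4 : s • a2 ≠ a0 := fun h => n2 (by rw [← hsc] at h; exact smul_left_cancel s h)
  rcases hs1 with h1 | h1 | h1 | h1
  · exact f1 h1
  · exact f2 h1
  · rcases hs2 with h2 | h2 | h2 | h2
    · exact f3 h2
    · exact f4 h2
    · exact n12 (smul_left_cancel s (h1.trans h2.symm))
    · exact key s hsc hs0 h1 h2 hys
  · rcases hs2 with h2 | h2 | h2 | h2
    · exact f3 h2
    · exact f4 h2
    · refine key (s * h) ?_ ?_ ?_ ?_ hysh
      · rw [mul_smul, hhc, hsc]
      · rw [mul_smul, hh0, hs0]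
      · rw [mul_smul, hh1, h2]
      · rw [mul_smul, hh2, h1]
    · exact n12 (smul_left_cancel s (h1.trans h2.symm))

theorem comb {y s h : M} {c a0 a1 a2 : Ω} (hy : NS Ω y) (hys : NS Ω (y * (s * y * s⁻¹)))
    (hysh : NS Ω (y * (s * h * y * (s * h)⁻¹))) (hc : y • c = c)
    (n0 : a0 ≠ c) (n1 : a1 ≠ c) (n2 : a2 ≠ c)
    (hsc : s • c = a0) (hs0 : s • a0 = c) (hs1 : s • a1 = c ∨ s • a1 = a0 ∨ s • a1 = a1 ∨ s • a1 = a2)
    (hs2 : s • a2 = c ∨ s • a2 = a0 ∨ s • a2 = a1 ∨ s • a2 = a2)
    (hhc : h • c = c) (hh0 : h • a0 = a0) (hh1 : h • a1 = a2) (hh2 : h • a2 = a1)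
    (y0 : y • a0 = c ∨ y • a0 = a0 ∨ y • a0 = a1 ∨ y • a0 = a2)
    (y1 : y • a1 = c ∨ y • a1 = a0 ∨ y • a1 = a1 ∨ y • a1 = a2)
    (y2 : y • a2 = c ∨ y • a2 = a0 ∨ y • a2 = a1 ∨ y • a2 = a2) : y • a0 = a0 ∧ y • a1 = a1 ∧ y • a2 = a2 := by
  have g0 : y • a0 ≠ c := fun h => n0 (by rw [← hc] at h; exact smul_left_cancel y h)
  have g1 : y • a1 ≠ c := fun h => n1 (by rw [← hc] at h; exact smul_left_cancel y h)
  have g2 : y • a2 ≠ c := fun h => n2 (by rw [← hc] at h; exact smul_left_cancel y h)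
  -- two points with the same image
  have inj : ∀ {a b : Ω}, y • a = y • b → a = b := fun h => smul_left_cancel y h
  by_cases e01 : a0 = a1
  · subst e01
    rcases y0 with h0 | h0 | h0 | h0
    · exact absurd h0 g0
    · refine ⟨h0, h0, ?_⟩
      rcases y2 with h2 | h2 | h2 | h2
      · exact absurd h2 g2
      · have := inj (h0.trans h2.symm); rw [← this]; exact h0
      · have := inj (h0.trans h2.symm); rw [← this]; exact h0
      · exact h2
    · refine ⟨h0, h0, ?_⟩
      rcases y2 with h2 | h2 | h2 | h2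
      · exact absurd h2 g2
      · have := inj (h0.trans h2.symm); rw [← this]; exact h0
      · have := inj (h0.trans h2.symm); rw [← this]; exact h0
      · exact h2
    · rcases y2 with h2 | h2 | h2 | h2
      · exact absurd h2 g2
      · have := hy _ _ h0 h2; subst this; exact ⟨h0, h0, h0⟩
      · have := hy _ _ h0 h2; subst this; exact ⟨h0, h0, h0⟩
      · have := inj (h0.trans h2.symm); subst this; exact ⟨h0, h0, h0⟩
  by_cases e02 : a0 = a2
  · subst e02
    rcases y0 with h0 | h0 | h0 | h0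
    · exact absurd h0 g0
    · refine ⟨h0, ?_, h0⟩
      rcases y1 with h2 | h2 | h2 | h2
      · exact absurd h2 g1
      · have := inj (h0.trans h2.symm); rw [← this]; exact h0
      · exact h2
      · have := inj (h0.trans h2.symm); rw [← this]; exact h0
    · rcases y1 with h2 | h2 | h2 | h2
      · exact absurd h2 g1
      · have := hy _ _ h0 h2; subst this; exact ⟨h0, h0, h0⟩
      · have := inj (h0.trans h2.symm); subst this; exact ⟨h0, h0, h0⟩
      · have := hy _ _ h0 h2; subst this; exact ⟨h0, h0, h0⟩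
    · refine ⟨h0, ?_, h0⟩
      rcases y1 with h2 | h2 | h2 | h2
      · exact absurd h2 g1
      · have := inj (h0.trans h2.symm); rw [← this]; exact h0
      · exact h2
      · have := inj (h0.trans h2.symm); rw [← this]; exact h0
  by_cases e12 : a1 = a2
  · -- `h` exchanges them, fine: same image
    subst e12
    rcases y1 with h1 | h1 | h1 | h1
    · exact absurd h1 g1
    · rcases y0 with h0 | h0 | h0 | h0
      · exact absurd h0 g0
      · exact absurd (inj (h0.trans h1.symm)) e01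
      · exact absurd (hy _ _ h0 h1) e01
      · exact absurd (hy _ _ h0 h1) e01
    · rcases y0 with h0 | h0 | h0 | h0
      · exact absurd h0 g0
      · exact ⟨h0, h1, h1⟩
      · exact absurd (inj (h0.trans h1.symm)) e01
      · exact absurd (inj (h0.trans h1.symm)) e01
    · rcases y0 with h0 | h0 | h0 | h0
      · exact absurd h0 g0
      · exact ⟨h0, h1, h1⟩
      · exact absurd (inj (h0.trans h1.symm)) e01
      · exact absurd (inj (h0.trans h1.symm)) e01
  rcases y0 with h0 | h0 | h0 | h0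
  · exact absurd h0 g0
  · rcases y1 with h1 | h1 | h1 | h1
    · exact absurd h1 g1
    · exact absurd (inj (h0.trans h1.symm)) e01
    · rcases y2 with h2 | h2 | h2 | h2
      · exact absurd h2 g2
      · exact absurd (inj (h0.trans h2.symm)) e02
      · exact absurd (inj (h1.trans h2.symm)) e12
      · exact ⟨h0, h1, h2⟩
    · rcases y2 with h2 | h2 | h2 | h2
      · exact absurd h2 g2
      · exact absurd (inj (h0.trans h2.symm)) e02
      · exact absurd (hy _ _ h1 h2) e12
      · exact absurd (inj (h1.trans h2.symm)) e12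
  · rcases y1 with h1 | h1 | h1 | h1
    · exact absurd h1 g1
    · exact absurd (hy _ _ h0 h1) e01
    · exact absurd (inj (h0.trans h1.symm)) e01
    · rcases y2 with h2 | h2 | h2 | h2
      · exact absurd h2 g2
      · exact (cyc hys hysh hc n1 n2 e01 e02 e12 hsc hs0 hs1 hs2 hhc hh0 hh1 hh2 h0 h1 h2).elim
      · exact absurd (inj (h0.trans h2.symm)) e02
      · exact absurd (inj (h1.trans h2.symm)) e12
  · rcases y2 with h2 | h2 | h2 | h2
    · exact absurd h2 g2
    · exact absurd (hy _ _ h0 h2) e02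
    · rcases y1 with h1 | h1 | h1 | h1
      · exact absurd h1 g1
      · refine (cyc hys hysh hc n2 n1 e02 e01 (Ne.symm e12) hsc hs0 ?_ ?_ hhc hh0 hh2 hh1 h0 h2 h1).elim
        · rcases hs2 with h | h | h | h
          · exact Or.inl h
          · exact Or.inr (Or.inl h)
          · exact Or.inr (Or.inr (Or.inr h))
          · exact Or.inr (Or.inr (Or.inl h))
        · rcases hs1 with h | h | h | h
          · exact Or.inl h
          · exact Or.inr (Or.inl h)
          · exact Or.inr (Or.inr (Or.inr h))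
          · exact Or.inr (Or.inr (Or.inl h))
      · exact absurd (inj (h1.trans h2.symm)) e12
      · exact absurd (inj (h0.trans h1.symm)) e01
    · exact absurd (inj (h0.trans h2.symm)) e02

end Comb

section Node

variable {K : Type*} [Group K] [Finite K]

/-- the conjugate `g B g⁻¹` -/
def pt (P : BNPair K) (g : K) : Subgroup K := MulAut.conj g • P.B

variable {P : BNPair K}

omit [Finite K] in
theorem pt_eq (hN : normalizer (P.B : Set K) = P.B) {g k : K} : pt P g = pt P k ↔ g⁻¹ * k ∈ P.B := by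
  unfold pt
  constructor
  · intro h
    rw [← hN, Subgroup.mem_normalizer_iff_map_conj_eq]
    have h1 : (MulAut.conj (g⁻¹ * k)) • P.B = P.B := by
      rw [map_mul, mul_smul, ← h, ← mul_smul, ← map_mul, inv_mul_cancel, map_one, one_smul]
    exact h1
  · intro h
    have h1 : (MulAut.conj (g⁻¹ * k)) • P.B = P.B := by
      have h2 := Subgroup.mem_normalizer_iff_map_conj_eq.1 (le_normalizer h)
      exact h2
    have e : k = g * (g⁻¹ * k) := by group
    rw [e, map_mul, mul_smul, h1]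

omit [Finite K] in
theorem conj_smul_pt (k g : K) : MulAut.conj k • pt P g = pt P (k * g) := by
  unfold pt
  rw [map_mul, mul_smul]

theorem smul_pt {y : MulAut K} (hy : Iv y P.B) (g : K) : y • pt P g = pt P (y g) := by
  unfold pt
  have h1 : y * MulAut.conj g = MulAut.conj (y g) * y := by
    ext l
    simp [MulAut.mul_apply]
  have h2 : y • P.B = P.B := hy.map_eq
  rw [← mul_smul, h1, mul_smul, h2]

/-- A panel with the chambers `B, sB, usB, u⁻¹sB`, the last two interchanged by `h`. -/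
structure OddNode (P : BNPair K) (s u h : K) : Prop where
  uB : u ∈ P.B
  hB : h ∈ P.B
  cov : ∀ g ∈ P.parabolic {s}, g ∈ P.B ∨ s⁻¹ * g ∈ P.B ∨ (u * s)⁻¹ * g ∈ P.B ∨ (u⁻¹ * s)⁻¹ * g ∈ P.B
  h0 : s⁻¹ * (h * s) ∈ P.B
  h1 : (u⁻¹ * s)⁻¹ * (h * (u * s)) ∈ P.B
  h2 : (u * s)⁻¹ * (h * (u⁻¹ * s)) ∈ P.B

theorem OddNode.fixed {s u h : K} (O : OddNode P s u h) (hN : normalizer (P.B : Set K) = P.B) (hs : s ∈ P.S)
    {y : MulAut K} (hB : Iv y P.B) (hM : Iv y (P.parabolic {s})) (hy : PE 3 y) (hP : PA 3 y) :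
    ∀ g ∈ P.parabolic {s}, g⁻¹ * y g ∈ P.B := by
  have hsB : s ∉ P.B := not_mem_B P hs
  have hss : s * s ∈ P.B := P.sq_mem s hs
  have hsM := mem_parabolic_self P s
  have hBM : P.B ≤ P.parabolic {s} := B_le_parabolic P _
  have hpt : ∀ g ∈ P.parabolic {s}, pt P g = pt P 1 ∨ pt P g = pt P s ∨ pt P g = pt P (u * s) ∨
      pt P g = pt P (u⁻¹ * s) := by
    intro g hg
    rcases O.cov g hg with h | h | h | h
    · exact Or.inl (((pt_eq hN).2 (by rwa [inv_one, one_mul])).symm)
    · exact Or.inr (Or.inl ((pt_eq hN).2 h).symm)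
    · exact Or.inr (Or.inr (Or.inl ((pt_eq hN).2 h).symm))
    · exact Or.inr (Or.inr (Or.inr ((pt_eq hN).2 h).symm))
  have huM : u * s ∈ P.parabolic {s} := mul_mem (hBM O.uB) hsM
  have huM' : u⁻¹ * s ∈ P.parabolic {s} := mul_mem (hBM (inv_mem O.uB)) hsM
  have n0 : pt P s ≠ pt P 1 := by
    rw [Ne, pt_eq hN, mul_one]
    exact fun h => hsB (inv_mem_iff.1 h)
  have n1 : pt P (u * s) ≠ pt P 1 := by
    rw [Ne, pt_eq hN, mul_one]
    exact fun h => hsB ((mul_mem_cancel_left O.uB).1 (inv_mem_iff.1 h))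
  have n2 : pt P (u⁻¹ * s) ≠ pt P 1 := by
    rw [Ne, pt_eq hN, mul_one]
    exact fun h => hsB ((mul_mem_cancel_left (inv_mem O.uB)).1 (inv_mem_iff.1 h))
  have hc := comb (Ω := Subgroup K) (y := y) (s := MulAut.conj s) (h := MulAut.conj h) (c := pt P 1) (a0 := pt P s)
    (a1 := pt P (u * s)) (a2 := pt P (u⁻¹ * s)) (ns_of_pe hy) (ns_of_pe (hP s))
    (ns_of_pe (by rw [← map_mul]; exact hP (s * h))) (by rw [smul_pt hB, map_one]) n0 n1 n2
    (by rw [conj_smul_pt, mul_one])
    (by rw [conj_smul_pt, pt_eq hN, mul_one]; exact inv_mem hss)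
    (by rw [conj_smul_pt]; exact hpt _ (mul_mem hsM huM))
    (by rw [conj_smul_pt]; exact hpt _ (mul_mem hsM huM'))
    (by rw [conj_smul_pt, pt_eq hN, mul_one, mul_one]; exact inv_mem O.hB)
    (by rw [conj_smul_pt, eq_comm, pt_eq hN]; exact O.h0)
    (by rw [conj_smul_pt, eq_comm, pt_eq hN]; exact O.h1)
    (by rw [conj_smul_pt, eq_comm, pt_eq hN]; exact O.h2)
    (by rw [smul_pt hB]; exact hpt _ (hM s hsM))
    (by rw [smul_pt hB]; exact hpt _ (hM _ huM))
    (by rw [smul_pt hB]; exact hpt _ (hM _ huM'))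
  obtain ⟨c0, c1, c2⟩ := hc
  intro g hg
  have key : y • pt P g = pt P g := by
    rcases hpt g hg with h | h | h | h
    · rw [h, smul_pt hB, map_one]
    · rw [h, c0]
    · rw [h, c1]
    · rw [h, c2]
  rw [smul_pt hB, eq_comm, pt_eq hN] at key
  exact key

/-! ### The theorem -/

/-- the unipotent radical is a Sylow subgroup (copied from `H459.RgdRad`) -/
theorem exists_sylow {r : ℕ} [Fact r.Prime] {U : Subgroup K} (S : Split P r U) :
    ∃ U' : Sylow r K, (U' : Subgroup K) = U := by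
  obtain ⟨Q, hQ⟩ := IsPGroup.exists_le_sylow S.isP
  refine ⟨Q, ?_⟩
  by_contra hne
  have h4 := SmallSimple.SylowMaxInter.lt_inf_normalizer Q.isPGroup' (lt_of_le_of_ne hQ (Ne.symm hne))
  refine absurd h4 (not_lt_of_ge ?_)
  rintro g ⟨hgQ, hgN⟩
  rw [S.normalizer_eq] at hgN
  obtain ⟨k, hk⟩ := Q.isPGroup' ⟨g, hgQ⟩
  exact S.mem_of_pow hgN (n := k) (congrArg Subtype.val hk)

/-- an automorphism of order `r` fixes a Borel subgroup -/
theorem exists_borel {r : ℕ} [hr : Fact r.Prime] {U : Subgroup K} (S : Split P r U) {x : MulAut K}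
    (hx : ∃ k : ℕ, x ^ r ^ k = 1) : ∃ g, Iv (cx x g) P.B := by
  classical
  obtain ⟨U', hU'⟩ := exists_sylow S
  have hfin : Finite (Sylow r K) := inferInstance
  have : Fintype (Sylow r K) := Fintype.ofFinite _
  let σ : Equiv.Perm (Sylow r K) := MulAction.toPerm x
  obtain ⟨k, hk⟩ := hx
  have hσ : σ ^ r ^ k = 1 := by
    have h1 : ∀ n, σ ^ n = MulAction.toPerm (x ^ n) := fun n => (map_pow (MulAction.toPermHom (MulAut K) (Sylow r K)) x n).symm
    rw [h1, hk]
    exact map_one (MulAction.toPermHom (MulAut K) (Sylow r K))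
  have hnd : ¬ r ∣ Fintype.card (Sylow r K) := by
    rw [← Nat.card_eq_fintype_card]
    exact not_dvd_card_sylow r K
  obtain ⟨Q, hQ⟩ := Equiv.Perm.exists_fixed_point_of_prime (p := r) (n := k) hnd hσ
  have hQ' : x • Q = Q := hQ
  obtain ⟨g, hg⟩ := MulAction.exists_smul_eq K U' Q
  refine ⟨g, ?_⟩
  have hUQ : ∀ u, u ∈ U ↔ g * u * g⁻¹ ∈ (Q : Subgroup K) := by
    intro u
    rw [← hg, Sylow.coe_subgroup_smul, ← hU']
    constructor
    · intro hu
      exact Subgroup.smul_mem_pointwise_smul u (MulAut.conj g) U'.toSubgroup hu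
    · intro hu
      rw [Subgroup.mem_pointwise_smul_iff_inv_smul_mem] at hu
      have e : (MulAut.conj g)⁻¹ • (g * u * g⁻¹) = u := by
        rw [← map_inv]
        change (MulAut.conj g⁻¹) (g * u * g⁻¹) = u
        rw [MulAut.conj_apply]
        group
      rwa [e] at hu
  have hIU : Iv (cx x g) U := by
    intro u hu
    rw [hUQ] at hu ⊢
    rw [cx_apply]
    have h1 : x (g * u * g⁻¹) ∈ ((x • Q : Sylow r K) : Subgroup K) := by
      rw [Sylow.pointwise_smul_def]
      exact Subgroup.smul_mem_pointwise_smul _ x Q.toSubgroup hu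
    rw [hQ'] at h1
    have e : g * (g⁻¹ * x (g * u * g⁻¹) * g) * g⁻¹ = x (g * u * g⁻¹) := by group
    rwa [e]
  rw [← S.normalizer_eq]
  apply iv_of_map_eq
  have h2 := Subgroup.map_equiv_normalizer_eq U (cx x g)
  rw [hIU.map_eq] at h2
  exact h2

omit [Finite K] in
theorem PA_cx {p : ℕ} {x : MulAut K} (h : PA p x) (g : K) : PA p (cx x g) := by
  intro k
  have h1 := (h (g * k * g⁻¹)).conj (MulAut.conj g)⁻¹
  have e : cx x g * (MulAut.conj k * cx x g * (MulAut.conj k)⁻¹) =
      (MulAut.conj g)⁻¹ * (x * (MulAut.conj (g * k * g⁻¹) * x * (MulAut.conj (g * k * g⁻¹))⁻¹)) *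
        ((MulAut.conj g)⁻¹)⁻¹ := by
    unfold cx
    rw [map_mul, map_mul, map_inv]
    group
  rwa [e]

omit [Finite K] in
theorem PE_cx {p : ℕ} {x : MulAut K} (h : PE p x) (g : K) : PE p (cx x g) := by
  have h1 := h.conj (MulAut.conj g)⁻¹
  rwa [inv_inv] at h1

/-- 3-elements fixing `B` fix both minimal parabolic subgroups -/
theorem rig {s t : K} (hS : P.S = {s, t}) {z : MulAut K} (hz : PE 3 z) (hB : Iv z P.B) :
    ∀ r ∈ P.S, Iv z (P.parabolic {r}) := by
  have hsS : s ∈ P.S := by rw [hS]; exact Or.inl rfl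
  have htS : t ∈ P.S := by rw [hS]; exact Or.inr rfl
  have inj : P.parabolic {s} = P.parabolic {t} → s = t := fun h =>
    Set.singleton_eq_singleton_iff.1 (Cfsg.Agent.S0314.result P (Set.singleton_subset_iff.2 hsS)
      (Set.singleton_subset_iff.2 htS) h)
  obtain ⟨s', hs', h1⟩ := exists_map_eq P z hB.map_eq hsS
  obtain ⟨t', ht', h2⟩ := exists_map_eq P z hB.map_eq htS
  have key : ∀ A B : Subgroup K, A.map z.toMonoidHom = B → B.map z.toMonoidHom = A → A = B :=
    fun A B hA hB' => ns_of_pe hz A B hA hB'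
  have minj : ∀ A B : Subgroup K, A.map z.toMonoidHom = B.map z.toMonoidHom → A = B :=
    fun A B h => Subgroup.map_injective z.injective h
  rw [hS] at hs' ht'
  have main : (P.parabolic {s}).map z.toMonoidHom = P.parabolic {s} ∧
      (P.parabolic {t}).map z.toMonoidHom = P.parabolic {t} := by
    rcases hs' with rfl | rfl
    · refine ⟨h1, ?_⟩
      rcases ht' with rfl | rfl
      · have h3 := minj _ _ (h1.trans h2.symm)
        rw [← h3]; exact h1
      · exact h2
    · rcases ht' with rfl | rfl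
      · have h3 := key _ _ h1 h2
        rw [h3] at h1 ⊢
        exact ⟨h1, h1⟩
      · have h3 := minj _ _ (h1.trans h2.symm)
        refine ⟨?_, h2⟩
        rw [h3]
        exact h2
  intro r hr
  rw [hS] at hr
  rcases hr with rfl | rfl
  · exact iv_of_map_eq main.1
  · exact iv_of_map_eq main.2

/-- **Groups of rank two over the field with three elements.** -/
theorem false_of_odd {U : Subgroup K} (S : Split P 3 U) (hBs : Group.IsSolvable P.B) {s t : K} (hS : P.S = {s, t})
    (hst : s ≠ t) (hnode : ∀ r ∈ P.S, Group.IsSolvable (P.parabolic {r}) → ∃ u h, OddNode P r u h)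
    {x : MulAut K} (hx : orderOf x = 3) (hR : RC x) (hP : PA 3 x) : False := by
  have hr : Fact (Nat.Prime 3) := ⟨Nat.prime_three⟩
  have hN : normalizer (P.B : Set K) = P.B := by
    have h1 := Cfsg.Agent.S0312.result P (Set.empty_subset P.S)
    rwa [parabolic_empty] at h1
  have hxp : PE 3 x := ⟨1, by rw [hx, pow_one]⟩
  obtain ⟨g, hg⟩ := exists_borel S (x := x) ⟨1, by rw [pow_one, ← hx, pow_orderOf_eq_one]⟩
  have hsS : s ∈ P.S := by rw [hS]; exact Or.inl rfl
  have htS : t ∈ P.S := by rw [hS]; exact Or.inr rfl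
  have hne : ∀ r ∈ P.S, P.parabolic {r} ≠ ⊤ := by
    intro r hr' hMt
    have h1 : P.parabolic P.S ≤ P.parabolic {r} := by rw [hMt]; exact le_top
    rw [parabolic_le_iff P le_rfl (Set.singleton_subset_iff.2 hr')] at h1
    exact hst ((h1 hsS).trans (h1 htS).symm)
  have hall := all_fixed P (hR.cx g) hBs hne
    (fun g' hg' => rig hS (PE_cx (PE_cx hxp g) g') hg')
    (fun g' hg' r hr' hsol => by
      obtain ⟨u, h, O⟩ := hnode r hr' hsol
      exact O.fixed hN hr' hg' (rig hS (PE_cx (PE_cx hxp g) g') hg' r hr') (PE_cx (PE_cx hxp g) g')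
        (PA_cx (PA_cx hP g) g')) hg
  have h1 := eq_one P S.core hall
  have h3 : x = MulAut.conj g * cx x g * (MulAut.conj g)⁻¹ := by
    unfold cx
    group
  rw [h3, h1, mul_one, mul_inv_cancel, orderOf_one] at hx
  exact absurd hx (by norm_num)

end Node

end Cfsg.Agent.H422.OwnBN
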