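import Mathlib
import Cfsg.Agent.H422.OwnMat
import Cfsg.Agent.S0813
import Cfsg.Agent.S0242
import Cfsg.Agent.S0249
import Cfsg.Agent.S0265

/-!
# `PSL₃(3)`: no automorphism of order 3 all of whose products of conjugates are 3-elements (S3833)
-/

set_option autoImplicit false

namespace Cfsg.Agent.H422.OwnLThree

open Subgroup Cfsg Cfsg.Agent.H460.AA Matrix Cfsg.Agent.H422.OwnMat

abbrev M3 := Matrix (Fin 3) (Fin 3) (ZMod 3)
abbrev S3 := Matrix.SpecialLinearGroup (Fin 3) (ZMod 3)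
abbrev L3 := Matrix.ProjectiveSpecialLinearGroup (Fin 3) (ZMod 3)
abbrev T := ZMod 3 × ZMod 3 × ZMod 3

instance : Fact (Nat.Prime 3) := ⟨Nat.prime_three⟩

def mat : S3 →* M3 where
  toFun g := g.1
  map_one' := rfl
  map_mul' _ _ := rfl

def cube (M : M3) : M3 := M * M * M

theorem pow_nine_eq (M : M3) : M ^ 9 = cube (cube M) := by
  unfold cube
  rw [← pow_three', ← pow_three', ← pow_mul]

def fm (t : T) : M3 := !![1, t.1, t.2.1; 0, 1, t.2.2; 0, 0, 1]

theorem fm_det : ∀ t : T, (fm t).det = 1 := by decide +kernel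

theorem fm_mul : ∀ s t : T, fm s * fm t = fm (s.1 + t.1, t.2.1 + s.1 * t.2.2 + s.2.1, s.2.2 + t.2.2) := by
  decide +kernel

theorem fm_inj : Function.Injective fm := by
  intro s t h
  have h1 : s.1 = t.1 := congrFun (congrFun h 0) 1
  have h2 : s.2.1 = t.2.1 := congrFun (congrFun h 0) 2
  have h3 : s.2.2 = t.2.2 := congrFun (congrFun h 1) 2
  exact Prod.ext h1 (Prod.ext h2 h3)

def A1 : M3 := !![0, 0, 1; 0, 1, 0; 2, 0, 0]
def A1' : M3 := !![0, 0, 2; 0, 1, 0; 1, 0, 0]
def A2 : M3 := !![0, 1, 0; 1, 0, 0; 1, 1, 2]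

def f (t : T) : S3 := ⟨fm t, fm_det t⟩
def g1 : S3 := ⟨A1, by decide +kernel⟩
def g1' : S3 := ⟨A1', by decide +kernel⟩
def g2 : S3 := ⟨A2, by decide +kernel⟩

theorem g1_inv : A1 * A1' = 1 := by decide +kernel
theorem g2_inv : A2 * A2 = 1 := by decide +kernel

theorem chk : ∀ t : T, t ≠ 0 → (∀ r : ZMod 3, cube (cube (fm t * (A1 * fm t * A1'))) ≠ r • (1 : M3)) ∨
    (∀ r : ZMod 3, cube (cube (fm t * (A2 * fm t * A2))) ≠ r • (1 : M3)) := by
  decide +kernel

theorem g1_inv' : g1⁻¹ = g1' := by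
  rw [inv_eq_iff_mul_eq_one]
  exact Subtype.ext g1_inv

theorem g2_inv' : g2⁻¹ = g2 := by
  rw [inv_eq_iff_mul_eq_one]
  exact Subtype.ext g2_inv

theorem card_S3 : Nat.card S3 = 3 ^ 3 * 208 := by
  have h1 := Cfsg.Agent.S0242.result (F := ZMod 3) (q := 3) (ZMod.card 3) 3 (by norm_num)
  rw [Fin.prod_univ_three] at h1
  have h2 : (3 - 1) * Nat.card S3 = 11232 := h1
  omega

theorem simple_L3 : IsSimpleGroup L3 := Cfsg.Agent.S0249.result 3 le_rfl

theorem cube_root : ∀ r : ZMod 3, r ^ 3 = 1 → r = 1 := by decide +kernel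

theorem center_scalar {z : S3} (hz : z ∈ center S3) : mat z = 1 := by
  rw [Matrix.SpecialLinearGroup.mem_center_iff] at hz
  obtain ⟨r, hr, hz⟩ := hz
  have h1 : r = 1 := cube_root r hr
  rw [h1, map_one] at hz
  exact hz.symm

theorem non_comm : ¬ IsMulCommutative L3 := by
  intro h
  have h1 : ∀ a b : S3, a * b * a⁻¹ * b⁻¹ ∈ center S3 := fun a b => by
    rw [← QuotientGroup.eq_one_iff]
    have h2 := h.is_comm.comm (a : L3) (b : L3)
    simp only [QuotientGroup.mk_mul, QuotientGroup.mk_inv]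
    rw [h2]
    group
  have h2 := center_scalar (h1 g1 g2)
  rw [g1_inv', g2_inv'] at h2
  have h3 : A1 * A2 * A1' * A2 = 1 := h2
  revert h3
  decide +kernel

theorem elt (a : L3) (ha : orderOf a = 3) (hP : ∀ g, PE 3 (a * (g * a * g⁻¹))) : False := by
  refine false_of_check (G := S3) (ι := Fin 3) (F := ZMod 3) mat (by decide) ?_ ?_ f ?_ 0 ?_ ?_ (n := 3) (m := 208) ?_ card_S3
    (by norm_num) ?_ a ha hP
  · intro z hz
    apply Subtype.ext
    have h1 : z = 1 := Subtype.ext (center_scalar hz)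
    rw [h1, one_pow]
  · exact fun z hz => ⟨1, by rw [center_scalar hz, one_smul]⟩
  · exact fun s t h => fm_inj (congrArg Subtype.val h)
  · apply Subtype.ext
    change fm 0 = 1
    decide +kernel
  · exact fun s t => ⟨_, Subtype.ext (fm_mul s t)⟩
  · rw [Nat.card_eq_fintype_card]; decide +kernel
  · intro t ht
    rcases chk t ht with h | h
    · refine ⟨g1, fun r => ?_⟩
      rw [pow_nine_eq, g1_inv']
      exact h r
    · refine ⟨g2, fun r => ?_⟩
      rw [pow_nine_eq, g2_inv']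
      exact h r

theorem own3_psl33 (x : MulAut L3) (hx : orderOf x = 3) (hP : PA 3 x) : False := by
  have h1 := Cfsg.Agent.S0813.result (F := ZMod 3) 3 1 le_rfl (by rw [ZMod.card]; norm_num) 3 (by norm_num) (by norm_num)
  have h2 : Nat.card (Matrix.ProjGenLinGroup (Fin 3) (ZMod 3)) = Nat.card L3 := by
    have h3 : center S3 = ⊥ := by
      rw [eq_bot_iff]
      exact fun z hz => Subtype.ext (center_scalar hz)
    have h4 := Subgroup.card_eq_card_quotient_mul_card_subgroup (center S3)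
    rw [h3, Subgroup.card_bot, mul_one, ← h3] at h4
    rw [Cfsg.Agent.S0265.result 3]
    exact h4
  refine false_of_inner simple_L3 non_comm (o := 2) ?_ (by norm_num) elt x hx hP
  rw [h1, h2, if_neg (by norm_num)]

end Cfsg.Agent.H422.OwnLThree
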