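import Cfsg.Agent.H422.OwnBN
import Cfsg.Agent.FixBN.FieldRGD

/-!
# Products of two conjugates of an element of order 3 in characteristic 3 (S3833): root group data of rank two
-/

set_option autoImplicit false
set_option linter.unusedSectionVars false

namespace Cfsg.Agent.H422.OwnRGD

open CoxeterSystem Cfsg.Agent.ChevalleyStructure.CoxeterGeom Cfsg.Agent.Tits.Roots Cfsg.Agent.Tits.Core
  Cfsg.Agent.Tits.RootComb Cfsg.Agent.Nodes.Comb Cfsg.Agent.Nodes.Reps Cfsg.Agent.Nodes.BNOf Cfsg.Agent.Nodes.BNOf.RGD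
  Cfsg.Agent.Schreier.BNSch Cfsg.Agent.FixBN
open Cfsg.Agent.H459.Rad Cfsg.Agent.H460.AA Cfsg.Agent.H422.OwnBN

variable {I W Y : Type*} [Fintype I] [DecidableEq I] [Group W] [Group Y] {M : CoxeterMatrix I}
variable {cs : CoxeterSystem M W} {A : I → I → ℤ} {h : IsCartan M A} {p : ℕ} {T : Subgroup Y} {n : I → Y}
  {X : (I → ℤ) → Subgroup Y} [Finite W]

/-- A root group with three elements inverted by an element of the torus. -/
theorem oddNode (R : RGD cs h p T n X) (hgen : RGD.B cs h T X ⊔ NN cs R.nsys = ⊤) (i : I) {u t : Y}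
    (hu : u ∈ X (sr i)) (hX : ∀ x ∈ X (sr i), x = 1 ∨ x = u ∨ x = u⁻¹) (ht : t ∈ T) (htu : t * u * t⁻¹ = u⁻¹) :
    OddNode (R.bnPair hgen) (n i) u t := by
  have hsS : n i ∈ (R.bnPair hgen).S := ⟨i, rfl⟩
  have hXB : X (sr i) ≤ (R.bnPair hgen).B := RGD.X_le_B (isRoot_sr cs h i) (sr_nonneg i)
  have hTc : ∀ a ∈ T, (n i)⁻¹ * a * n i ∈ (R.bnPair hgen).B := by
    intro a ha
    have h2 : a ∈ (R.bnPair hgen).B ⊓ (R.bnPair hgen).N := ⟨RGD.T_le_B ha, ⟨1, rp_of_mem ha⟩⟩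
    have h3 := (R.bnPair hgen).conj_mem (n i)⁻¹ ((R.bnPair hgen).N.inv_mem ((R.bnPair hgen).subset hsS)) _ h2
    rwa [inv_inv] at h3
  have htu' : t * u⁻¹ * t⁻¹ = u := by
    have : t * u⁻¹ * t⁻¹ = (t * u * t⁻¹)⁻¹ := by group
    rw [this, htu, inv_inv]
  refine ⟨hXB hu, RGD.T_le_B ht, ?_, ?_, ?_, ?_⟩
  · intro g hg
    rcases mem_parabolic_singleton (R.bnPair hgen) hsS hg with h1 | ⟨b, hb, c, hc, h1⟩
    · exact Or.inl h1
    · right
      obtain ⟨v, hv, hvT⟩ := NodeRGD.cover R hb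
      obtain ⟨x, hx, hxv⟩ := FieldRGD.exists_cover R i hv
      have key : (x * n i)⁻¹ * g ∈ (R.bnPair hgen).B := by
        rw [h1]
        have e : (x * n i)⁻¹ * (b * n i * c) =
            ((n i)⁻¹ * (x⁻¹ * v) * n i) * ((n i)⁻¹ * (v⁻¹ * b) * n i) * c := by group
        rw [e]
        refine mul_mem (mul_mem ?_ (hTc _ hvT)) hc
        exact RGD.U_le_B (RGD.Sup_mono (S := RGD.PosNe cs h i) (S' := RGD.Pos cs h) (fun z hz => ⟨hz.1, hz.2.1⟩)
          (NodeRGD.conj_V_mem R i hxv))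
      rcases hX x hx with rfl | rfl | rfl
      · exact Or.inl (by rwa [one_mul] at key)
      · exact Or.inr (Or.inl key)
      · exact Or.inr (Or.inr key)
  · rw [← mul_assoc]; exact hTc t ht
  · have e : (u⁻¹ * n i)⁻¹ * (t * (u * n i)) = (n i)⁻¹ * (u * (t * u * t⁻¹)) * t * n i := by group
    rw [e, htu, mul_inv_cancel, mul_one]
    exact hTc t ht
  · have e : (u * n i)⁻¹ * (t * (u⁻¹ * n i)) = (n i)⁻¹ * (u⁻¹ * (t * u⁻¹ * t⁻¹)) * t * n i := by group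
    rw [e, htu', inv_mul_cancel, mul_one]
    exact hTc t ht

/-- **Root group data of rank two and characteristic 3.** -/
theorem own3 {M : CoxeterMatrix (Fin 2)} {cs : CoxeterSystem M W} {A : Fin 2 → Fin 2 → ℤ} {h : IsCartan M A}
    {n : Fin 2 → Y} {X : (Fin 2 → ℤ) → Subgroup Y} [Finite Y] [IsSimpleGroup Y]
    (R : RGD cs h 3 T n X) (hgen : RGD.B cs h T X ⊔ NN cs R.nsys = ⊤) (hT : Group.IsSolvable T)
    (hodd : ∀ i, Group.IsSolvable ((R.bnPair hgen).parabolic {n i}) → ∃ u ∈ X (sr i), ∃ t ∈ T,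
      (∀ x ∈ X (sr i), x = 1 ∨ x = u ∨ x = u⁻¹) ∧ t * u * t⁻¹ = u⁻¹)
    (x : MulAut Y) (hx : orderOf x = 3) (hR : RC x) (hP : PA 3 x) : False := by
  have h3 : Fact (Nat.Prime 3) := ⟨Nat.prime_three⟩
  have hne : (R.bnPair hgen).S.Nonempty := ⟨n 0, 0, rfl⟩
  have hcore := Cfsg.Agent.Tits.OfBN.normalCore_eq_bot (R.bnPair hgen) hne
  have hS := SplitRGD.split_of_rgd Nat.prime_three R hgen hcore
  have hSe : (R.bnPair hgen).S = {n 0, n 1} := by
    ext z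
    constructor
    · rintro ⟨i, rfl⟩
      fin_cases i
      · exact Or.inl rfl
      · exact Or.inr rfl
    · rintro (rfl | rfl)
      · exact ⟨0, rfl⟩
      · exact ⟨1, rfl⟩
  refine false_of_odd hS (FieldRGD.isSolvable_B R hT) hSe (fun e => ?_) ?_ hx hR hP
  · exact absurd (R.n_injective e) (by decide)
  · rintro _ ⟨i, rfl⟩ hsol
    obtain ⟨u, hu, t, ht, h1, h2⟩ := hodd i hsol
    exact ⟨u, t, oddNode R hgen i hu h1 ht h2⟩

end Cfsg.Agent.H422.OwnRGD
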