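import Cfsg.Agent.H543.PiBS.Gen
import Mathlib.GroupTheory.PGroup

/-!
# The sieve for Hall subgroups (helper422, for S3876)

`sieve` : `DC π S`, `H` a Hall π-subgroup, `r ∈ π` prime, `R` a Sylow `r`-subgroup of `S`: there is a divisor `m` of
`|N_S(R)|` prime to all members of `π` with `|S : H| ≡ m (mod r)`; (`m = |N_S(R)|_{π'}`).
-/

set_option autoImplicit false

namespace Cfsg.Agent.H422.PiSieve

open Pointwise Cfsg Subgroup Cfsg.Agent.H543.PiBS

universe u

variable {S : Type u} [Group S] {π : Set ℕ}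

/-- `g H` is fixed by `K` iff `K ≤ g H g⁻¹`. -/
theorem fixed_iff {H K : Subgroup S} {g : S} :
    (∀ k ∈ K, k • ((g : S) : S ⧸ H) = (g : S ⧸ H)) ↔ ∀ k ∈ K, g⁻¹ * k * g ∈ H := by
  have key : ∀ k : S, k • ((g : S) : S ⧸ H) = (g : S ⧸ H) ↔ g⁻¹ * k * g ∈ H := by
    intro k
    show ((k * g : S) : S ⧸ H) = (g : S ⧸ H) ↔ _
    rw [eq_comm, QuotientGroup.eq, mul_assoc]
  exact ⟨fun h k hk => (key k).1 (h k hk), fun h k hk => (key k).2 (h k hk)⟩

/-- a normal subgroup `A` and a subgroup `B`: the primes of `A ⊔ B` are those of `A` and of `B` -/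
theorem dvd_card_sup [Finite S] {A B : Subgroup S} [A.Normal] {q : ℕ} (hq : q.Prime) (h : q ∣ Nat.card ↥(A ⊔ B)) :
    q ∣ Nat.card A ∨ q ∣ Nat.card B := by
  have h1 : Nat.card A * A.relIndex (A ⊔ B) = Nat.card ↥(A ⊔ B) := by
    rw [← Subgroup.relIndex_bot_left, ← Subgroup.relIndex_bot_left]
    exact Subgroup.relIndex_mul_relIndex ⊥ A (A ⊔ B) bot_le le_sup_left
  rw [← h1] at h
  rcases hq.dvd_mul.1 h with h2 | h2
  · exact Or.inl h2
  · right
    rw [sup_comm, Subgroup.relIndex_sup_right] at h2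
    exact h2.trans (Subgroup.relIndex_dvd_card A B)

/-- **The sieve.** -/
theorem sieve [Finite S] (h : DC π S) {H : Subgroup S} (hH : IsPiHall π H) {r : ℕ} [hr : Fact r.Prime] (hrπ : r ∈ π)
    (R : Sylow r S) : ∃ m : ℕ, m ∣ Nat.card ↥(normalizer ((R : Subgroup S) : Set S)) ∧
      (∀ p ∈ π, p.Prime → ¬ p ∣ m) ∧ H.index ≡ m [MOD r] := by
  classical
  set N : Subgroup S := normalizer ((R : Subgroup S) : Set S) with hN
  -- a fixed point
  have hfix : ∀ K : Subgroup S, IsPiSubgroup π K → ∃ g : S, ∀ k ∈ K, k • ((g : S) : S ⧸ H) = (g : S ⧸ H) := by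
    intro K hK
    obtain ⟨g, hg⟩ := h.conj_le hH hK
    refine ⟨g⁻¹, fixed_iff.2 fun k hk => ?_⟩
    rw [inv_inv]
    exact hg ⟨k, hk, rfl⟩
  have hRπ : IsPiSubgroup π (R : Subgroup S) := by
    intro p hp hd
    obtain ⟨k, hk⟩ := IsPGroup.iff_card.1 R.2
    rw [hk] at hd
    rw [(Nat.prime_dvd_prime_iff_eq hp hr.out).1 (hp.dvd_of_dvd_pow hd)]
    exact hrπ
  obtain ⟨g0, hg0⟩ := hfix _ hRπ
  -- `N` is transitive on the fixed points
  have htrans : ∀ g : S, (∀ k ∈ (R : Subgroup S), k • ((g : S) : S ⧸ H) = (g : S ⧸ H)) →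
      ∃ n ∈ N, n • ((g : S) : S ⧸ H) = (g0 : S ⧸ H) := by
    intro g hg
    have h1 : ((g⁻¹ • R : Sylow r S) : Subgroup S) ≤ H := by
      rw [Sylow.coe_subgroup_smul]
      rintro _ ⟨k, hk, rfl⟩
      have := fixed_iff.1 hg k hk
      show g⁻¹ * k * (g⁻¹)⁻¹ ∈ H
      rwa [inv_inv]
    have h2 : ((g0⁻¹ • R : Sylow r S) : Subgroup S) ≤ H := by
      rw [Sylow.coe_subgroup_smul]
      rintro _ ⟨k, hk, rfl⟩
      have := fixed_iff.1 hg0 k hk
      show g0⁻¹ * k * (g0⁻¹)⁻¹ ∈ H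
      rwa [inv_inv]
    obtain ⟨x, hx⟩ := MulAction.exists_smul_eq H ((g⁻¹ • R : Sylow r S).subtype h1) ((g0⁻¹ • R : Sylow r S).subtype h2)
    have hx2 : (x : S) • (g⁻¹ • R : Sylow r S) = g0⁻¹ • R := by
      rw [Sylow.smul_subtype] at hx
      exact Sylow.subtype_injective hx
    refine ⟨g0 * x * g⁻¹, ?_, ?_⟩
    · rw [hN]
      apply Sylow.smul_eq_iff_mem_normalizer.1
      rw [mul_smul, mul_smul, hx2, smul_smul, mul_inv_cancel, one_smul]
    · show ((g0 * x * g⁻¹ * g : S) : S ⧸ H) = (g0 : S ⧸ H)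
      rw [inv_mul_cancel_right, eq_comm, QuotientGroup.eq, inv_mul_cancel_left]
      exact x.2
  have hset : (MulAction.fixedPoints R (S ⧸ H) : Set (S ⧸ H)) = MulAction.orbit N ((g0 : S) : S ⧸ H) := by
    ext y
    obtain ⟨g, rfl⟩ := QuotientGroup.mk_surjective y
    constructor
    · intro hy
      obtain ⟨n, hn, h1⟩ := htrans g (fun k hk => hy ⟨k, hk⟩)
      refine ⟨(⟨n, hn⟩ : N)⁻¹, ?_⟩
      show (⟨n, hn⟩ : N)⁻¹ • ((g0 : S) : S ⧸ H) = (g : S ⧸ H)
      rw [inv_smul_eq_iff]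
      exact h1.symm
    · rintro ⟨n, h1⟩ k
      have h1' : (n : S) • ((g0 : S) : S ⧸ H) = (g : S ⧸ H) := h1
      show (k : S) • ((g : S) : S ⧸ H) = (g : S ⧸ H)
      rw [← h1', smul_smul]
      have h2 : (n : S)⁻¹ * k * n ∈ (R : Subgroup S) := by
        have h3 := (mem_normalizer_iff.1 (inv_mem n.2) (k : S)).1 k.2
        rwa [inv_inv] at h3
      have h3 : (k : S) * n = n * ((n : S)⁻¹ * k * n) := by group
      rw [h3, mul_smul, hg0 _ h2]
  refine ⟨(MulAction.stabilizer N ((g0 : S) : S ⧸ H)).index, index_dvd_card _, ?_, ?_⟩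
  · intro p hpπ hp hd
    have hpf : Fact p.Prime := ⟨hp⟩
    obtain ⟨P⟩ : Nonempty (Sylow p N) := inferInstance
    have hRn : ((R : Subgroup S).subgroupOf N).Normal := normal_in_normalizer
    -- `K = R P`
    have hK : IsPiSubgroup π (((R : Subgroup S).subgroupOf N ⊔ (P : Subgroup N)).map N.subtype) := by
      intro q hq hqd
      rw [card_map_of_injective N.subtype_injective] at hqd
      rcases dvd_card_sup hq hqd with h1 | h1
      · apply hRπ q hq
        rwa [Nat.card_congr (subgroupOfEquivOfLe (le_normalizer : (R : Subgroup S) ≤ N)).toEquiv] at h1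
      · obtain ⟨k, hk⟩ := IsPGroup.iff_card.1 P.2
        rw [hk] at h1
        rw [(Nat.prime_dvd_prime_iff_eq hq hp).1 (hq.dvd_of_dvd_pow h1)]
        exact hpπ
    obtain ⟨g, hg⟩ := hfix _ hK
    have hgR : ∀ k ∈ (R : Subgroup S), k • ((g : S) : S ⧸ H) = (g : S ⧸ H) := by
      intro k hk
      apply hg
      exact ⟨⟨k, le_normalizer hk⟩, mem_sup_left (mem_subgroupOf.2 hk), rfl⟩
    obtain ⟨n, hn, h1⟩ := htrans g hgR
    have h2 : MulAction.orbit N ((g : S) : S ⧸ H) = MulAction.orbit N ((g0 : S) : S ⧸ H) := by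
      rw [MulAction.orbit_eq_iff]
      refine ⟨(⟨n, hn⟩ : N)⁻¹, ?_⟩
      show (⟨n, hn⟩ : N)⁻¹ • ((g0 : S) : S ⧸ H) = (g : S ⧸ H)
      rw [inv_smul_eq_iff]
      exact h1.symm
    have h3 : (MulAction.stabilizer N ((g : S) : S ⧸ H)).index = (MulAction.stabilizer N ((g0 : S) : S ⧸ H)).index := by
      rw [MulAction.index_stabilizer, MulAction.index_stabilizer, h2]
    rw [← h3] at hd
    have h4 : (P : Subgroup N) ≤ MulAction.stabilizer N ((g : S) : S ⧸ H) := by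
      intro x hx
      rw [MulAction.mem_stabilizer_iff]
      exact hg (x : S) ⟨x, mem_sup_right hx, rfl⟩
    exact P.not_dvd_index (hd.trans (index_dvd_of_le h4))
  · rw [MulAction.index_stabilizer, ← hset]
    exact R.2.card_modEq_card_fixedPoints (S ⧸ H)

end Cfsg.Agent.H422.PiSieve
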