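import Cfsg.Agent.H422.UFourElts

/-!
# `PSU₄(3)`: prime graph, no modules with `5`-elements without fixed points
-/

set_option autoImplicit false

namespace Cfsg.Agent.H422.UFour

open Matrix Cfsg.Agent.ChevalleyStructure.NineField Cfsg.Agent.H422.Graph

theorem card_U : Nat.card U4 = 3265920 := by
  have h1 := Cfsg.Agent.S0280.result (F := F9) (q := 3) (by rw [F9.card_F9]; norm_num) 4 (by norm_num)
  have h2 : Nat.gcd 4 (3 + 1) = 4 := by decide
  rw [h2] at h1
  simp only [Finset.prod_range_succ, Finset.prod_range_zero] at h1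
  have e0 : Even 0 := by decide
  have e1 : ¬ Even 1 := by decide
  have e2 : Even 2 := by decide
  have e3 : ¬ Even 3 := by decide
  rw [if_pos e0, if_neg e1, if_pos e2, if_neg e3] at h1
  change Nat.card (Cfsg.PSU 4 F9 3) = 3265920
  generalize Nat.card (Cfsg.PSU 4 F9 3) = n at h1 ⊢
  norm_num at h1
  omega

instance simple_U : IsSimpleGroup U4 :=
  Cfsg.Agent.S0283.result (F := F9) (q := 3) (by rw [F9.card_F9]; norm_num) 4 (by norm_num) (by norm_num)

instance finite_U : Finite U4 := Nat.finite_of_card_ne_zero (by rw [card_U]; norm_num)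

abbrev pr : SU4 →* U4 := QuotientGroup.mk' (Subgroup.center SU4)

theorem pr_eq_one {g : SU4} (h : pr g = 1) : g ∈ Subgroup.center SU4 := (QuotientGroup.eq_one_iff g).1 h

/-- a noncentral element -/
theorem not_central {g y : SU4} (h : mat g * mat y ≠ mat y * mat g) : pr g ≠ 1 := by
  intro h1
  have h2 := Subgroup.mem_center_iff.1 (pr_eq_one h1) y
  apply h
  rw [← mat_mul, ← mat_mul, h2]

theorem order_x : orderOf (pr gx) = 5 := by
  have : Fact (Nat.Prime 5) := ⟨by norm_num⟩
  refine orderOf_eq_prime ?_ (not_central (y := gt) (by decide +kernel))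
  rw [← map_pow, gx_five, map_one]

theorem order_w : orderOf (pr gw) = 2 * 3 := by
  refine Cfsg.Agent.H422.Elim.orderOf_pq (by norm_num) (by norm_num) ?_ ?_ ?_
  · rw [← map_pow, gw_six, map_one]
  · rw [← map_pow]
    refine not_central (y := gt) ?_
    rw [gw_two]; decide +kernel
  · rw [← map_pow]
    refine not_central (y := gt) ?_
    rw [gw_three]; decide +kernel

/-- **The prime graph of `PSU₄(3)`.** -/
theorem good_U : Good U4 := by
  refine good_of_pow ?_ ⟨_, order_w⟩ psu_pow
  rw [card_U]
  decide +kernel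

theorem pr_eq_of_smul {a b : SU4} {r : F9} (h : mat a = r • mat b) : pr a = pr b := by
  refine ((QuotientGroup.eq).2 (mem_center (r := r) ?_)).symm
  rw [mat_mul, h, Matrix.mul_smul, ← mat_mul, inv_mul_cancel, mat_one]

/-! ### characteristic three -/

/-- the homomorphism from `2⁴` -/
def f2 : Multiplicative A2 →* U4 where
  toFun v := pr (mk (P v.toAdd) (P_unit _) (P_det _))
  map_one' := by
    refine (QuotientGroup.eq_one_iff _).2 (mem_center (r := 1) ?_)
    rw [mat_mk]; decide +kernel
  map_mul' v w := by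
    rw [← map_mul]
    have key : ∀ a b c : SU4, (mat a * mat b = mat c ∨ mat a * mat b = -mat c) → pr c = pr (a * b) := by
      intro a b c h
      rcases h with h | h
      · exact (pr_eq_of_smul (r := 1) (by rw [mat_mul, h, one_smul])).symm
      · exact (pr_eq_of_smul (r := -1) (by rw [mat_mul, h, neg_smul, one_smul])).symm
    exact key _ _ _ (P_mul v.toAdd w.toAdd)

theorem f2_inj {v : Multiplicative A2} (h : f2 v = 1) : v = 1 := by
  have h1 := pr_eq_one h
  -- central elements are scalar: they commute with all `P w` and with `x`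
  have h2 : ∀ w : A2, P v.toAdd * P w = P w * P v.toAdd := by
    intro w
    have := Subgroup.mem_center_iff.1 h1 (mk (P w) (P_unit _) (P_det _))
    exact (congrArg mat this).symm
  have h3 : ∀ a : A2, (∀ w : A2, P a * P w = P w * P a) → a = 0 := by decide +kernel
  exact congrArg Multiplicative.ofAdd (h3 v.toAdd h2)

theorem f2_conj (v : Multiplicative A2) :
    pr gx * f2 v * (pr gx)⁻¹ = f2 (Multiplicative.ofAdd (act2 v.toAdd)) := by
  rw [mul_inv_eq_iff_eq_mul]
  have key : ∀ a b : SU4, ∀ r : F9, mat gx * mat a = r • (mat b * mat gx) → pr gx * pr a = pr b * pr gx := by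
    intro a b r h
    rw [← map_mul, ← map_mul]
    exact pr_eq_of_smul (r := r) (by rw [mat_mul, mat_mul, h])
  obtain ⟨r, hr⟩ := act2_conj v.toAdd
  exact key _ _ r hr

/-! ### characteristic two -/

/-- the homomorphism from `3⁴` -/
def f3 : Multiplicative A3 →* U4 where
  toFun v := pr (mk (1 + S v.toAdd) (S_unit _) (S_det _))
  map_one' := by
    refine (QuotientGroup.eq_one_iff _).2 (mem_center (r := 1) ?_)
    rw [mat_mk]; decide +kernel
  map_mul' v w := by
    rw [← map_mul]
    have key : ∀ a b c : SU4, mat a * mat b = mat c → pr c = pr (a * b) := by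
      intro a b c h
      exact (pr_eq_of_smul (r := 1) (by rw [mat_mul, h, one_smul])).symm
    refine key _ _ _ ?_
    change (1 + S v.toAdd) * (1 + S w.toAdd) = 1 + S (v.toAdd + w.toAdd)
    rw [add_mul, mul_add (S v.toAdd), S_mul, S_add, mul_one, one_mul, add_zero]
    abel

theorem f3_inj {v : Multiplicative A3} (h : f3 v = 1) : v = 1 := by
  have h1 := pr_eq_one h
  have h2 : mx * (1 + S v.toAdd) = (1 + S v.toAdd) * mx := by
    have := Subgroup.mem_center_iff.1 h1 gx
    exact congrArg mat this
  have h3 : ∀ a : A3, mx * (1 + S a) = (1 + S a) * mx → a = 0 := by decide +kernel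
  exact congrArg Multiplicative.ofAdd (h3 v.toAdd h2)

theorem f3_conj (v : Multiplicative A3) :
    pr gx * f3 v * (pr gx)⁻¹ = f3 (Multiplicative.ofAdd (act3 v.toAdd)) := by
  rw [mul_inv_eq_iff_eq_mul]
  have key : ∀ a b : SU4, mat gx * mat a = mat b * mat gx → pr gx * pr a = pr b * pr gx := by
    intro a b h
    rw [← map_mul, ← map_mul]
    exact pr_eq_of_smul (r := 1) (by rw [mat_mul, mat_mul, h, one_smul])
  refine key _ _ ?_
  change mx * (1 + S v.toAdd) = (1 + S (act3 v.toAdd)) * mx
  rw [mul_add, add_mul, act3_conj, mul_one, one_mul]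

section
variable {V : Type*} [AddCommGroup V] [DistribMulAction U4 V]

/-- if a nontrivial element acts trivially then `V = 0` -/
theorem eq_zero_of_trivial (h5 : Fpf U4 V 5) {n : U4} (hn : n ≠ 1) (h : ∀ v : V, n • v = v) (v : V) :
    v = 0 := by
  let K : Subgroup U4 := (DistribMulAction.toAddMonoidEnd U4 V).ker
  have h1 : n ∈ K := by
    rw [MonoidHom.mem_ker]
    apply AddMonoidHom.ext
    intro w
    exact h w
  rcases simple_U.eq_bot_or_eq_top_of_normal K inferInstance with h2 | h2
  · rw [h2] at h1
    exact absurd (Subgroup.mem_bot.1 h1) hn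
  · apply h5 _ order_x v
    have : pr gx ∈ K := by rw [h2]; exact Subgroup.mem_top _
    exact DFunLike.congr_fun (MonoidHom.mem_ker.1 this) v

theorem eq_zero_three (h5 : Fpf U4 V 5) (hp : ∀ v : V, 2 • v = 0 → v = 0) (v : V) : v = 0 := by
  let N : Subgroup U4 := f2.range
  have hfin : Finite N := inferInstance
  have hcard : Nat.card N ∣ 16 := by
    have h1 := Subgroup.card_range_dvd f2
    have h2 : Nat.card (Multiplicative A2) = 16 := by
      rw [Nat.card_eq_fintype_card]; decide +kernel
    rwa [h2] at h1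
  have key : ∀ m ∈ N, ∀ v : V, m • v = v := by
    intro m hm v
    refine smul_eq_of_frob (r := 5) (by norm_num) order_x (fun v => h5.sum_eq_zero order_x v) N ?_ ?_ ?_ hm v
    · rintro _ ⟨a, rfl⟩
      exact ⟨_, (f2_conj a).symm⟩
    · rintro _ ⟨a, rfl⟩ h
      rw [f2_conj] at h
      have h1 : f2 ((Multiplicative.ofAdd (act2 a.toAdd)) * a⁻¹) = 1 := by
        rw [map_mul, h, map_inv, mul_inv_cancel]
      have h2 := mul_inv_eq_one.1 (f2_inj h1)
      have h3 : a = 1 := congrArg Multiplicative.ofAdd (act2_fix a.toAdd h2)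
      rw [h3, map_one]
    · intro w hw
      have h16 : 16 • w = 0 := by
        obtain ⟨c, hc⟩ := hcard
        rw [hc, mul_comm, mul_smul, hw, smul_zero]
      have e : ∀ u : V, 2 • u = 0 → u = 0 := hp
      apply e; apply e; apply e; apply e
      rw [← mul_smul, ← mul_smul, ← mul_smul]
      exact h16
  refine eq_zero_of_trivial h5 (n := f2 (Multiplicative.ofAdd (1, 0, 0, 0))) ?_ (key _ ⟨_, rfl⟩) v
  intro h
  have := congrArg Multiplicative.toAdd (f2_inj h)
  exact absurd this (by decide)

theorem eq_zero_two (h5 : Fpf U4 V 5) (hp : ∀ v : V, 3 • v = 0 → v = 0) (v : V) : v = 0 := by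
  let N : Subgroup U4 := f3.range
  have hfin : Finite N := inferInstance
  have hcard : Nat.card N ∣ 81 := by
    have h1 := Subgroup.card_range_dvd f3
    have h2 : Nat.card (Multiplicative A3) = 81 := by
      rw [Nat.card_eq_fintype_card]; decide +kernel
    rwa [h2] at h1
  have key : ∀ m ∈ N, ∀ v : V, m • v = v := by
    intro m hm v
    refine smul_eq_of_frob (r := 5) (by norm_num) order_x (fun v => h5.sum_eq_zero order_x v) N ?_ ?_ ?_ hm v
    · rintro _ ⟨a, rfl⟩
      exact ⟨_, (f3_conj a).symm⟩
    · rintro _ ⟨a, rfl⟩ h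
      rw [f3_conj] at h
      have h1 : f3 ((Multiplicative.ofAdd (act3 a.toAdd)) * a⁻¹) = 1 := by
        rw [map_mul, h, map_inv, mul_inv_cancel]
      have h2 := mul_inv_eq_one.1 (f3_inj h1)
      have h3 : a = 1 := congrArg Multiplicative.ofAdd (act3_fix a.toAdd h2)
      rw [h3, map_one]
    · intro w hw
      have h81 : 81 • w = 0 := by
        obtain ⟨c, hc⟩ := hcard
        rw [hc, mul_comm, mul_smul, hw, smul_zero]
      have e : ∀ u : V, 3 • u = 0 → u = 0 := hp
      apply e; apply e; apply e; apply e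
      rw [← mul_smul, ← mul_smul, ← mul_smul]
      exact h81
  refine eq_zero_of_trivial h5 (n := f3 (Multiplicative.ofAdd (1, 0, 0, 0))) ?_ (key _ ⟨_, rfl⟩) v
  intro h
  have := congrArg Multiplicative.toAdd (f3_inj h)
  exact absurd this (by decide)

end

end Cfsg.Agent.H422.UFour
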