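import Cfsg.Agent.H422.Iso
import Cfsg.Agent.H422.Elim
import Cfsg.Agent.H422.ASevenTwo
import Cfsg.Agent.H422.ASevenThree
import Cfsg.Agent.H422.LTwoAut
import Cfsg.Agent.H422.UFour
import Cfsg.Agent.H366.LThreeFourB

/-!
# Groups with the prime graph of `A₇` are almost simple

`almost_simple`: a finite group with the prime graph of `A₇` has a simple normal subgroup with
trivial centralizer, isomorphic to `A₇`, `PSL₂(49)`, `PSL₃(4)` or `PSU₄(3)`.
-/

set_option autoImplicit false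

open Subgroup Cfsg

namespace Cfsg.Agent.H422.Reduct

open Cfsg.Agent Cfsg.Agent.H366 Cfsg.Agent.H422 Cfsg.Agent.H422.Graph Cfsg.Agent.H422.Iso
open Cfsg.Agent.Lib.FieldFour Cfsg.Agent.ChevalleyStructure.NineField

universe u

/-- the Suzuki groups have another prime divisor (helper366) -/
theorem suzuki_false {m : ℕ} (hm : 1 ≤ m) (h : ∀ p : ℕ, p.Prime → p ∣ (2 ^ (2 * m + 1)) ^ 2 + 1 →
    p = 2 ∨ p = 3 ∨ p = 5 ∨ p = 7) : False := by
  have e : (2 ^ (2 * m + 1)) ^ 2 = 4 ^ (2 * m + 1) := by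
    rw [← pow_mul, mul_comm, pow_mul]
    norm_num
  rw [e] at h
  have hmod : 4 ^ (2 * m + 1) % 7 = 4 ∨ 4 ^ (2 * m + 1) % 7 = 1 ∨ 4 ^ (2 * m + 1) % 7 = 2 := by
    generalize 2 * m + 1 = k
    induction k with
    | zero => norm_num
    | succ k ih => rw [pow_succ]; omega
  have hmod3 : 4 ^ (2 * m + 1) % 3 = 1 := by
    generalize 2 * m + 1 = k
    induction k with
    | zero => norm_num
    | succ k ih => rw [pow_succ]; omega
  have hdvd : 16 ∣ 4 ^ (2 * m + 1) := by
    have : 4 ^ 2 ∣ 4 ^ (2 * m + 1) := pow_dvd_pow 4 (by omega)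
    exact (by norm_num : (16 : ℕ) ∣ 4 ^ 2).trans this
  have huniq : ∀ d : ℕ, d.Prime → d ∣ 4 ^ (2 * m + 1) + 1 → d = 5 := by
    intro d hd hdv
    rcases h d hd hdv with rfl | rfl | rfl | rfl
    · omega
    · omega
    · rfl
    · omega
  have hpow := Nat.eq_prime_pow_of_unique_prime_dvd (n := 4 ^ (2 * m + 1) + 1) (by positivity)
    (fun {d} hd hdv => huniq d hd hdv)
  generalize (4 ^ (2 * m + 1) + 1).primeFactorsList.length = a at hpow
  have ha : ∀ a : ℕ, (5 ^ a % 24 = 1 ∨ 5 ^ a % 24 = 5) := by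
    intro a
    induction a with
    | zero => norm_num
    | succ k ih => rw [pow_succ]; omega
  have h1 := ha a
  omega

theorem not_comm_of_not_solvable {S : Type*} [Group S] (hns : ¬ Group.IsSolvable S) :
    ∃ a b : S, a * b ≠ b * a := by
  by_contra hcon
  push Not at hcon
  exact hns (Group.isSolvable_of_comm hcon)

theorem two_dvd {S : Type*} [Group S] [Finite S] (hns : ¬ Group.IsSolvable S) : 2 ∣ Nat.card S := by
  by_contra hodd
  apply hns
  apply S0205.result
  rwa [← Nat.not_even_iff_odd, even_iff_two_dvd]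

theorem simple_pf {S : Type*} [Group S] [Finite S] [IsSimpleGroup S] (hns : ¬ Group.IsSolvable S)
    (hp : ∀ p : ℕ, p.Prime → p ∣ Nat.card S → p = 2 ∨ p = 3 ∨ p = 5 ∨ p = 7)
    (h5 : 5 ∣ Nat.card S) (h7 : 7 ∣ Nat.card S) : (Nat.card S).primeFactors = {2, 3, 5, 7} := by
  have h2 := two_dvd hns
  have h3 : 3 ∣ Nat.card S := by
    by_contra h3
    obtain ⟨-, m, hm, hcard⟩ := S0336.result (not_comm_of_not_solvable hns) h3
    refine suzuki_false hm fun p hpp hd => hp p hpp (hd.trans ?_)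
    rw [hcard]
    exact (dvd_mul_left _ _).mul_right _
  ext p
  simp only [Nat.mem_primeFactors, Finset.mem_insert, Finset.mem_singleton]
  constructor
  · rintro ⟨hpp, hd, -⟩
    exact hp p hpp hd
  · have h0 : Nat.card S ≠ 0 := Nat.card_pos.ne'
    rintro (rfl | rfl | rfl | rfl)
    · exact ⟨by norm_num, h2, h0⟩
    · exact ⟨by norm_num, h3, h0⟩
    · exact ⟨by norm_num, h5, h0⟩
    · exact ⟨by norm_num, h7, h0⟩

/-- `Γ` has no modules of characteristic two or three with `5`- and `7`-elements without fixed points -/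
def Kill (Γ : Type*) [Group Γ] : Prop :=
  ∀ (A : Type u) [AddCommGroup A] [Finite A] [DistribMulAction Γ A],
    ((∀ a : A, a + a = 0) ∨ (∀ a : A, a + a + a = 0)) → Fpf Γ A 5 → Fpf Γ A 7 → ∀ a : A, a = 0

section act

variable {G : Type u} [Group G] [Finite G]

/-- elements of isolated prime order of the quotient act without fixed points -/
theorem fpf_quot (V : Subgroup G) [V.Normal] {p r : ℕ} (hp : p.Prime) (hr : r.Prime) (hpr : p ≠ r)
    (hI : Iso G r) (hpx : ∀ x ∈ V, x ^ p = 1) {g : G} (hg : orderOf (QuotientGroup.mk g : G ⧸ V) = r) {v : G}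
    (hv : v ∈ V) (hc : g * v = v * g) : v = 1 := by
  by_contra hv1
  have : Fact p.Prime := ⟨hp⟩
  have hov : orderOf v = p := orderOf_eq_prime (hpx v hv) hv1
  have h1 : r ∣ orderOf g := by
    rw [← hg]
    exact orderOf_map_dvd (QuotientGroup.mk' V) g
  obtain ⟨m, hm⟩ := h1
  have hc0 : orderOf g ≠ 0 := (orderOf_pos g).ne'
  have hm0 : m ≠ 0 := by rintro rfl; rw [mul_zero] at hm; exact hc0 hm
  have h3 : orderOf (g ^ m) = r := by
    rw [orderOf_pow_of_dvd hm0 (by rw [hm]; exact dvd_mul_left _ _), hm]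
    exact Nat.mul_div_cancel _ (Nat.pos_of_ne_zero hm0)
  exact hI.comm_false hr hp hpr.symm h3 hov ((show Commute g v from hc).pow_left m).eq

/-- The top chief factor `V` is trivial if `G / V` contains a suitable group `Γ`. -/
theorem chief_eq_bot (h5 : Iso G 5) (h7 : Iso G 7) (V : Subgroup G) [V.Normal] {p : ℕ} (hp : p = 2 ∨ p = 3)
    (hab : ∀ x ∈ V, ∀ y ∈ V, x * y = y * x)
    (hpx : ∀ x ∈ V, x ^ p = 1) {Γ : Type*} [Group Γ] (f : Γ →* G ⧸ V) (hf : Function.Injective f)
    (hk : Kill.{u} Γ) : V = ⊥ := by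
  let i1 := ConjMod.addCommGroup V hab
  let i2 := ConjMod.act V hab f
  have hpp : p.Prime := by rcases hp with rfl | rfl <;> norm_num
  have hact : ∀ (γ : Γ) (g : G), QuotientGroup.mk g = f γ → ∀ v : V,
      ((Additive.toMul (γ • (Additive.ofMul v)) : V) : G) = g * v * g⁻¹ := by
    intro γ g hg v
    change ((ConjMod.conjHom V hab (f γ) v : V) : G) = _
    rw [← hg, ConjMod.conjHom_mk]
  have hfpf : ∀ r : ℕ, r.Prime → p ≠ r → Iso G r → Fpf Γ (Additive V) r := by
    intro r hr hpr hI γ hγ v hv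
    obtain ⟨g, hg⟩ := QuotientGroup.mk_surjective (f γ)
    have h1 := hact γ g hg v.toMul
    rw [ofMul_toMul, hv] at h1
    have h2 : orderOf (QuotientGroup.mk g : G ⧸ V) = r := by
      rw [hg, orderOf_injective f hf, hγ]
    have h3 := fpf_quot V hpp hr hpr hI hpx h2 (v := (v.toMul : G))
      (v.toMul).2 (by
        nth_rw 2 [h1]
        group)
    exact Subtype.ext h3
  have hzero : ∀ v : Additive V, v = 0 := by
    refine hk (Additive V) ?_ (hfpf 5 (by norm_num) (by rcases hp with rfl | rfl <;> norm_num) h5)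
      (hfpf 7 (by norm_num) (by rcases hp with rfl | rfl <;> norm_num) h7)
    rcases hp with rfl | rfl
    · left
      intro a
      have := hpx (a.toMul : G) (a.toMul).2
      apply Subtype.ext
      change ((a.toMul : V) : G) * (a.toMul : V) = 1
      rw [← pow_two, this]
    · right
      intro a
      have := hpx (a.toMul : G) (a.toMul).2
      apply Subtype.ext
      change ((a.toMul : V) : G) * (a.toMul : V) * (a.toMul : V) = 1
      rw [← pow_two, ← pow_succ, this]
  rw [eq_bot_iff]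
  intro x hx
  have := hzero (Additive.ofMul ⟨x, hx⟩)
  exact Subgroup.mem_bot.2 (congrArg Subtype.val this)

/-- The solvable radical is trivial. -/
theorem eq_bot (h5 : Iso G 5) (h7 : Iso G 7) (R : Subgroup G) [R.Normal]
    (hs : Group.IsSolvable R) (hR : ∀ p : ℕ, p.Prime → p ∣ Nat.card R → p = 2 ∨ p = 3)
    {Γ : Type*} [Group Γ] (f : Γ →* G ⧸ R) (hf : Function.Injective f)
    (hk : Kill.{u} Γ) : R = ⊥ := by
  by_contra hR'
  obtain ⟨K, hKn, p, hKR, hKne, hp, hab, hpx⟩ := ConjMod.exists_chief R hR' hs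
  have : Fact p.Prime := ⟨hp⟩
  set V := R.map (QuotientGroup.mk' K) with hV
  have hVn : V.Normal := Subgroup.Normal.map inferInstance _ (QuotientGroup.mk'_surjective K)
  have hVne : V ≠ ⊥ := by
    intro h
    rw [hV, Subgroup.map_eq_bot_iff, QuotientGroup.ker_mk'] at h
    exact hKne (le_antisymm hKR h)
  have hpR : p ∣ Nat.card R := by
    have hnt : Nontrivial V := (Subgroup.nontrivial_iff_ne_bot V).2 hVne
    obtain ⟨v, hv⟩ := exists_ne (1 : V)
    have h1 : orderOf v = p := orderOf_eq_prime (Subtype.ext (hpx v v.2)) hv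
    have h2 : p ∣ Nat.card V := by rw [← h1]; exact orderOf_dvd_natCard v
    exact h2.trans (Subgroup.card_map_dvd _ _)
  let e : (G ⧸ K) ⧸ V ≃* G ⧸ R := QuotientGroup.quotientQuotientEquivQuotient K R hKR
  exact hVne (chief_eq_bot (h5.quotient (by norm_num) K) (h7.quotient (by norm_num) K) V (hR p hp hpR) hab hpx
    (e.symm.toMonoidHom.comp f) (e.symm.injective.comp hf) hk)

end act

/-! ### The four groups -/

theorem nsmul_eq_zero_of {A : Type*} [AddCommGroup A] {m n : ℕ} (h : Nat.Coprime m n)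
    (hm : ∀ a : A, m • a = 0) (a : A) (hn : n • a = 0) : a = 0 := by
  have h1 := Nat.gcd_eq_gcd_ab m n
  rw [h] at h1
  have h2 : (1 : ℤ) • a = 0 := by
    rw [show (1 : ℤ) = ((1 : ℕ) : ℤ) from rfl, h1, add_smul, mul_comm, mul_smul, natCast_zsmul, hm, smul_zero,
      mul_comm, mul_smul, natCast_zsmul, hn, smul_zero, add_zero]
  rwa [one_smul] at h2

theorem char_cases {A : Type*} [AddCommGroup A]
    (h : (∀ a : A, a + a = 0) ∨ (∀ a : A, a + a + a = 0)) :
    (∀ a : A, 2 • a = 0) ∨ (∀ a : A, 3 • a = 0) := by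
  rcases h with h | h
  · left; intro a; rw [two_nsmul]; exact h a
  · right; intro a; rw [succ_nsmul, two_nsmul]; exact h a

theorem kill_alt : Kill.{u} (alternatingGroup (Fin 7)) := by
  intro A _ _ _ h h5 h7 a
  rcases h with h | h
  · exact ASeven.eq_zero_two h5 h7 h a
  · exact ASeven.eq_zero_three h5 h a

theorem kill_two {F : Type*} [Field F] [Fintype F] (hF : Fintype.card F = 49) : Kill.{u} (LTwo.TT F) := by
  intro A _ _ _ h h5 h7 a
  refine LTwo.eq_zero hF h7 ?_ a
  rcases char_cases h with h | h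
  · exact nsmul_eq_zero_of (by norm_num) h
  · exact nsmul_eq_zero_of (by norm_num) h

theorem kill_three : Kill.{u} LThree.T := by
  intro A _ _ _ h h5 h7 a
  obtain ⟨w', v', hw⟩ := LThreeFour.exists_isW F4.card
  rcases h with h | h
  · have h1 := LThreeFour.card_eq_one hw h h5 h7
    rw [Nat.card_eq_one_iff_unique] at h1
    obtain ⟨h1, -⟩ := h1
    exact Subsingleton.elim _ _
  · exact LThreeFour.eq_zero_three hw F4.card h h5 a

theorem kill_U : Kill.{u} UFour.U4 := by
  intro A _ _ _ h h5 h7 a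
  rcases char_cases h with h | h
  · exact UFour.eq_zero_two h5 (nsmul_eq_zero_of (by norm_num) h) a
  · exact UFour.eq_zero_three h5 (nsmul_eq_zero_of (by norm_num) h) a

/-! ### The main reduction -/

/-- the possible socles -/
def Soc (F49 : Type) [Field F49] (S : Type*) [Group S] : Prop :=
  Nonempty (S ≃* alternatingGroup (Fin 7)) ∨ Nonempty (S ≃* LTwo.TT F49) ∨ Nonempty (S ≃* LThree.T) ∨
    Nonempty (S ≃* UFour.U4)

theorem almost_simple {G : Type u} [Group G] [Finite G] (hG : Good G) (F49 : Type) [Field F49] [Fintype F49]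
    (h49 : Fintype.card F49 = 49) :
    ∃ S : Subgroup G, S.Normal ∧ centralizer (S : Set G) = ⊥ ∧ Soc F49 S := by
  have hpf : ∀ p : ℕ, p.Prime → p ∣ Nat.card G → p = 2 ∨ p = 3 ∨ p = 5 ∨ p = 7 := fun p hp h =>
    (mem_pf hG.pf hp).1 h
  have p2 : Nat.Prime 2 := Nat.prime_two
  have p3 : Nat.Prime 3 := Nat.prime_three
  have p5 : Nat.Prime 5 := Nat.prime_five
  have p7 : Nat.Prime 7 := by norm_num
  have f2 : Fact (Nat.Prime 2) := ⟨p2⟩
  have f5 : Fact (Nat.Prime 5) := ⟨p5⟩
  have f7 : Fact (Nat.Prime 7) := ⟨p7⟩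
  have I5 : Iso G 5 := iso_of_good hG (Or.inl rfl)
  have I7 : Iso G 7 := iso_of_good hG (Or.inr rfl)
  have d2 : 2 ∣ Nat.card G := (mem_pf hG.pf p2).2 (Or.inl rfl)
  have d5 : 5 ∣ Nat.card G := (mem_pf hG.pf p5).2 (Or.inr (Or.inr (Or.inl rfl)))
  have d7 : 7 ∣ Nat.card G := (mem_pf hG.pf p7).2 (Or.inr (Or.inr (Or.inr rfl)))
  have hns : ¬ Group.IsSolvable G := Coclique.not_isSolvable p2 p5 p7 (by norm_num) (by norm_num)
    (by norm_num) hG.no10 hG.no14 hG.no35 d2 d5 d7
  obtain ⟨R, hRn, hRs, hrad⟩ := AlmostSimple.exists_radical G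
  have J5 : Iso (G ⧸ R) 5 := I5.quotient p5 R
  have J7 : Iso (G ⧸ R) 7 := I7.quotient p7 R
  have hcardQ : Nat.card G = Nat.card (G ⧸ R) * Nat.card R :=
    Subgroup.card_eq_card_quotient_mul_card_subgroup R
  have hpfQ : ∀ p : ℕ, p.Prime → p ∣ Nat.card (G ⧸ R) → p = 2 ∨ p = 3 ∨ p = 5 ∨ p = 7 := fun p hp h =>
    hpf p hp (hcardQ ▸ h.mul_right _)
  have hnt : Nontrivial (G ⧸ R) := by
    rw [← not_subsingleton_iff_nontrivial]
    intro hsub
    apply hns
    have hRtop : R = ⊤ := by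
      rw [eq_top_iff]
      intro x _
      rw [← QuotientGroup.eq_one_iff]
      exact Subsingleton.elim _ _
    rw [hRtop] at hRs
    exact Group.isSolvable_of_surjective (f := (Subgroup.topEquiv (G := G)).toMonoidHom)
      (Subgroup.topEquiv (G := G)).surjective
  -- nonsolvable subgroups have order divisible by 5 or 7 and by 2
  have hpow : ∀ (H : Subgroup (G ⧸ R)), ¬ Group.IsSolvable H →
      2 ∣ Nat.card H ∧ (5 ∣ Nat.card H ∨ 7 ∣ Nat.card H) := by
    intro H hH
    refine ⟨two_dvd hH, ?_⟩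
    by_contra h57
    push Not at h57
    apply hH
    have hH0 : Nat.card H ≠ 0 := Nat.card_pos.ne'
    have hcard : Nat.card H = 2 ^ (Nat.card H).factorization 2 * 3 ^ (Nat.card H).factorization 3 := by
      conv_lhs => rw [← Nat.prod_factorization_pow_eq_self hH0]
      rw [Finsupp.prod_of_support_subset (s := {2, 3}) _ _ _ (by intros; exact pow_zero _)]
      · rw [Finset.prod_pair (by norm_num)]
      · intro p hp
        rw [Nat.support_factorization, Nat.mem_primeFactors] at hp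
        have hd : p ∣ Nat.card (G ⧸ R) := hp.2.1.trans (Subgroup.card_subgroup_dvd_card H)
        rcases hpfQ p hp.1 hd with rfl | rfl | rfl | rfl
        · simp
        · simp
        · exact absurd hp.2.1 h57.1
        · exact absurd hp.2.1 h57.2
    exact S0144.result 2 3 _ _ p2 p3 hcard
  have hcomm : ∀ A B : Subgroup (G ⧸ R), ¬ Group.IsSolvable A → ¬ Group.IsSolvable B →
      ¬ ∀ a ∈ A, ∀ b ∈ B, a * b = b * a := by
    intro A B hA hB hAB
    obtain ⟨a, ha⟩ := exists_prime_orderOf_dvd_card' (G := A) 2 (hpow A hA).1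
    have ha' : orderOf (a : G ⧸ R) = 2 := by rw [Subgroup.orderOf_coe, ha]
    rcases (hpow B hB).2 with h5' | h7'
    · obtain ⟨b, hb⟩ := exists_prime_orderOf_dvd_card' (G := B) 5 h5'
      exact J5.comm_false p5 p2 (by norm_num) (by rw [Subgroup.orderOf_coe, hb]) ha' (hAB a a.2 b b.2).symm
    · obtain ⟨b, hb⟩ := exists_prime_orderOf_dvd_card' (G := B) 7 h7'
      exact J7.comm_false p7 p2 (by norm_num) (by rw [Subgroup.orderOf_coe, hb]) ha' (hAB a a.2 b b.2).symm
  obtain ⟨S, hSn, hSs, hSns, hSC⟩ := AlmostSimple.exists_simple_normal hrad hcomm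
  -- a four-group
  have hnc := not_comm_of_not_solvable hSns
  obtain ⟨W, hW, hW2⟩ := H310.PerfTools.exists_four (T := S) hnc (two_dvd hSns)
  have hE : Nat.card (W.map S.subtype) = 4 := by
    rw [Nat.card_congr (W.equivMapOfInjective S.subtype S.subtype_injective).symm.toEquiv, hW]
  have hE2 : ∀ x ∈ W.map S.subtype, x * x = 1 := by
    rintro _ ⟨x, hx, rfl⟩
    rw [← map_mul, hW2 x hx, map_one]
  have hR : ∀ r : ℕ, r.Prime → 5 ≤ r → Iso G r → ¬ r ∣ Nat.card R := by
    intro r hr hr5 hI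
    rcases (hpow S hSns).2 with h5' | h7'
    · obtain ⟨b, hb⟩ := exists_prime_orderOf_dvd_card' (G := S) 5 h5'
      exact Iso.not_dvd hr hr5 hI R _ hE hE2 p5 (by norm_num) I5 ⟨b, by rw [Subgroup.orderOf_coe, hb]⟩
    · obtain ⟨b, hb⟩ := exists_prime_orderOf_dvd_card' (G := S) 7 h7'
      exact Iso.not_dvd hr hr5 hI R _ hE hE2 p7 (by norm_num) I7 ⟨b, by rw [Subgroup.orderOf_coe, hb]⟩
  have hR5 := hR 5 p5 le_rfl I5
  have hR7 := hR 7 p7 (by norm_num) I7
  have hQ5 : 5 ∣ Nat.card (G ⧸ R) := by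
    rw [hcardQ] at d5
    exact (p5.dvd_mul.1 d5).resolve_right hR5
  have hQ7 : 7 ∣ Nat.card (G ⧸ R) := by
    rw [hcardQ] at d7
    exact (p7.dvd_mul.1 d7).resolve_right hR7
  have hS5 : 5 ∣ Nat.card S := Iso.dvd_card p5 J5 S hSns hQ5
  have hS7 : 7 ∣ Nat.card S := Iso.dvd_card p7 J7 S hSns hQ7
  have hSpf : (Nat.card S).primeFactors = {2, 3, 5, 7} :=
    simple_pf hSns (fun p hp hd => hpfQ p hp (hd.trans (Subgroup.card_subgroup_dvd_card S))) hS5 hS7
  have hR23 : ∀ p : ℕ, p.Prime → p ∣ Nat.card R → p = 2 ∨ p = 3 := by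
    intro p hp hd
    rcases hpf p hp (hd.trans (Subgroup.card_subgroup_dvd_card R)) with h | h | rfl | rfl
    · exact Or.inl h
    · exact Or.inr h
    · exact absurd hd hR5
    · exact absurd hd hR7
  -- no elements of orders 10, 14, 15 in `S`
  have hno : ∀ r q : ℕ, r.Prime → q.Prime → r ≠ q → Iso (G ⧸ R) r → ∀ g : S, orderOf g ≠ q * r := by
    intro r q hr hq hrq hI g hg
    obtain ⟨k, hk⟩ := (hI.subgroup S) g (by rw [hg]; exact dvd_mul_left _ _)
    have h2 : q ∣ r ^ k := by rw [← hk, hg]; exact dvd_mul_right _ _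
    exact hrq ((Nat.prime_dvd_prime_iff_eq hq hr).1 (hq.dvd_of_dvd_pow h2)).symm
  have hmc : ¬ IsMulCommutative S := by
    intro h
    obtain ⟨a, b, hab⟩ := hnc
    exact hab (h.is_comm.comm a b)
  have hcases := Elim.cases hmc hSpf (hno 5 2 p5 p2 (by norm_num) J5) (hno 7 2 p7 p2 (by norm_num) J7)
    (hno 5 3 p5 p3 (by norm_num) J5)
  have hSoc : Soc F49 S := by
    rcases hcases with h | ⟨F, _, _, hF, ⟨e⟩⟩ | ⟨F, _, _, hF, ⟨e⟩⟩ | ⟨F, _, _, hF, ⟨e⟩⟩
    · exact Or.inl h
    · right; left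
      exact ⟨e.trans (LieClassical.FieldTransfer.pslCongr (FiniteField.ringEquivOfCardEq (hF.trans h49.symm)))⟩
    · right; right; left
      exact ⟨e.trans (LieClassical.FieldTransfer.pslCongr (FiniteField.ringEquivOfCardEq (hF.trans F4.card.symm)))⟩
    · right; right; right
      exact ⟨e.trans (LieClassical.FieldTransfer.psuCongr 4 3
        (FiniteField.ringEquivOfCardEq (hF.trans F9.card_F9.symm)))⟩
  have hRbot : R = ⊥ := by
    rcases hSoc with ⟨⟨e⟩⟩ | ⟨⟨e⟩⟩ | ⟨⟨e⟩⟩ | ⟨⟨e⟩⟩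
    · exact eq_bot I5 I7 R hRs hR23 (S.subtype.comp e.symm.toMonoidHom)
        (S.subtype_injective.comp e.symm.injective) kill_alt
    · exact eq_bot I5 I7 R hRs hR23 (S.subtype.comp e.symm.toMonoidHom)
        (S.subtype_injective.comp e.symm.injective) (kill_two h49)
    · exact eq_bot I5 I7 R hRs hR23 (S.subtype.comp e.symm.toMonoidHom)
        (S.subtype_injective.comp e.symm.injective) kill_three
    · exact eq_bot I5 I7 R hRs hR23 (S.subtype.comp e.symm.toMonoidHom)
        (S.subtype_injective.comp e.symm.injective) kill_U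
  let e0 : G ⧸ R ≃* G := (QuotientGroup.quotientMulEquivOfEq hRbot).trans QuotientGroup.quotientBot
  have e1 : S ≃* S.map e0.toMonoidHom := e0.subgroupMap S
  refine ⟨S.map e0.toMonoidHom, Subgroup.Normal.map hSn _ e0.surjective, ?_, ?_⟩
  · rw [eq_bot_iff]
    intro x hx
    rw [Subgroup.mem_centralizer_iff] at hx
    have h1 : e0.symm x ∈ centralizer (S : Set (G ⧸ R)) := by
      rw [Subgroup.mem_centralizer_iff]
      intro s hs
      apply e0.injective
      rw [map_mul, map_mul, MulEquiv.apply_symm_apply]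
      exact hx _ ⟨s, hs, rfl⟩
    rw [hSC, Subgroup.mem_bot] at h1
    rw [Subgroup.mem_bot, ← e0.apply_symm_apply x, h1, map_one]
  · rcases hSoc with ⟨⟨e⟩⟩ | ⟨⟨e⟩⟩ | ⟨⟨e⟩⟩ | ⟨⟨e⟩⟩
    · exact Or.inl ⟨e1.symm.trans e⟩
    · exact Or.inr (Or.inl ⟨e1.symm.trans e⟩)
    · exact Or.inr (Or.inr (Or.inl ⟨e1.symm.trans e⟩))
    · exact Or.inr (Or.inr (Or.inr ⟨e1.symm.trans e⟩))

end Cfsg.Agent.H422.Reduct
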