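import Cfsg.Agent.ChevalleyStructure.NineField
import Cfsg.Agent.H155.Unit
import Cfsg.Agent.H422.Recur
import Cfsg.Agent.H422.Graph
import Cfsg.Agent.H422.ModBase
import Cfsg.Agent.S0280
import Cfsg.Agent.S0283

/-!
# `PSU₄(3)`: orders of elements, `2⁴:5` and `3⁴:5`
-/

set_option autoImplicit false

namespace Cfsg.Agent.H422.UFour

open Matrix Cfsg.Agent.ChevalleyStructure.NineField Cfsg.Agent.H422.Recur Cfsg.Agent.H422.Graph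

abbrev M4 := Matrix (Fin 4) (Fin 4) F9
abbrev SU4 := Cfsg.SU 4 F9 3
abbrev U4 := Cfsg.PSU 4 F9 3

/-- conjugation -/
def cj : F9 →+* F9 where
  toFun x := ⟨x.re, -x.im⟩
  map_one' := by decide +kernel
  map_mul' := by decide +kernel
  map_zero' := by decide +kernel
  map_add' := by decide +kernel

theorem cj_pow : ∀ x : F9, cj x = x ^ 3 := by decide +kernel

theorem mem_SU_iff (g : Matrix.SpecialLinearGroup (Fin 4) F9) :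
    g ∈ Cfsg.SU 4 F9 3 ↔ (g : M4)ᵀ * (g : M4).map cj = 1 :=
  Cfsg.Agent.H155.Unit.mem_SU_iff_matrix cj cj_pow g

/-- elements of `SU₄(3)` from matrices -/
def mk (M : M4) (h : Mᵀ * M.map cj = 1) (hd : M.det = 1) : SU4 :=
  ⟨⟨M, hd⟩, (mem_SU_iff ⟨M, hd⟩).2 h⟩

def mat (g : SU4) : M4 := g.1.1

theorem mat_mk (M : M4) (h : Mᵀ * M.map cj = 1) (hd : M.det = 1) : mat (mk M h hd) = M := rfl

theorem mat_mul (a b : SU4) : mat (a * b) = mat a * mat b := rfl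

theorem mat_one : mat 1 = 1 := rfl

theorem mat_inj {a b : SU4} (h : mat a = mat b) : a = b := Subtype.ext (Subtype.ext h)

theorem mat_pow (a : SU4) (n : ℕ) : mat (a ^ n) = mat a ^ n := by
  induction n with
  | zero => rfl
  | succ n ih => rw [pow_succ, mat_mul, ih, pow_succ]

theorem mat_unit (g : SU4) : (mat g)ᵀ * (mat g).map cj = 1 := (mem_SU_iff g.1).1 g.2

theorem mat_det (g : SU4) : (mat g).det = 1 := g.1.2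

theorem mem_center {g : SU4} {r : F9} (h : mat g = r • (1 : M4)) : g ∈ Subgroup.center SU4 := by
  rw [Subgroup.mem_center_iff]
  intro y
  apply mat_inj
  rw [mat_mul, mat_mul, h, Matrix.mul_smul, Matrix.smul_mul, mul_one, one_mul]

/-! ### Orders of elements -/

theorem check : ∀ a b c : F9, cj b = b → cj a = c →
    ∃ k ∈ [4, 5, 6, 7, 8, 9, 12], (co4 (-a) (-b) (-c) (-1) k).1 = 0 ∧ (co4 (-a) (-b) (-c) (-1) k).2.1 = 0 ∧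
      (co4 (-a) (-b) (-c) (-1) k).2.2.1 = 0 := by
  decide +kernel

theorem su_pow (g : SU4) : ∃ k ∈ [4, 5, 6, 7, 8, 9, 12], ∃ r : F9, mat g ^ k = r • (1 : M4) := by
  set X := mat g with hX
  have h1 : X.map cj * Xᵀ = 1 := mul_eq_one_comm.1 (mat_unit g)
  have h2 := coeff_inv Xᵀ (X.map cj) h1 (by rw [det_transpose]; exact mat_det g)
  have h3 : (X.map cj).charpoly = X.charpoly.map cj := Matrix.charpoly_map X cj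
  rw [h3, Matrix.charpoly_transpose] at h2
  have e2 := h2 2 (by norm_num)
  have e3 := h2 3 (by norm_num)
  rw [Polynomial.coeff_map] at e2 e3
  have h4 := ch4 X
  rw [show X.det = 1 from mat_det g] at h4
  obtain ⟨k, hk, a1, a2, a3⟩ := check (X.charpoly.coeff 3) (X.charpoly.coeff 2) (X.charpoly.coeff 1) e2 e3
  exact ⟨k, hk, scalar_co4 h4 a1 a2 a3⟩

theorem psu_pow (g : U4) : ∃ k, Ok k ∧ g ^ k = 1 := by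
  obtain ⟨X, rfl⟩ := QuotientGroup.mk_surjective g
  obtain ⟨k, hk, r, hr⟩ := su_pow X
  refine ⟨k, ?_, ?_⟩
  · simp only [List.mem_cons, List.not_mem_nil, or_false] at hk
    rcases hk with rfl | rfl | rfl | rfl | rfl | rfl | rfl <;> decide
  · rw [← QuotientGroup.mk_pow, QuotientGroup.eq_one_iff]
    exact mem_center (r := r) ((mat_pow X k).trans hr)

/-! ### Elements -/

def mx : M4 := !![⟨1, 2⟩, ⟨0, 0⟩, ⟨1, 2⟩, ⟨0, 0⟩; ⟨1, 2⟩, ⟨0, 0⟩, ⟨2, 1⟩, ⟨0, 0⟩; ⟨0, 0⟩, ⟨1, 1⟩, ⟨0, 0⟩, ⟨1, 1⟩; ⟨0, 0⟩, ⟨2, 2⟩, ⟨0, 0⟩, ⟨1, 1⟩]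
def mt : M4 := !![⟨1, 2⟩, ⟨1, 0⟩, ⟨0, 0⟩, ⟨0, 1⟩; ⟨1, 2⟩, ⟨2, 1⟩, ⟨1, 0⟩, ⟨1, 2⟩; ⟨2, 2⟩, ⟨2, 0⟩, ⟨2, 2⟩, ⟨1, 1⟩; ⟨0, 1⟩, ⟨0, 0⟩, ⟨1, 0⟩, ⟨1, 1⟩]
def mw : M4 := !![⟨2, 0⟩, ⟨0, 0⟩, ⟨0, 0⟩, ⟨0, 0⟩; ⟨0, 0⟩, ⟨2, 0⟩, ⟨0, 0⟩, ⟨0, 0⟩; ⟨0, 0⟩, ⟨0, 0⟩, ⟨1, 1⟩, ⟨1, 1⟩; ⟨0, 0⟩, ⟨0, 0⟩, ⟨2, 1⟩, ⟨1, 2⟩]
def mw2 : M4 := !![⟨1, 0⟩, ⟨0, 0⟩, ⟨0, 0⟩, ⟨0, 0⟩; ⟨0, 0⟩, ⟨1, 0⟩, ⟨0, 0⟩, ⟨0, 0⟩; ⟨0, 0⟩, ⟨0, 0⟩, ⟨1, 2⟩, ⟨2, 2⟩; ⟨0, 0⟩, ⟨0, 0⟩, ⟨1, 2⟩, ⟨1, 1⟩]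
def mw3 : M4 := !![⟨2, 0⟩, ⟨0, 0⟩, ⟨0, 0⟩, ⟨0, 0⟩; ⟨0, 0⟩, ⟨2, 0⟩, ⟨0, 0⟩, ⟨0, 0⟩; ⟨0, 0⟩, ⟨0, 0⟩, ⟨1, 0⟩, ⟨0, 0⟩; ⟨0, 0⟩, ⟨0, 0⟩, ⟨0, 0⟩, ⟨1, 0⟩]
def mx2 : M4 := !![⟨0, 1⟩, ⟨2, 0⟩, ⟨0, 1⟩, ⟨2, 0⟩; ⟨0, 1⟩, ⟨1, 0⟩, ⟨0, 1⟩, ⟨1, 0⟩; ⟨2, 0⟩, ⟨0, 1⟩, ⟨1, 0⟩, ⟨0, 2⟩; ⟨1, 0⟩, ⟨0, 1⟩, ⟨2, 0⟩, ⟨0, 2⟩]
def mx4 : M4 := !![⟨1, 1⟩, ⟨1, 1⟩, ⟨0, 0⟩, ⟨0, 0⟩; ⟨0, 0⟩, ⟨0, 0⟩, ⟨1, 2⟩, ⟨2, 1⟩; ⟨1, 1⟩, ⟨2, 2⟩, ⟨0, 0⟩, ⟨0, 0⟩; ⟨0, 0⟩, ⟨0, 0⟩, ⟨1, 2⟩, ⟨1, 2⟩]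

def gx : SU4 := mk mx (by decide +kernel) (by decide +kernel)
def gt : SU4 := mk mt (by decide +kernel) (by decide +kernel)
def gw : SU4 := mk mw (by decide +kernel) (by decide +kernel)

theorem gx_two : mat (gx ^ 2) = mx2 := by
  rw [pow_two, mat_mul]; decide +kernel
theorem mat_pow_add (g : SU4) (m n : ℕ) : mat (g ^ (m + n)) = mat (g ^ m) * mat (g ^ n) := by
  rw [pow_add, mat_mul]
theorem gx_four : mat (gx ^ 4) = mx4 := by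
  refine (mat_pow_add gx 2 2).trans ?_
  rw [gx_two]; decide +kernel
theorem gx_five : gx ^ 5 = 1 := by
  apply mat_inj
  rw [pow_succ, mat_mul, gx_four]; decide +kernel

theorem gt_conj : gt * gx = gx ^ 2 * gt := by
  apply mat_inj
  rw [mat_mul, mat_mul, gx_two]; decide +kernel

theorem gw_two : mat (gw ^ 2) = mw2 := by
  rw [pow_two, mat_mul]; decide +kernel
theorem gw_three : mat (gw ^ 3) = mw3 := by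
  rw [pow_succ, mat_mul, gw_two]; decide +kernel
theorem gw_six : gw ^ (2 * 3) = 1 := by
  apply mat_inj
  refine (mat_pow_add gw 3 3).trans ?_
  rw [gw_three]; decide +kernel


/-! ### The subgroup `2⁴` of `PSU₄(3)` -/

abbrev A2 := ZMod 2 × ZMod 2 × ZMod 2 × ZMod 2

/-- Pauli matrices -/
def P (v : A2) : M4 := Matrix.of fun r s =>
  if r.val / 2 = (s.val / 2 + v.1.val) % 2 ∧ r.val % 2 = (s.val % 2 + v.2.2.1.val) % 2 then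
    (if (v.2.1.val * (s.val / 2) + v.2.2.2.val * (s.val % 2)) % 2 = 0 then 1 else -1) else 0

theorem P_unit : ∀ v : A2, (P v)ᵀ * (P v).map cj = 1 := by decide +kernel
theorem P_det : ∀ v : A2, (P v).det = 1 := by decide +kernel
theorem P_mul : ∀ v w : A2, P v * P w = P (v + w) ∨ P v * P w = - P (v + w) := by decide +kernel
theorem P_inj : ∀ v : A2, (∃ r : F9, P v = r • (1 : M4)) → v = 0 := by decide +kernel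


/-- the action of `x` -/
def act2 (v : A2) : A2 :=
  (v.2.2.1,
   v.2.1 + v.2.2.1 + v.2.2.2,
   v.2.1,
   v.1 + v.2.2.1)

theorem act2_fix : ∀ v : A2, act2 v = v → v = 0 := by decide +kernel
theorem act2_conj : ∀ v : A2, ∃ r : F9, mx * P v = r • (P (act2 v) * mx) := by decide +kernel


/-! ### The subgroup `3⁴` of `SU₄(3)` -/

abbrev A3 := ZMod 3 × ZMod 3 × ZMod 3 × ZMod 3

def cst (r : ZMod 3) : F9 := ⟨r, 0⟩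

theorem cst_add : ∀ r s : ZMod 3, cst (r + s) = cst r + cst s := by decide +kernel

def B1 : M4 := !![⟨0, 1⟩, ⟨0, 1⟩, ⟨1, 0⟩, ⟨0, 0⟩; ⟨0, 1⟩, ⟨0, 1⟩, ⟨1, 0⟩, ⟨0, 0⟩; ⟨2, 0⟩, ⟨2, 0⟩, ⟨0, 1⟩, ⟨0, 0⟩; ⟨0, 0⟩, ⟨0, 0⟩, ⟨0, 0⟩, ⟨0, 0⟩]
def B2 : M4 := !![⟨0, 1⟩, ⟨0, 2⟩, ⟨0, 0⟩, ⟨0, 2⟩; ⟨0, 2⟩, ⟨0, 1⟩, ⟨0, 0⟩, ⟨0, 1⟩; ⟨0, 0⟩, ⟨0, 0⟩, ⟨0, 0⟩, ⟨0, 0⟩; ⟨0, 2⟩, ⟨0, 1⟩, ⟨0, 0⟩, ⟨0, 1⟩]
def B3 : M4 := !![⟨0, 2⟩, ⟨0, 0⟩, ⟨1, 0⟩, ⟨0, 2⟩; ⟨0, 0⟩, ⟨0, 1⟩, ⟨2, 0⟩, ⟨0, 2⟩; ⟨2, 0⟩, ⟨1, 0⟩, ⟨0, 0⟩, ⟨1, 0⟩; ⟨0, 2⟩, ⟨0, 2⟩, ⟨2, 0⟩, ⟨0, 0⟩]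
def B4 : M4 := !![⟨0, 0⟩, ⟨2, 0⟩, ⟨0, 2⟩, ⟨1, 0⟩; ⟨1, 0⟩, ⟨0, 0⟩, ⟨0, 1⟩, ⟨1, 0⟩; ⟨0, 2⟩, ⟨0, 1⟩, ⟨0, 0⟩, ⟨0, 1⟩; ⟨2, 0⟩, ⟨2, 0⟩, ⟨0, 1⟩, ⟨0, 0⟩]

def S (v : A3) : M4 := cst v.1 • B1 + cst v.2.1 • B2 + cst v.2.2.1 • B3 + cst v.2.2.2 • B4

theorem S_add (v w : A3) : S (v + w) = S v + S w := by
  rw [S, S, S]
  simp only [Prod.fst_add, Prod.snd_add, cst_add, add_smul]
  abel

theorem B11 : B1 * B1 = 0 := by decide +kernel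
theorem B12 : B1 * B2 = 0 := by decide +kernel
theorem B13 : B1 * B3 = 0 := by decide +kernel
theorem B14 : B1 * B4 = 0 := by decide +kernel
theorem B21 : B2 * B1 = 0 := by decide +kernel
theorem B22 : B2 * B2 = 0 := by decide +kernel
theorem B23 : B2 * B3 = 0 := by decide +kernel
theorem B24 : B2 * B4 = 0 := by decide +kernel
theorem B31 : B3 * B1 = 0 := by decide +kernel
theorem B32 : B3 * B2 = 0 := by decide +kernel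
theorem B33 : B3 * B3 = 0 := by decide +kernel
theorem B34 : B3 * B4 = 0 := by decide +kernel
theorem B41 : B4 * B1 = 0 := by decide +kernel
theorem B42 : B4 * B2 = 0 := by decide +kernel
theorem B43 : B4 * B3 = 0 := by decide +kernel
theorem B44 : B4 * B4 = 0 := by decide +kernel

theorem S_mul (v w : A3) : S v * S w = 0 := by
  rw [S, S]
  simp only [add_mul, mul_add, smul_mul_smul_comm, B11, B12, B13, B14, B21, B22, B23, B24, B31, B32, B33,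
    B34, B41, B42, B43, B44, smul_zero, add_zero]

theorem S_unit : ∀ v : A3, (1 + S v)ᵀ * (1 + S v).map cj = 1 := by decide +kernel
theorem S_det : ∀ v : A3, (1 + S v).det = 1 := by decide +kernel
theorem S_inj : ∀ v : A3, 1 + S v = 1 → v = 0 := by decide +kernel

/-- the action of `x` -/
def act3 (v : A3) : A3 :=
  (2 * v.1 + 2 * v.2.1 + 1 * v.2.2.1,
   2 * v.1,
   1 * v.2.2.2,
   1 * v.1 + 1 * v.2.2.1)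

theorem act3_fix : ∀ v : A3, act3 v = v → v = 0 := by decide +kernel
theorem act3_conj : ∀ v : A3, mx * S v = S (act3 v) * mx := by decide +kernel

end Cfsg.Agent.H422.UFour
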