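import Cfsg.Agent.H19.Odd.Fi
import Cfsg.Agent.H509.Weak

/-!
# S4095 at the prime 2: the rows `Fi22`, `Fi23` by counting transpositions (helper422)

`fix_of_graph` : `E` a set of involutions, two of which commute or have a product of order 3, such that every member of
`E` has `k` neighbours (commuting, different) and two neighbours have `l` common neighbours, `2 l + 2 < k`.  An
automorphism `a` which leaves `E` invariant and all of whose commutators `(a s)⁻¹ * s` are trivial or of even order fixes
all members of `E`.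

Proof. The commutator of `a` with `d ∈ E` has order 1, 2 or 3, so `a d` commutes with `d`.  Let `g` be a neighbour of `d`;
if `a g` does not commute with `d` and `a d` does not commute with `g` then the commutator of `a` with `d g` is
`(a g * d) * (a d * g)`, a product of two commuting elements of order 3.  So one of the two commutes, and this happens for
at most `2 (l + 1)` neighbours `g`, if `a d ≠ d`.
-/

set_option autoImplicit false
set_option linter.unusedSectionVars false

namespace Cfsg.Agent.H422.WeakGraph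

open Subgroup Cfsg Cfsg.Agent.H516 Cfsg.Agent.Fischer480.Defs

universe u

section

variable {L : Type u} [Group L]

theorem cube_of_braid {x y : L} (hx : x * x = 1) (hy : y * y = 1) (h : x * y * x = y * x * y) : (x * y) ^ 3 = 1 := by
  calc (x * y) ^ 3 = (x * y * x) * (y * x * y) := by simp only [pow_succ, pow_zero, one_mul, mul_assoc]
    _ = (y * x * y) * (y * x * y) := by rw [h]
    _ = y * x * (y * y) * x * y := by group
    _ = y * (x * x) * y := by rw [hy]; group
    _ = 1 := by rw [hx, mul_one, hy]

theorem one_of_cube {a : MulAut L} (hb : Bad 2 a) {s : L} (h : ((a s)⁻¹ * s) ^ 3 = 1) : (a s)⁻¹ * s = 1 := by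
  rcases hb s with h1 | h1
  · exact h1
  · exfalso
    have h2 : orderOf ((a s)⁻¹ * s) ∣ 3 := orderOf_dvd_of_pow_eq_one h
    have h3 := h1.trans h2
    revert h3
    norm_num

variable {E : Set L} (sq : ∀ d ∈ E, d * d = 1)
  (three : ∀ x ∈ E, ∀ y ∈ E, x * y = y * x ∨ x * y * x = y * x * y)
  {a : MulAut L} (hb : Bad 2 a) (hE : ∀ d ∈ E, a d ∈ E)

include sq three hb hE

theorem commute_apply {d : L} (hd : d ∈ E) : Commute (a d) d := by
  rcases three (a d) (hE d hd) d hd with h | h
  · exact h
  · have h1 := cube_of_braid (sq _ (hE d hd)) (sq d hd) h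
    have h2 : (a d)⁻¹ = a d := inv_eq_of_mul_eq_one_left (sq _ (hE d hd))
    have h3 : (a d)⁻¹ * d = 1 := by
      apply one_of_cube hb
      rw [h2]
      exact h1
    rw [inv_mul_eq_one] at h3
    rw [h3]

theorem commute_or {d g : L} (hd : d ∈ E) (hg : g ∈ E) (hdg : Commute d g) :
    Commute (a d) g ∨ Commute (a g) d := by
  by_contra hcon
  rw [not_or] at hcon
  obtain ⟨h1, h2⟩ := hcon
  have ad := commute_apply sq three hb hE hd
  have ag := commute_apply sq three hb hE hg
  have adg : Commute (a d) (a g) := hdg.map a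
  have b1 : (a d * g) ^ 3 = 1 :=
    cube_of_braid (sq _ (hE d hd)) (sq g hg) ((three _ (hE d hd) _ hg).resolve_left h1)
  have b2 : (a g * d) ^ 3 = 1 :=
    cube_of_braid (sq _ (hE g hg)) (sq d hd) ((three _ (hE g hg) _ hd).resolve_left h2)
  have e1 : (a d)⁻¹ = a d := inv_eq_of_mul_eq_one_left (sq _ (hE d hd))
  have e2 : (a g)⁻¹ = a g := inv_eq_of_mul_eq_one_left (sq _ (hE g hg))
  -- `(a (d g))⁻¹ * (d g) = (a g * d) * (a d * g)`
  have e3 : (a (d * g))⁻¹ * (d * g) = (a g * d) * (a d * g) := by
    rw [map_mul, mul_inv_rev, e1, e2]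
    calc a g * a d * (d * g) = a g * (a d * d) * g := by group
      _ = a g * (d * a d) * g := by rw [ad.eq]
      _ = a g * d * (a d * g) := by group
  have c1 : Commute (a g * d) (a d * g) := by
    apply Commute.mul_right
    · exact Commute.mul_left adg.symm ad.symm
    · exact Commute.mul_left ag hdg
  have e4 : (a (d * g))⁻¹ * (d * g) = 1 := by
    apply one_of_cube hb
    rw [e3, c1.mul_pow, b1, b2, one_mul]
  rw [e3] at e4
  -- `a g * d = (a d * g)⁻¹` commutes with `d`
  apply h2
  have h3 : a g * d = (a d * g)⁻¹ := eq_inv_of_mul_eq_one_left e4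
  have h4 : Commute (a g * d) d := by
    rw [h3]
    exact (Commute.mul_left ad hdg.symm).inv_left
  have h5 : a g = a g * d * d⁻¹ := by group
  rw [h5]
  exact Commute.mul_left h4 (Commute.refl d).inv_left

/-- **All members of `E` are fixed.** -/
theorem fix_of_graph [Finite L] {k l : ℕ} (hk : ∀ x ∈ E, (Loc E x).ncard = k)
    (hl : ∀ x ∈ E, ∀ y ∈ Loc E x, (Loc (Loc E x) y).ncard = l) (hkl : 2 * l + 2 < k) {d : L} (hd : d ∈ E) :
    a d = d := by
  by_contra hne
  have ad := commute_apply sq three hb hE hd
  have hL : a d ∈ Loc E d := ⟨hE d hd, hne, ad.symm⟩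
  have hL' : d ∈ Loc E (a d) := ⟨hd, fun h => hne h.symm, ad⟩
  have h1 : Loc E d ⊆ insert (a d) (Loc (Loc E d) (a d)) ∪ a ⁻¹' (insert d (Loc (Loc E (a d)) d)) := by
    rintro g ⟨hg, hgd, hdg⟩
    rcases commute_or sq three hb hE hd hg hdg with h | h
    · left
      by_cases h2 : g = a d
      · exact Or.inl h2
      · exact Or.inr ⟨⟨hg, hgd, hdg⟩, h2, h⟩
    · right
      change a g ∈ insert d (Loc (Loc E (a d)) d)
      by_cases h2 : a g = d
      · exact Or.inl h2
      · exact Or.inr ⟨⟨hE g hg, fun h3 => hgd (a.injective h3), hdg.map a⟩, h2, h.symm⟩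
  have c1 : (insert (a d) (Loc (Loc E d) (a d))).ncard ≤ l + 1 := by
    rw [← hl d hd _ hL]
    exact Set.ncard_insert_le _ _
  have c2 : (insert d (Loc (Loc E (a d)) d)).ncard ≤ l + 1 := by
    rw [← hl (a d) (hE d hd) _ hL']
    exact Set.ncard_insert_le _ _
  have c3 : (a ⁻¹' (insert d (Loc (Loc E (a d)) d))).ncard = (insert d (Loc (Loc E (a d)) d)).ncard :=
    Set.ncard_preimage_of_injective_subset_range a.injective (fun x _ => a.surjective x)
  have c4 := Set.ncard_le_ncard h1 (Set.toFinite _)
  have c5 := Set.ncard_union_le (insert (a d) (Loc (Loc E d) (a d))) (a ⁻¹' (insert d (Loc (Loc E (a d)) d)))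
  rw [hk d hd] at c4
  omega

theorem one_of_graph [Finite L] {k l : ℕ} (hk : ∀ x ∈ E, (Loc E x).ncard = k)
    (hl : ∀ x ∈ E, ∀ y ∈ Loc E x, (Loc (Loc E x) y).ncard = l) (hkl : 2 * l + 2 < k) (hgen : closure E = ⊤) : a = 1 := by
  have h1 : (⊤ : Subgroup L) ≤ fixedSubgroup a := by
    rw [← hgen, closure_le]
    intro d hd
    exact fix_of_graph sq three hb hE hk hl hkl hd
  ext g
  exact h1 (mem_top g)

end

/-- **Row `Fi22` at 2** -/
theorem row_fi22 {L : Type u} [Group L] [Finite L] (h : Spor.IsoFi22 L) : Row 2 L := by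
  obtain ⟨e⟩ := h
  let E : Set L := {x | e x ∈ R01.Fi22Facts.T}
  have h6 : IsT6 E := Cfsg.Agent.Fischer480.Transport.isT6 (H816.Quasi.cIso_map e fun x => Iff.rfl) H830.Con22.isT6
  have kt := OddHalf.D8.Fi22.kTrans0
  rw [row_iff]
  intro a ha
  refine one_of_graph (E := E) ?_ ?_ ha ?_ (k := 693) (l := 180) (fun x hx => (TSp.UCount.numbers_six (h6.2.1 x hx)).1)
    (fun x hx y hy => (TSp.UCount.numbers_six (h6.2.1 x hx)).2.1 y hy) (by norm_num) ?_
  · intro d hd
    apply e.injective
    rw [map_mul, map_one]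
    exact kt.sq _ hd
  · intro x hx y hy
    rcases kt.three _ hx _ hy with h1 | h1
    · left
      apply e.injective
      rw [map_mul, map_mul, h1]
    · right
      apply e.injective
      rw [map_mul, map_mul, map_mul, map_mul, h1]
  · intro d hd
    have h1 := kt.aut ((e.symm.trans a).trans e) _ hd
    have h2 : ((e.symm.trans a).trans e) (e d) = e (a d) := by
      simp
    rw [h2] at h1
    exact h1
  · have h1 : (closure E).map e.toMonoidHom = ⊤ := by
      rw [MonoidHom.map_closure, ← kt.gen]
      congr 1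
      ext x
      constructor
      · rintro ⟨y, hy, rfl⟩
        exact hy
      · intro hx
        refine ⟨e.symm x, ?_, e.apply_symm_apply x⟩
        change e (e.symm x) ∈ R01.Fi22Facts.T
        rw [e.apply_symm_apply]
        exact hx
    rw [eq_top_iff]
    intro g _
    have h2 : e g ∈ (closure E).map e.toMonoidHom := by rw [h1]; exact mem_top _
    obtain ⟨g', hg', h3⟩ := h2
    rw [← e.injective h3]
    exact hg'

/-- **Row `Fi23` at 2** -/
theorem row_fi23 {L : Type u} [Group L] [Finite L] (h : Spor.IsoFi23 L) : Row 2 L := by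
  obtain ⟨e⟩ := h
  let E : Set L := {x | e x ∈ R08.FiTwentyThree.D}
  have h7 : IsT7 E := Cfsg.Agent.Fischer480.Transport.isT7 (H816.Quasi.cIso_map e fun x => Iff.rfl)
    (H816.Quasi.isT7_of H830.Con22.isT6)
  rw [row_iff]
  intro a ha
  refine one_of_graph (E := E) ?_ ?_ ha ?_ (k := 3510) (l := 693) (fun x hx => (h7.2.1 x hx).1)
    (fun x hx y hy => (TSp.UCount.numbers_six ((h7.2.1 x hx).2.1 y hy)).1) (by norm_num) ?_
  · intro d hd
    apply e.injective
    rw [map_mul, map_one]
    exact R08.FiTwentyThree.sq_D hd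
  · intro x hx y hy
    rcases R08.FiTwentyThree.three_D hx hy with h1 | h1
    · left
      apply e.injective
      rw [map_mul, map_mul, h1]
    · right
      apply e.injective
      rw [map_mul, map_mul, map_mul, map_mul]
      have s1 := R08.FiTwentyThree.sq_D hx
      have s2 := R08.FiTwentyThree.sq_D hy
      rw [← mul_left_inj (e y * e x * e y), show e y * e x * e y * (e y * e x * e y) = 1 by
        calc e y * e x * e y * (e y * e x * e y) = e y * e x * (e y * e y) * e x * e y := by group
          _ = e y * (e x * e x) * e y := by rw [s2]; group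
          _ = 1 := by rw [s1, mul_one, s2], ← h1]
      simp only [pow_succ, pow_zero, one_mul, mul_assoc]
  · intro d hd
    obtain ⟨g, hg⟩ := KFacts.FiTTh.Has.inn ((e.symm.trans a).trans e)
    have h2 : ((e.symm.trans a).trans e) (e d) = e (a d) := by
      simp
    show e (a d) ∈ R08.FiTwentyThree.D
    rw [← h2, hg, MulAut.conj_apply]
    exact R08.FiTwentyThree.conj_mem_D hd g
  · have h1 : (closure E).map e.toMonoidHom = ⊤ := by
      rw [MonoidHom.map_closure, eq_top_iff, ← Fischer.Fi23Final.gens_top, closure_le]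
      rintro _ ⟨x, rfl⟩
      apply Subgroup.subset_closure
      refine ⟨e.symm _, ?_, e.apply_symm_apply _⟩
      change e (e.symm _) ∈ R08.FiTwentyThree.D
      rw [e.apply_symm_apply]
      exact R08.FiTwentyThree.gen_mem_D x
    rw [eq_top_iff]
    intro g _
    have h2 : e g ∈ (closure E).map e.toMonoidHom := by rw [h1]; exact mem_top _
    obtain ⟨g', hg', h3⟩ := h2
    rw [← e.injective h3]
    exact hg'

end Cfsg.Agent.H422.WeakGraph
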